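import Groth.Agent.GrpSchLib.Component
import Groth.Agent.ASp.PropDescend
import Mathlib

/-!
# A smooth connected group scheme over a field is geometrically integral
-/

set_option autoImplicit false
set_option backward.isDefEq.respectTransparency false

universe u

open CategoryTheory CategoryTheory.Limits MonoidalCategory CartesianMonoidalCategory MonObj AlgebraicGeometry

noncomputable section

namespace Groth.Agent.AVLib

theorem geometricallyReduced_of_smooth {X Y : Scheme.{u}} (f : X ⟶ Y) [Smooth f] : GeometricallyReduced f := by
  refine ⟨?_⟩
  rw [geometrically_iff_of_isClosedUnderIsomorphisms]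
  intro K _ y
  haveI : Smooth (pullback.snd f y) := MorphismProperty.pullback_snd _ _ ‹_›
  exact ASp.isReduced_of_smooth (pullback.snd f y)

theorem geometricallyIntegral_of_smooth {K : Type u} [Field K] (G : Over (Spec (CommRingCat.of K))) [GrpObj G]
    [Smooth G.hom] [GeometricallyConnected G.hom] : GeometricallyIntegral G.hom := by
  haveI : Subsingleton ↥(Spec (CommRingCat.of K)) := inferInstanceAs (Subsingleton (PrimeSpectrum K))
  haveI : ConnectedSpace G.left := GeometricallyConnected.connectedSpace_of_subsingleton G.hom
  haveI : LocallyOfFiniteType G.hom := inferInstance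
  haveI : IrreducibleSpace G.left := GrpSchLib.irreducibleSpace_of_connectedSpace
  haveI : IsReduced G.left := ASp.isReduced_of_smooth G.hom
  haveI : Surjective (GrpSchLib.idIncl G).left := ⟨fun x => by
    have h : x ∈ GrpSchLib.idComp G := by
      have huniv : IsIrreducible (Set.univ : Set G.left) := IrreducibleSpace.isIrreducible_univ G.left
      exact GrpSchLib.subset_irreducibleComponent huniv trivial trivial
    rw [← GrpSchLib.range_idIncl] at h
    exact h⟩
  haveI : IsIso (GrpSchLib.idIncl G).left := isIso_of_isClosedImmersion_of_surjective _
  haveI : GeometricallyIrreducible G.hom := by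
    have h : GeometricallyIrreducible ((GrpSchLib.idIncl G).left ≫ G.hom) :=
      GrpSchLib.geometricallyIrreducible_idObj
    exact (MorphismProperty.cancel_left_of_respectsIso @GeometricallyIrreducible _ _).1 h
  haveI := geometricallyReduced_of_smooth G.hom
  exact GeometricallyIntegral.of_geometricallyReduced_of_geometricallyIrreducible G.hom

end Groth.Agent.AVLib
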