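import Groth.Agent.FlatBC.Scheme
import Groth.Agent.RpushLib.Finite
import Groth.Agent.CubeLib.SeesawPoint
import Groth.Agent.CubeLib.Artin

/-!
# Triviality of invertible modules descends along field extensions
-/

set_option autoImplicit false
set_option backward.isDefEq.respectTransparency false

universe u

open CategoryTheory CategoryTheory.Limits AlgebraicGeometry
open scoped TensorProduct

noncomputable section

namespace Groth.Agent.AVLib

variable {K K' : Type u} [Field K] [Field K'] [Algebra K K'] {V V' : Scheme.{u}} {p : V ⟶ Spec (CommRingCat.of K)}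
  {p' : V' ⟶ Spec (CommRingCat.of K')} {g : V' ⟶ V}

/-- A nonzero section after an extension of the ground field gives a nonzero section. -/
theorem exists_ne_zero_of_bc (hc : IsPullback g p' p (Spec.map (CommRingCat.ofHom (algebraMap K K'))))
    [CompactSpace V] [QuasiSeparatedSpace V] (M : V.Modules) [Coh.IsQCoh M]
    {σ' : Γ((Scheme.Modules.pullback g).obj M, ⊤)} (hσ' : σ' ≠ 0) : ∃ σ : Γ(M, ⊤), σ ≠ 0 := by
  let a : K ≃+* Γ(Spec (CommRingCat.of K), ⊤) :=
    (Scheme.ΓSpecIso (CommRingCat.of K)).symm.commRingCatIsoToRingEquiv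
  let b : K' ≃+* Γ(Spec (CommRingCat.of K'), ⊤) :=
    (Scheme.ΓSpecIso (CommRingCat.of K')).symm.commRingCatIsoToRingEquiv
  obtain ⟨e⟩ := FlatBC.nonempty_affine hc M a b
    (fun x => (congr($(Scheme.ΓSpecIso_inv_naturality (CommRingCat.ofHom (algebraMap K K'))).hom x)).symm) 0
  by_contra h
  push Not at h
  have hsub : Subsingleton (Coh.HH V M 0) := ⟨fun x y => by
    rw [← (RpushLib.h0Γ M).apply_symm_apply x, ← (RpushLib.h0Γ M).apply_symm_apply y, h ((RpushLib.h0Γ M).symm x), h ((RpushLib.h0Γ M).symm y)]⟩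
  have hsub' : Subsingleton (Coh.HH V' (FlatBC.gM g M) 0) := e.symm.injective.subsingleton
  exact hσ' ((RpushLib.h0Γ (FlatBC.gM g M)).injective (Subsingleton.elim _ _))

theorem exists_ne_zero_of_triv {X : Scheme.{u}} [Nonempty X] {L : X.Modules} (h : CubeLib.Triv L) :
    ∃ τ : Γ(L, ⊤), τ ≠ 0 := by
  obtain ⟨τ, hτ⟩ := h
  haveI : Nonempty ↥(⊤ : X.Opens) := ⟨⟨Classical.arbitrary X, trivial⟩⟩
  refine ⟨τ, fun h0 => one_ne_zero (α := Γ(X, ⊤)) ((hτ ⊤ le_rfl).1 ?_)⟩
  simp [h0]

/-- Triviality descends along an extension of the ground field. -/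
theorem triv_of_bc (hc : IsPullback g p' p (Spec.map (CommRingCat.ofHom (algebraMap K K'))))
    [UniversallyClosed p] [IsSeparated p] [QuasiCompact p] [IsIntegral V] {L : V.Modules} (hL : PicF.IsInvertible L)
    (h : CubeLib.Triv ((Scheme.Modules.pullback g).obj L)) : CubeLib.Triv L := by
  haveI : CompactSpace V := QuasiCompact.compactSpace_of_compactSpace p
  haveI : V.IsSeparated := ⟨by rw [← terminal.comp_from p]; infer_instance⟩
  haveI : Nonempty V' := by
    haveI : Surjective (Spec.map (CommRingCat.ofHom (algebraMap K K'))) :=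
      ⟨fun z => ⟨Classical.arbitrary (PrimeSpectrum K'), Subsingleton.elim (α := PrimeSpectrum K) _ _⟩⟩
    haveI : Surjective g := MorphismProperty.of_isPullback hc.flip ‹Surjective _›
    exact (g.surjective (Classical.arbitrary V)).elim fun x _ => ⟨x⟩
  obtain ⟨N, hN, ⟨e⟩⟩ := AmpleEmb.exists_isInverseOf hL
  haveI := InvExt.isQCoh_of_isInvertible hL
  haveI := InvExt.isQCoh_of_isInvertible hN
  obtain ⟨eL⟩ := CubeLib.triv_iff.1 h
  have hN' : CubeLib.Triv ((Scheme.Modules.pullback g).obj N) := CubeLib.triv_iff.2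
    ⟨(AmpleLib.unitL _).symm ≪≫ AmpleLib.tIso eL.symm (Iso.refl _) ≪≫ (AmpleLib.pullTensor g L N).symm ≪≫
      (Scheme.Modules.pullback g).mapIso e ≪≫ AmpleLib.pullO g⟩
  obtain ⟨τ', hτ'⟩ := exists_ne_zero_of_triv h
  obtain ⟨ν', hν'⟩ := exists_ne_zero_of_triv hN'
  obtain ⟨σ, hσ⟩ := exists_ne_zero_of_bc hc L hτ'
  obtain ⟨ν, hν⟩ := exists_ne_zero_of_bc hc N hν'
  exact CubeLib.triv_of_sections (isField_of_universallyClosed K p) hL hN e hσ hν

end Groth.Agent.AVLib
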