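import Groth.Agent.AVLib.Descend
import Groth.Agent.CubeLib.Seesaw

/-!
# Functions on proper geometrically integral schemes
-/

set_option autoImplicit false
set_option backward.isDefEq.respectTransparency false

universe u

open CategoryTheory CategoryTheory.Limits AlgebraicGeometry
open scoped TensorProduct

noncomputable section

namespace Groth.Agent.AVLib

variable {K : Type u} [Field K]

/-- A proper integral scheme over an algebraically closed field has only constant functions. -/
theorem surjective_appTop_of_isAlgClosed [IsAlgClosed K] {X : Scheme.{u}} (f : X ⟶ Spec (CommRingCat.of K))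
    [UniversallyClosed f] [IsIntegral X] :
    Function.Surjective ((Scheme.ΓSpecIso (CommRingCat.of K)).inv ≫ f.appTop).hom := by
  let := (isField_of_universallyClosed K f).toField
  refine (IsAlgClosed.ringHom_bijective_of_isIntegral _ ?_).2
  exact RingHom.isIntegral_respectsIso.2 (f.appTop.hom) (Scheme.ΓSpecIso _).symm.commRingCatIsoToRingEquiv
    (isIntegral_appTop_of_universallyClosed f)

/-- A proper geometrically integral scheme over a field has only constant functions. -/
theorem bijective_appTop {X : Scheme.{u}} (f : X ⟶ Spec (CommRingCat.of K))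
    [IsProper f] [GeometricallyIntegral f] :
    Function.Bijective ((Scheme.ΓSpecIso (CommRingCat.of K)).inv ≫ f.appTop).hom := by
  haveI : IsIntegral X := GeometricallyIntegral.isIntegral_of_subsingleton f
  let L := AlgebraicClosure K
  let g := pullback.fst f (Spec.map (CommRingCat.ofHom (algebraMap K L)))
  let f' := pullback.snd f (Spec.map (CommRingCat.ofHom (algebraMap K L)))
  haveI : GeometricallyIntegral f' := MorphismProperty.pullback_snd _ _ inferInstance
  haveI : IsIntegral (pullback f (Spec.map (CommRingCat.ofHom (algebraMap K L)))) :=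
    GeometricallyIntegral.isIntegral_of_subsingleton f'
  haveI : CompactSpace X := QuasiCompact.compactSpace_of_compactSpace f
  haveI : X.IsSeparated := ⟨by rw [← terminal.comp_from f]; infer_instance⟩
  haveI := InvExt.isQCoh_of_isInvertible (ParaFLib.isInvertible_structureModule (X := X))
  let a : K ≃+* Γ(Spec (CommRingCat.of K), ⊤) :=
    (Scheme.ΓSpecIso (CommRingCat.of K)).symm.commRingCatIsoToRingEquiv
  let b : L ≃+* Γ(Spec (CommRingCat.of L), ⊤) :=
    (Scheme.ΓSpecIso (CommRingCat.of L)).symm.commRingCatIsoToRingEquiv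
  obtain ⟨e⟩ := FlatBC.nonempty_affine (IsPullback.of_hasPullback f (Spec.map (CommRingCat.ofHom (algebraMap K L))))
    (Coh.structureModule X) a b
    (fun x => (congr($(Scheme.ΓSpecIso_inv_naturality (CommRingCat.ofHom (algebraMap K L))).hom x)).symm) 0
  letI : Module K (Coh.HH X (Coh.structureModule X) 0) := Module.compHom _ (FlatBC.globalHom f a)
  letI : Module L (Coh.HH _ (FlatBC.gM g (Coh.structureModule X)) 0) := Module.compHom _ (FlatBC.globalHom f' b)
  obtain ⟨τ, hτ⟩ := CubeLib.triv_iff.2 ⟨AmpleLib.pullO (X' := pullback f (Spec.map (CommRingCat.ofHom (algebraMap K L)))) g⟩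
  have hrk : Module.finrank L (Coh.HH _ (FlatBC.gM g (Coh.structureModule X)) 0) ≤ 1 ∧
      Module.Finite L (Coh.HH _ (FlatBC.gM g (Coh.structureModule X)) 0) := by
    have hspan : ∀ z : Coh.HH _ (FlatBC.gM g (Coh.structureModule X)) 0,
        ∃ c : L, c • RpushLib.h0Γ (FlatBC.gM g (Coh.structureModule X)) τ = z := fun z => by
      obtain ⟨r, hr⟩ := (hτ ⊤ le_rfl).2 ((RpushLib.h0Γ (FlatBC.gM g (Coh.structureModule X))).symm z)
      obtain ⟨c, hc⟩ := surjective_appTop_of_isAlgClosed f' r
      refine ⟨c, ?_⟩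
      show (show Coh.Γtop _ from ((Scheme.ΓSpecIso (CommRingCat.of L)).inv ≫ f'.appTop).hom c) • _ = z
      rw [hc, ← RpushLib.h0Γ_smul]
      have hr' : r • τ = (RpushLib.h0Γ (FlatBC.gM g (Coh.structureModule X))).symm z := by
        simpa using hr
      rw [hr', AddEquiv.apply_symm_apply]
    exact ⟨finrank_le_one _ hspan, Module.Finite.of_surjective
      (LinearMap.toSpanSingleton L _ (RpushLib.h0Γ (FlatBC.gM g (Coh.structureModule X)) τ)) hspan⟩
  haveI := hrk.2
  haveI : Module.Finite L (L ⊗[K] Coh.HH X (Coh.structureModule X) 0) := Module.Finite.equiv e.symm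
  haveI : Module.Finite K (Coh.HH X (Coh.structureModule X) 0) := by
    refine Module.rank_lt_aleph0_iff.1 ?_
    have := Module.rank_lt_aleph0 L (L ⊗[K] Coh.HH X (Coh.structureModule X) 0)
    rwa [Module.rank_baseChange, Cardinal.lift_id] at this
  have h1 : Module.finrank K (Coh.HH X (Coh.structureModule X) 0) ≤ 1 := by
    rw [← Module.finrank_baseChange (R := L)]
    exact e.finrank_eq.trans_le hrk.1
  haveI : Nonempty ↥(⊤ : X.Opens) := ⟨⟨Classical.arbitrary X, trivial⟩⟩
  refine ⟨RingHom.injective _, fun F => ?_⟩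
  let one : Coh.HH X (Coh.structureModule X) 0 :=
    RpushLib.h0Γ (Coh.structureModule X) (show Γ(Coh.structureModule X, ⊤) from (1 : Γ(X, ⊤)))
  have hone : one ≠ 0 := fun h0 => one_ne_zero (α := Γ(X, ⊤))
    ((RpushLib.h0Γ (Coh.structureModule X)).injective (h0.trans (map_zero _).symm))
  obtain ⟨v, hv⟩ := finrank_le_one_iff.1 h1
  obtain ⟨c₁, hc₁⟩ := hv one
  have hc0 : c₁ ≠ 0 := by
    rintro rfl
    exact hone (by rw [← hc₁, zero_smul])
  obtain ⟨c, hc⟩ := hv (RpushLib.h0Γ (Coh.structureModule X) (show Γ(Coh.structureModule X, ⊤) from F))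
  refine ⟨c * c₁⁻¹, ?_⟩
  apply (RpushLib.h0Γ (Coh.structureModule X)).injective (a₁ := (show Γ(Coh.structureModule X, ⊤) from _))
    (a₂ := (show Γ(Coh.structureModule X, ⊤) from F))
  have e1 : (c * c₁⁻¹) • one = RpushLib.h0Γ (Coh.structureModule X) (show Γ(Coh.structureModule X, ⊤) from F) := by
    rw [← hc₁, smul_smul, inv_mul_cancel_right₀ hc0, hc]
  rw [← e1]
  show _ = (show Coh.Γtop X from ((Scheme.ΓSpecIso (CommRingCat.of K)).inv ≫ f.appTop).hom (c * c₁⁻¹)) • one
  rw [← RpushLib.h0Γ_smul]
  congr 1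
  exact (mul_one (M := Γ(X, ⊤)) _).symm

end Groth.Agent.AVLib
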