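import Groth.Agent.AVLib.Base
import Groth.Agent.AVLib.Const

/-!
# The seesaw principle without a section
-/

set_option autoImplicit false
set_option backward.isDefEq.respectTransparency false

universe u

open CategoryTheory CategoryTheory.Limits AlgebraicGeometry
open Groth.Agent.AmpleLib

noncomputable section

namespace Groth.Agent.AVLib

variable {X Y : Scheme.{u}} (f : X ⟶ Y) [IsProper f] [Flat f] [GeometricallyIntegral f]

theorem bijective_fiber (y : Y) : Function.Bijective (algebraMap (Y.residueField y) Γ(f.fiber y, ⊤)) := by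
  haveI : IsProper (f.fiberToSpecResidueField y) := MorphismProperty.pullback_snd f (Y.fromSpecResidueField y) inferInstance
  haveI : GeometricallyIntegral (f.fiberToSpecResidueField y) :=
    MorphismProperty.pullback_snd f (Y.fromSpecResidueField y) inferInstance
  exact bijective_appTop (f.fiberToSpecResidueField y)

variable [IsLocallyNoetherian Y]

/-- Fibrewise triviality on a dense set gives fibrewise triviality. -/
theorem triv_fiber_of_dense {L : X.Modules} (hL : PicF.IsInvertible L) {S : Set Y} (hS : Dense S)
    (h : ∀ y ∈ S, CubeLib.Triv ((Scheme.Modules.pullback (f.fiberι y)).obj L)) (y : Y) :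
    CubeLib.Triv ((Scheme.Modules.pullback (f.fiberι y)).obj L) := by
  obtain ⟨N, hN, ⟨e⟩⟩ := AmpleEmb.exists_isInverseOf hL
  have hNy : ∀ y ∈ S, CubeLib.Triv ((Scheme.Modules.pullback (f.fiberι y)).obj N) := fun y hy => by
    obtain ⟨i⟩ := CubeLib.triv_iff.1 (h y hy)
    let g := f.fiberι y
    exact CubeLib.triv_iff.2 ⟨(unitL _).symm ≪≫ AmpleLib.tIso i.symm (Iso.refl _) ≪≫ (pullTensor g L N).symm ≪≫
      (Scheme.Modules.pullback g).mapIso e ≪≫ pullO g⟩
  have key : ∀ M : X.Modules, PicF.IsInvertible M →
      (∀ y ∈ S, CubeLib.Triv ((Scheme.Modules.pullback (f.fiberι y)).obj M)) → 0 < CohIII.fiberRank f M 0 y :=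
    fun M hM hMy => (CubeLib.isClosed_fiberRank_pos f hM).closure_subset_iff.2
      (fun z hz => Nat.one_pos.trans_eq (CubeLib.fiberRank_eq_one_of_triv f z (bijective_fiber f z) (hMy z hz)).symm)
      (hS y)
  exact CubeLib.triv_fiber_of_fiberRank_pos f hL hN e y (key L hL h) (key N hN hNy)

/-- A module trivial on a dense set of fibres comes from a reduced base. -/
theorem exists_iso_pullback [IsReduced Y] {P : X.Modules} (hP : PicF.IsInvertible P) {S : Set Y} (hS : Dense S)
    (h : ∀ y ∈ S, CubeLib.Triv ((Scheme.Modules.pullback (f.fiberι y)).obj P)) :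
    ∃ N : Y.Modules, PicF.IsInvertible N ∧ Nonempty ((Scheme.Modules.pullback f).obj N ≅ P) :=
  exists_iso_pullback_of_locally f hP
    (CubeLib.exists_gen_nhd_of_fibres f (bijective_fiber f) hP (triv_fiber_of_dense f hP hS h))
    fun y => BCLib.exists_nhd_bijective_app f y (bijective_fiber f y)

end Groth.Agent.AVLib
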