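import Groth.Agent.AVLib.Isog
import Groth.Agent.MonoFibre.RedSubgroup
import Groth.Agent.MonoFibre.Connected

/-!
# The identity component as a subgroup variety
-/

set_option autoImplicit false
set_option backward.isDefEq.respectTransparency false

universe u

open CategoryTheory CategoryTheory.Limits MonoidalCategory CartesianMonoidalCategory MonObj AlgebraicGeometry

noncomputable section

namespace Groth.Agent.AVLib

open GrpSchLib

variable {K : Type u} [Field K] {G : Over (Spec (CommRingCat.of K))} [GrpObj G]

theorem mul_mem_idComp {T : Over (Spec (CommRingCat.of K))} (a b : T ⟶ G) (t : T.left)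
    (ha : a.left t ∈ idComp G) (hb : b.left t ∈ idComp G) : (a * b).left t ∈ idComp G := by
  let q := (lift a b).left t
  have hqa : (fst G G).left q = a.left t := by
    rw [← Scheme.Hom.comp_apply, ← Over.comp_left, lift_fst]
  have hqb : (snd G G).left q = b.left t := by
    rw [← Scheme.Hom.comp_apply, ← Over.comp_left, lift_snd]
  obtain ⟨p, hp⟩ : q ∈ Set.range (idIncl G ▷ G).left := by
    have hr : q ∈ Set.range (pullback.map (idObj G).hom G.hom G.hom G.hom
        (idIncl G).left (𝟙 _) (𝟙 _) (by simp) (by simp)) := by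
      rw [Scheme.Pullback.range_map]
      refine ⟨?_, ⟨_, rfl⟩⟩
      rw [Set.mem_preimage, range_idIncl]
      exact hqa ▸ ha
    convert! hr using 3
  have hsnd : (snd (idObj G) G).left p = b.left t := by
    rw [← hqb, ← hp, ← Scheme.Hom.comp_apply, ← Over.comp_left, whiskerRight_snd]
  have hmem := actMap_mem p
  rw [hsnd, ← irreducibleComponent_eq_of_mem (x := unitPt G) hb] at hmem
  have e : (actMap (G := G)).left p = (a * b).left t := by
    show (idIncl G ▷ G ≫ μ[G]).left p = _
    rw [Over.comp_left, Scheme.Hom.comp_apply, hp, ← Scheme.Hom.comp_apply, ← Over.comp_left, ← Hom.mul_def]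
  exact e ▸ hmem

theorem inv_mem_idComp {T : Over (Spec (CommRingCat.of K))} (a : T ⟶ G) (t : T.left)
    (ha : a.left t ∈ idComp G) : a⁻¹.left t ∈ idComp G := by
  rw [← comp_invM a, Over.comp_left, Scheme.Hom.comp_apply]
  rw [idComp, ← GrpSchLib.connectedComponent_eq] at ha ⊢
  have h := (invM G).left.continuous.image_connectedComponent_subset (unitPt G) ⟨_, ha, rfl⟩
  rwa [invM_unitPt] at h

theorem geometricallyReduced_of_perfect [PerfectField K] {X : Scheme.{u}} (f : X ⟶ Spec (CommRingCat.of K))
    [IsReduced X] : GeometricallyReduced f := by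
  refine ⟨?_⟩
  rw [geometrically_iff_of_isClosedUnderIsomorphisms]
  intro L _ y
  exact FinGrpdLib.isReduced_pullback (Iso.refl _) f y

/-- The identity component with its reduced structure is a subgroup variety. -/
theorem exists_idSubgroup [PerfectField K] [IsProper G.hom] :
    ∃ (N : Over (Spec (CommRingCat.of K))) (_ : GrpObj N) (i : N ⟶ G), IsMonHom i ∧ IsClosedImmersion i.left ∧
      IsProper N.hom ∧ GeometricallyIntegral N.hom ∧ Set.range i.left = idComp G := by
  obtain ⟨N, hN, i, hi, hci, hred, hr⟩ := MonoFibre.exists_redSubgroup (idComp G) isClosed_irreducibleComponent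
    mem_irreducibleComponent mul_mem_idComp inv_mem_idComp
  letI := hN
  haveI := hci
  haveI := hred
  haveI : IsProper N.hom := by rw [← Over.w i]; infer_instance
  haveI : ConnectedSpace N.left := by
    haveI : IrreducibleSpace N.left := by
      refine i.left.isEmbedding.toHomeomorph.irreducibleSpace_iff.mpr (isIrreducible_iff_irreducibleSpace.mp ?_)
      rw [hr]
      exact isIrreducible_irreducibleComponent
    infer_instance
  haveI : GeometricallyConnected N.hom :=
    MonoFibre.geometricallyConnected_of_section N.hom η[N].left (Over.w η[N])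
  haveI := geometricallyReduced_of_perfect N.hom
  haveI : Smooth N.hom := by
    haveI : Flat N.hom := inferInstance
    haveI : LocallyOfFinitePresentation N.hom := inferInstance
    exact S7795.result N
  exact ⟨N, hN, i, hi, hci, inferInstance, geometricallyIntegral_of_smooth N, hr⟩

/-- A positive power of any rational point lies in the identity component. -/
theorem exists_pow_mem_idComp [IsProper G.hom] :
    ∃ c : ℕ, 0 < c ∧ ∀ x : 𝟙_ (Over (Spec (CommRingCat.of K))) ⟶ G,
      ∃ m, 1 ≤ m ∧ m ≤ c ∧ (x ^ m).left (IsLocalRing.closedPoint K) ∈ idComp G := by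
  haveI : IsLocallyNoetherian G.left := LocallyOfFiniteType.isLocallyNoetherian G.hom
  haveI : CompactSpace G.left := QuasiCompact.compactSpace_of_compactSpace G.hom
  haveI : IsNoetherian G.left := ⟨⟩
  have hf := TopologicalSpace.NoetherianSpace.finite_irreducibleComponents (α := G.left)
  haveI := hf.to_subtype
  refine ⟨Nat.card (irreducibleComponents ↥G.left) + 1, Nat.succ_pos _, fun x => ?_⟩
  let pt := IsLocalRing.closedPoint K
  let F : Fin (Nat.card (irreducibleComponents ↥G.left) + 1) → irreducibleComponents ↥G.left := fun n =>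
    ⟨irreducibleComponent ((x ^ (n : ℕ)).left pt), irreducibleComponent_mem_irreducibleComponents _⟩
  obtain ⟨a, b, hab, hF⟩ : ∃ a b, a < b ∧ F a = F b := by
    have hn : ¬ Function.Injective F := fun hi => by
      have := Nat.card_le_card_of_injective F hi
      rw [Nat.card_fin] at this
      omega
    rw [Function.Injective] at hn
    push Not at hn
    obtain ⟨a, b, h, hne⟩ := hn
    rcases lt_or_gt_of_ne hne with h' | h'
    · exact ⟨a, b, h', h⟩
    · exact ⟨b, a, h', h.symm⟩
  refine ⟨(b : ℕ) - a, by omega, by omega, ?_⟩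
  have hb : irreducibleComponent ((x ^ (b : ℕ)).left pt) = irreducibleComponent ((x ^ (a : ℕ)).left pt) :=
    (congrArg Subtype.val hF).symm
  -- translate by the inverse of the lower power
  let t : G ⟶ G := (toUnit G ≫ (x ^ (a : ℕ))⁻¹) * 𝟙 G
  have ht : ∀ m : ℕ, (a : ℕ) ≤ m → (x ^ m) ≫ t = x ^ (m - a) := fun m hm => by
    rw [MonObj.comp_mul, Category.comp_id, ← Category.assoc, toUnit_unique ((x ^ m) ≫ toUnit G) (𝟙 _),
      Category.id_comp, inv_mul_eq_iff_eq_mul, ← pow_add, Nat.add_sub_cancel' hm]
  have h1 := t.left.continuous.image_connectedComponent_subset ((x ^ (a : ℕ)).left pt)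
  rw [GrpSchLib.connectedComponent_eq, GrpSchLib.connectedComponent_eq] at h1
  have h2 : t.left ((x ^ (b : ℕ)).left pt) ∈ irreducibleComponent (t.left ((x ^ (a : ℕ)).left pt)) :=
    h1 ⟨_, hb ▸ mem_irreducibleComponent, rfl⟩
  have e : ∀ m : ℕ, (a : ℕ) ≤ m → t.left ((x ^ m).left pt) = (x ^ (m - a)).left pt :=
    fun m hm => congrArg (fun f : 𝟙_ (Over (Spec (CommRingCat.of K))) ⟶ G => f.left pt) (ht m hm)
  rw [e _ hab.le, e _ le_rfl, Nat.sub_self, pow_zero] at h2
  show _ ∈ irreducibleComponent (unitPt G)
  exact (congrArg irreducibleComponent (one_apply (G := G) (𝟙_ (Over (Spec (CommRingCat.of K)))) pt)).subset h2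

end Groth.Agent.AVLib
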