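import Groth.Agent.AVLib.Etale
import Groth.Agent.AVLib.GeomInt
import Groth.Agent.ASp.Fpqc
import Groth.Agent.ASp.ZeroDim
import Groth.Agent.S10830

/-!
# Isogenies
-/

set_option autoImplicit false
set_option backward.isDefEq.respectTransparency false

universe u

open CategoryTheory CategoryTheory.Limits MonoidalCategory CartesianMonoidalCategory MonObj AlgebraicGeometry

noncomputable section

namespace Groth.Agent.AVLib

variable {K : Type u} [Field K] {X Y : Over (Spec (CommRingCat.of K))} [GrpObj X] [GrpObj Y]

/-- A scheme of finite type of dimension zero over a field is finite. -/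
theorem finite_of_dim_zero (Z : Scheme.{u}) [CompactSpace Z] [IsLocallyNoetherian Z]
    (h : topologicalKrullDim Z ≤ 0) : Finite Z := by
  haveI : T1Space Z := ASp.t1Space_of_topologicalKrullDim_le_zero Z h
  haveI : IsNoetherian Z := ⟨⟩
  have hf := TopologicalSpace.NoetherianSpace.finite_irreducibleComponents (α := Z)
  haveI := hf.to_subtype
  refine Finite.of_injective (fun z : Z => (⟨{z}, ⟨isIrreducible_singleton, fun T hT hzT w hw => ?_⟩⟩ :
    irreducibleComponents Z)) fun z z' e => Set.singleton_injective (congrArg Subtype.val e)
  obtain ⟨ξ, hξ⟩ := QuasiSober.sober hT.closure isClosed_closure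
  have hT' : closure T = {ξ} := by rw [← hξ.def, (T1Space.t1 ξ).closure_eq]
  have hw' := subset_closure hw
  have hz' := subset_closure (hzT rfl)
  rw [hT', Set.mem_singleton_iff] at hw' hz'
  exact hw'.trans hz'.symm

/-- A surjective homomorphism to a reduced group is flat. -/
theorem flat_of_surjective [LocallyOfFiniteType X.hom] [LocallyOfFiniteType Y.hom] [IsReduced Y.left]
    (f : X ⟶ Y) [IsMonHom f] [QuasiCompact f.left] [Surjective f.left] : Flat f.left := by
  obtain ⟨C, hC, p, i, hp, hi, hpi, hf, hs, hqc, hlft, hci, hker⟩ := GrpHomLib.exists_factor f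
  haveI := hci
  haveI := hf
  haveI : Surjective (p.left ≫ i.left) := by rw [← Over.comp_left, hpi]; infer_instance
  haveI : Surjective i.left := Surjective.of_comp p.left i.left
  haveI := isIso_of_isClosedImmersion_of_surjective i.left
  rw [← hpi, Over.comp_left]
  infer_instance

variable [IsProper X.hom] [GeometricallyIntegral X.hom] [IsProper Y.hom] [GeometricallyIntegral Y.hom]

theorem isProper_hom (f : X ⟶ Y) : IsProper f.left := by
  haveI : IsProper (f.left ≫ Y.hom) := by rw [Over.w f]; infer_instance
  exact IsProper.of_comp f.left Y.hom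

/-- A surjective homomorphism of abelian varieties of equal dimension is finite and flat. -/
theorem isFinite_flat_of_surjective (f : X ⟶ Y) [IsMonHom f] [Surjective f.left]
    (hdim : topologicalKrullDim X.left = topologicalKrullDim Y.left) : IsFinite f.left ∧ Flat f.left := by
  haveI : IsIntegral Y.left := GeometricallyIntegral.isIntegral_of_subsingleton Y.hom
  haveI := isProper_hom f
  refine ⟨?_, flat_of_surjective f⟩
  have h := GrpHomLib.dim_eq f
  rw [Set.range_eq_univ.mpr f.left.surjective,
    (Homeomorph.Set.univ ↥Y.left).isHomeomorph.topologicalKrullDim_eq, hdim] at h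
  obtain ⟨n, hn⟩ := exists_dim (A := Y)
  haveI : IsClosedImmersion η[Y].left := GrpSchLib.isClosedImmersion_unit
  haveI : CompactSpace ↥(𝟙_ (Over (Spec (CommRingCat.of K)))).left :=
    inferInstanceAs (CompactSpace ↥(Spec (CommRingCat.of K)))
  haveI : IsLocallyNoetherian (𝟙_ (Over (Spec (CommRingCat.of K)))).left :=
    inferInstanceAs (IsLocallyNoetherian (Spec (CommRingCat.of K)))
  haveI : CompactSpace ↥(pullback f.left η[Y].left) :=
    QuasiCompact.compactSpace_of_compactSpace (pullback.snd f.left η[Y].left)
  haveI : IsLocallyNoetherian (pullback f.left η[Y].left) :=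
    LocallyOfFiniteType.isLocallyNoetherian (pullback.snd f.left η[Y].left)
  have hd : topologicalKrullDim ↥(pullback f.left η[Y].left) ≤ 0 := by
    rw [hn] at h
    generalize topologicalKrullDim ↥(pullback f.left η[Y].left) = d at h
    induction d with
    | bot => exact bot_le
    | coe d =>
      have h2 : ((n : ℕ∞) : WithBot ℕ∞) = (((n : ℕ∞) + d : ℕ∞) : WithBot ℕ∞) := h
      have h3 := WithBot.coe_injective h2
      induction d using ENat.recTopCoe with
      | top => simp at h3
      | coe m =>
        have : n = n + m := by exact_mod_cast h3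
        simp [show m = 0 by omega]
  haveI := finite_of_dim_zero _ hd
  haveI hk : LocallyQuasiFinite (pullback.snd f.left η[Y].left) :=
    LocallyQuasiFinite.of_finite_preimage_singleton _ fun _ => Set.toFinite _
  haveI : LocallyQuasiFinite f.left :=
    GrpHomLib.of_kernel f @LocallyQuasiFinite (fun j hj => inferInstance) hk
  exact IsFinite.of_isProper_of_locallyQuasiFinite f.left

/-- A finite homomorphism of abelian varieties of equal dimension is surjective. -/
theorem surjective_of_isFinite (f : X ⟶ Y) [IsMonHom f] [IsFinite f.left]
    (hdim : topologicalKrullDim X.left = topologicalKrullDim Y.left) : Surjective f.left := by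
  haveI : IsIntegral Y.left := GeometricallyIntegral.isIntegral_of_subsingleton Y.hom
  refine ⟨Set.range_eq_univ.mp ?_⟩
  by_contra hne
  obtain ⟨n, hn⟩ := exists_dim (A := Y)
  have hlt := S10830.result Y.left (by rw [hn]; exact WithBot.coe_injective.ne (ENat.natCast_ne_top n)) _
    f.left.isClosedMap.isClosed_range hne
  have h := GrpHomLib.dim_eq f
  haveI : IsClosedImmersion η[Y].left := GrpSchLib.isClosedImmersion_unit
  haveI : IsFinite (pullback.snd f.left η[Y].left) := inferInstance
  haveI : Finite ↥(pullback f.left η[Y].left) := by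
    haveI : Subsingleton ↥(Spec (CommRingCat.of K)) := inferInstanceAs (Subsingleton (PrimeSpectrum K))
    haveI : Subsingleton ↥(𝟙_ (Over (Spec (CommRingCat.of K)))).left :=
      inferInstanceAs (Subsingleton (PrimeSpectrum K))
    obtain ⟨z⟩ : Nonempty ↥(𝟙_ (Over (Spec (CommRingCat.of K)))).left := ⟨IsLocalRing.closedPoint K⟩
    refine Set.finite_univ_iff.1 ?_
    have := (pullback.snd f.left η[Y].left).finite_preimage_singleton z
    convert this
    ext w
    simpa using Subsingleton.elim _ _
  haveI : DiscreteTopology ↥(pullback f.left η[Y].left) := by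
    haveI : Subsingleton ↥(Spec (CommRingCat.of K)) := inferInstanceAs (Subsingleton (PrimeSpectrum K))
    have hd := (pullback.snd f.left η[Y].left).isDiscrete_preimage_singleton (IsLocalRing.closedPoint K)
    have huniv : (pullback.snd f.left η[Y].left) ⁻¹' {IsLocalRing.closedPoint K} = Set.univ := by
      ext w
      simpa using Subsingleton.elim (α := PrimeSpectrum K) _ _
    rw [huniv] at hd
    exact isDiscrete_univ_iff.1 hd
  haveI : Nonempty ↥(pullback f.left η[Y].left) :=
    ⟨(pullback.lift η[X].left (𝟙 _) (by
      rw [← Over.comp_left, IsMonHom.one_hom, Category.id_comp]) : _ ⟶ pullback f.left η[Y].left)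
      (IsLocalRing.closedPoint K)⟩
  rw [ASp.topologicalKrullDim_eq_zero_of_discrete ↥(pullback f.left η[Y].left), add_zero, hdim] at h
  exact hlt.ne h.symm

/-- Flat and finite agree for homomorphisms of abelian varieties of equal dimension. -/
theorem flat_iff_isFinite (f : X ⟶ Y) [IsMonHom f]
    (hdim : topologicalKrullDim X.left = topologicalKrullDim Y.left) : Flat f.left ↔ IsFinite f.left := by
  haveI : IsIntegral Y.left := GeometricallyIntegral.isIntegral_of_subsingleton Y.hom
  haveI : IsIntegral X.left := GeometricallyIntegral.isIntegral_of_subsingleton X.hom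
  haveI := isProper_hom f
  constructor
  · intro hf
    haveI : LocallyOfFinitePresentation f.left := by
      haveI : IsLocallyNoetherian Y.left := LocallyOfFiniteType.isLocallyNoetherian Y.hom
      infer_instance
    haveI : Surjective f.left := ⟨Set.range_eq_univ.mp
      (IsClopen.eq_univ ⟨f.left.isClosedMap.isClosed_range, f.left.isOpenMap.isOpen_range⟩
        (Set.range_nonempty _))⟩
    exact (isFinite_flat_of_surjective f hdim).1
  · intro hf
    haveI := surjective_of_isFinite f hdim
    exact flat_of_surjective f

/-- An isogeny preserves the dimension. -/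
theorem dim_eq_of_isFinite_surjective (f : X ⟶ Y) [IsMonHom f] [IsFinite f.left] [Surjective f.left] :
    topologicalKrullDim X.left = topologicalKrullDim Y.left := by
  have h := GrpHomLib.dim_eq f
  haveI : IsClosedImmersion η[Y].left := GrpSchLib.isClosedImmersion_unit
  haveI : Subsingleton ↥(Spec (CommRingCat.of K)) := inferInstanceAs (Subsingleton (PrimeSpectrum K))
  haveI : DiscreteTopology ↥(pullback f.left η[Y].left) := by
    have hd := (pullback.snd f.left η[Y].left).isDiscrete_preimage_singleton (IsLocalRing.closedPoint K)
    have huniv : (pullback.snd f.left η[Y].left) ⁻¹' {IsLocalRing.closedPoint K} = Set.univ := by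
      ext w
      simpa using Subsingleton.elim (α := PrimeSpectrum K) _ _
    rw [huniv] at hd
    exact isDiscrete_univ_iff.1 hd
  haveI : Nonempty ↥(pullback f.left η[Y].left) :=
    ⟨(pullback.lift η[X].left (𝟙 _) (by
      rw [← Over.comp_left, IsMonHom.one_hom, Category.id_comp]) : _ ⟶ pullback f.left η[Y].left)
      (IsLocalRing.closedPoint K)⟩
  rw [ASp.topologicalKrullDim_eq_zero_of_discrete ↥(pullback f.left η[Y].left), add_zero,
    Set.range_eq_univ.mpr f.left.surjective,
    (Homeomorph.Set.univ ↥Y.left).isHomeomorph.topologicalKrullDim_eq] at h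
  exact h

end Groth.Agent.AVLib
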