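import Groth.Agent.MonoFibre.AntiAffinePart
import Groth.Agent.GrpSchLib.Component
import Groth.Agent.FlatDim.Trdeg
import Groth.Agent.GeomRedDesc.Basic
import Groth.Agent.S10830

/-!
# The largest abelian subvariety of a commutative group
-/

set_option autoImplicit false
set_option backward.isDefEq.respectTransparency false
set_option linter.style.haveILetI false

universe u

open CategoryTheory CategoryTheory.Limits MonoidalCategory CartesianMonoidalCategory MonObj AlgebraicGeometry

noncomputable section

namespace Groth.Agent.AVLib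

open GrpSchLib (idComp idObj idIncl)

variable {k : Type u} [Field k]

/-- A scheme theoretically dominant surjective image of a geometrically integral scheme is geometrically
integral. -/
theorem geometricallyIntegral_of_dominant {X Y : Scheme.{u}} {p : X ⟶ Spec (CommRingCat.of k)}
    (q : Y ⟶ Spec (CommRingCat.of k)) (g : X ⟶ Y) (hg : g ≫ q = p) [IsSchemeTheoreticallyDominant g]
    [QuasiCompact g] [Surjective g] [GeometricallyIntegral p] : GeometricallyIntegral q := by
  refine ⟨fun L _ y Z fst' snd' H => ?_⟩
  suffices h : IsIntegral (pullback q y) by exact .of_isIso H.isoPullback.inv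
  haveI : Flat y := GeomRedDesc.flat_spec_field y
  haveI : IsIntegral (pullback p y) :=
    GeometricallyIntegral.geometrically_isIntegral _ _ _ (IsPullback.of_hasPullback p y)
  let g' : pullback p y ⟶ pullback q y :=
    pullback.lift (pullback.fst p y ≫ g) (pullback.snd p y) (by rw [Category.assoc, hg, pullback.condition])
  have hsq : IsPullback (pullback.fst p y) g' g (pullback.fst q y) := by
    refine IsPullback.of_bot ?_ (pullback.lift_fst _ _ _).symm (IsPullback.of_hasPullback q y)
    rw [pullback.lift_snd, hg]
    exact IsPullback.of_hasPullback p y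
  haveI : Flat (pullback.fst q y) := inferInstance
  haveI : IsSchemeTheoreticallyDominant g' := IsSchemeTheoreticallyDominant.of_isPullback hsq
  haveI : QuasiCompact g' := MorphismProperty.of_isPullback hsq ‹QuasiCompact g›
  haveI : Surjective g' := MorphismProperty.of_isPullback hsq ‹Surjective g›
  haveI : IsReduced (pullback q y) := IsSchemeTheoreticallyDominant.isReduced g'
  haveI : IrreducibleSpace ↥(pullback q y) := g'.surjective.irreducibleSpace g'.continuous
  exact isIntegral_of_irreducibleSpace_of_isReduced _

/-- A composite of geometrically integral morphisms to a field. -/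
theorem geometricallyIntegral_comp {X Y : Scheme.{u}} (f : X ⟶ Y) (g : Y ⟶ Spec (CommRingCat.of k))
    [GeometricallyIntegral f] [Flat f] [UniversallyOpen f] [GeometricallyIntegral g] [LocallyOfFiniteType g] :
    GeometricallyIntegral (f ≫ g) := by
  refine ⟨fun L _ y Z fst' snd' H => ?_⟩
  haveI : IsIntegral (pullback g y) :=
    GeometricallyIntegral.geometrically_isIntegral _ _ _ (IsPullback.of_hasPullback g y)
  haveI : IsLocallyNoetherian (pullback g y) := LocallyOfFiniteType.isLocallyNoetherian (pullback.snd g y)
  haveI : IsIntegral (pullback f (pullback.fst g y)) := inferInstance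
  have e := ((IsPullback.of_hasPullback f (pullback.fst g y)).paste_vert (IsPullback.of_hasPullback g y))
  exact .of_isIso ((e.isoIsPullback _ _ H).hom)

variable {G : Over (Spec (CommRingCat.of k))} [GrpObj G] [IsCommMonObj G] [LocallyOfFiniteType G.hom]

omit [IsCommMonObj G] in
/-- A connected geometrically reduced group is geometrically integral. -/
theorem geometricallyIntegral_of_connectedSpace [ConnectedSpace G.left] [GeometricallyReduced G.hom] :
    GeometricallyIntegral G.hom := by
  haveI : Subsingleton ↥(Spec (CommRingCat.of k)) := inferInstanceAs (Subsingleton (PrimeSpectrum k))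
  haveI : IrreducibleSpace G.left := GrpSchLib.irreducibleSpace_of_connectedSpace
  haveI : IsReduced G.left := GeometricallyReduced.isReduced_of_flat_of_isLocallyNoetherian G.hom
  haveI : Surjective (idIncl G).left := ⟨fun x => by
    have h : x ∈ idComp G := by
      have huniv : IsIrreducible (Set.univ : Set G.left) := IrreducibleSpace.isIrreducible_univ G.left
      exact GrpSchLib.subset_irreducibleComponent huniv trivial trivial
    rw [← GrpSchLib.range_idIncl] at h
    exact h⟩
  haveI : IsIso (idIncl G).left := isIso_of_isClosedImmersion_of_surjective _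
  haveI : GeometricallyIrreducible G.hom := by
    have h : GeometricallyIrreducible ((idIncl G).left ≫ G.hom) := by
      rw [Over.w]
      exact GrpSchLib.geometricallyIrreducible_idObj
    exact (MorphismProperty.cancel_left_of_respectsIso @GeometricallyIrreducible _ _).1 h
  exact GeometricallyIntegral.of_geometricallyReduced_of_geometricallyIrreducible G.hom

/-- The largest abelian subvariety. -/
theorem exists_maximal_abelian :
    ∃ (M : Over (Spec (CommRingCat.of k))) (_ : GrpObj M) (i : M ⟶ G), IsMonHom i ∧ IsClosedImmersion i.left ∧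
      IsProper M.hom ∧ GeometricallyIntegral M.hom ∧
      ∀ (A : Over (Spec (CommRingCat.of k))) [GrpObj A] [IsProper A.hom] [GeometricallyReduced A.hom]
        [ConnectedSpace ↥A.left] (φ : A ⟶ G), IsMonHom φ → ∃ ψ : A ⟶ M, ψ ≫ i = φ := by
  classical
  haveI : Subsingleton ↥(Spec (CommRingCat.of k)) := inferInstanceAs (Subsingleton (PrimeSpectrum k))
  -- images of homomorphisms from abelian varieties
  have himg : ∀ (H : Over (Spec (CommRingCat.of k))) [GrpObj H] [IsProper H.hom] [GeometricallyIntegral H.hom]
      (f : H ⟶ G), IsMonHom f → ∃ (M : Over (Spec (CommRingCat.of k))) (_ : GrpObj M) (i : M ⟶ G) (g : H ⟶ M),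
        IsMonHom i ∧ IsClosedImmersion i.left ∧ IsProper M.hom ∧ GeometricallyIntegral M.hom ∧ g ≫ i = f := by
    intro H _ _ _ f hf
    haveI := hf
    haveI : QuasiCompact f.left := by
      haveI : QuasiCompact (f.left ≫ G.hom) := by rw [Over.w]; infer_instance
      haveI : IsSeparated G.hom := GrpSchLib.isSeparated_hom
      exact QuasiCompact.of_comp f.left G.hom
    obtain ⟨M, hM, i, g, hi, hic, hg, hgi, hgd, hgq, hgs⟩ := MonoFibre.AntiAffinePart.exists_schemeImage f
    letI := hM
    haveI := hic; haveI := hgd; haveI := hgq; haveI := hgs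
    haveI : GeometricallyIntegral M.hom := geometricallyIntegral_of_dominant M.hom g.left (Over.w g)
    haveI : IsSeparated M.hom := by
      haveI : IsSeparated G.hom := GrpSchLib.isSeparated_hom
      rw [← Over.w i]
      infer_instance
    haveI : LocallyOfFiniteType M.hom := by rw [← Over.w i]; infer_instance
    haveI : UniversallyClosed (g.left ≫ M.hom) := by rw [Over.w]; infer_instance
    haveI : UniversallyClosed M.hom := UniversallyClosed.of_comp_surjective g.left M.hom
    haveI : IsProper M.hom := {}
    exact ⟨M, hM, i, g, hi, hic, inferInstance, inferInstance, hgi⟩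
  -- their dimensions are bounded
  obtain ⟨η₀, hη₀⟩ := QuasiSober.sober (isIrreducible_irreducibleComponent : IsIrreducible (idComp G)) isClosed_irreducibleComponent
  obtain ⟨t₀, -, ht₀⟩ := FlatDim.topologicalKrullDim_closure k G.hom η₀
  let P : ℕ → Prop := fun d => ∃ (M : Over (Spec (CommRingCat.of k))) (_ : GrpObj M) (i : M ⟶ G), IsMonHom i ∧
    IsClosedImmersion i.left ∧ IsProper M.hom ∧ GeometricallyIntegral M.hom ∧
    topologicalKrullDim ↥(Set.range i.left) = d
  have hP : ∀ (M : Over (Spec (CommRingCat.of k))) [GrpObj M] (i : M ⟶ G) [IsMonHom i] [IsClosedImmersion i.left]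
      [IsProper M.hom] [GeometricallyIntegral M.hom], ∃ d : ℕ, d ≤ t₀ ∧ P d ∧
        topologicalKrullDim ↥(Set.range i.left) = d := by
    intro M _ i _ _ _ _
    haveI : IsIntegral M.left := GeometricallyIntegral.isIntegral_of_subsingleton M.hom
    have hirr : IsIrreducible (Set.range i.left) := by
      rw [← Set.image_univ]
      exact (IrreducibleSpace.isIrreducible_univ M.left).image _ i.left.continuous.continuousOn
    have hcl : IsClosed (Set.range i.left) := i.left.isClosedEmbedding.isClosed_range
    obtain ⟨x, hx⟩ := QuasiSober.sober hirr hcl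
    obtain ⟨t, -, ht⟩ := FlatDim.topologicalKrullDim_closure k G.hom x
    rw [hx.def] at ht
    have hsub : Set.range i.left ⊆ idComp G := by
      refine GrpSchLib.subset_irreducibleComponent hirr ?_
      refine ⟨η[M].left (IsLocalRing.closedPoint k), ?_⟩
      rw [← Scheme.Hom.comp_apply, ← Over.comp_left, IsMonHom.one_hom i]
    have hle : topologicalKrullDim ↥(Set.range i.left) ≤ topologicalKrullDim ↥(idComp G) :=
      (Topology.IsInducing.subtypeVal.codRestrict fun z => hsub z.2).topologicalKrullDim_le
    rw [ht, show idComp G = closure {η₀} from hη₀.def.symm, ht₀] at hle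
    exact ⟨t, by exact_mod_cast hle, ⟨M, inferInstance, i, inferInstance, inferInstance, inferInstance,
      inferInstance, ht⟩, ht⟩
  haveI : IsProper (𝟙_ (Over (Spec (CommRingCat.of k)))).hom := inferInstanceAs (IsProper (𝟙 _))
  haveI : GeometricallyIntegral (𝟙_ (Over (Spec (CommRingCat.of k)))).hom := by
    refine ⟨fun L _ y Z fst' snd' H => ?_⟩
    haveI : IsIso snd' := MorphismProperty.of_isPullback (P := MorphismProperty.isomorphisms Scheme) H
      (inferInstanceAs (IsIso (𝟙 _)))
    exact .of_isIso (inv snd')
  obtain ⟨M₀, hM₀, i₀, g₀, hi₀, hic₀, hMp₀, hMg₀, -⟩ := himg (𝟙_ _) η[G] inferInstance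
  letI := hM₀
  haveI := hi₀; haveI := hic₀; haveI := hMp₀; haveI := hMg₀
  obtain ⟨d₀, hd₀, hPd₀, -⟩ := hP M₀ i₀
  obtain ⟨M, hM, i, hi, hic, hMp, hMg, hMd⟩ := Nat.findGreatest_spec hd₀ hPd₀
  letI := hM
  haveI := hi; haveI := hic; haveI := hMp; haveI := hMg
  refine ⟨M, hM, i, hi, hic, hMp, hMg, fun A _ _ _ _ φ hφ => ?_⟩
  haveI := hφ
  haveI : LocallyOfFiniteType A.hom := inferInstance
  haveI : GeometricallyIntegral A.hom := geometricallyIntegral_of_connectedSpace
  haveI : GeometricallyIntegral (M ⊗ A).hom := by
    rw [← Over.w (fst M A)]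
    haveI : GeometricallyIntegral (fst M A).left :=
      MorphismProperty.pullback_fst (P := @GeometricallyIntegral) M.hom A.hom inferInstance
    haveI : Flat A.hom := inferInstance
    haveI : Flat (fst M A).left := MorphismProperty.pullback_fst (P := @Flat) M.hom A.hom inferInstance
    haveI : UniversallyOpen A.hom := inferInstance
    haveI : UniversallyOpen (fst M A).left :=
      MorphismProperty.pullback_fst (P := @UniversallyOpen) M.hom A.hom inferInstance
    exact geometricallyIntegral_comp (fst M A).left M.hom
  haveI : IsProper (M ⊗ A).hom := by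
    rw [← Over.w (fst M A)]
    haveI : IsProper (fst M A).left := MorphismProperty.pullback_fst (P := @IsProper) M.hom A.hom inferInstance
    infer_instance
  let f : M ⊗ A ⟶ G := lift (fst M A ≫ i) (snd M A ≫ φ) ≫ μ[G]
  obtain ⟨M', hM', i', g, hi', hic', hMp', hMg', hgi⟩ := himg (M ⊗ A) f inferInstance
  letI := hM'
  haveI := hi'; haveI := hic'; haveI := hMp'; haveI := hMg'
  let j : M ⟶ M' := lift (𝟙 M) 1 ≫ g
  have hj : j ≫ i' = i := by
    show (lift (𝟙 M) 1 ≫ g) ≫ i' = i
    rw [Category.assoc, hgi, show f = (fst M A ≫ i) * (snd M A ≫ φ) from rfl, MonObj.comp_mul, lift_fst_assoc,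
      lift_snd_assoc, Category.id_comp]
    rw [show (1 : M ⟶ A) ≫ φ = 1 from by rw [Hom.one_def, Category.assoc, IsMonHom.one_hom φ, ← Hom.one_def],
      _root_.mul_one]
  obtain ⟨d', hd', hPd', hdim'⟩ := hP M' i'
  have hle : d' ≤ Nat.findGreatest P t₀ := Nat.le_findGreatest hd' hPd'
  have hrange : Set.range i.left = Set.range i'.left := by
    have hsub : Set.range i.left ⊆ Set.range i'.left := by
      rw [← hj, Over.comp_left, Scheme.Hom.comp_base, TopCat.coe_comp]
      exact Set.range_comp_subset_range _ _
    by_contra hne
    haveI : IsIntegral M'.left := GeometricallyIntegral.isIntegral_of_subsingleton M'.hom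
    have hirr : IsIrreducible (Set.range i'.left) := by
      rw [← Set.image_univ]
      exact (IrreducibleSpace.isIrreducible_univ M'.left).image _ i'.left.continuous.continuousOn
    haveI : IrreducibleSpace ↥(Set.range i'.left) := Subtype.irreducibleSpace hirr
    have hlt := S10830.result ↥(Set.range i'.left) (by
        rw [hdim']
        exact WithBot.coe_injective.ne (ENat.coe_ne_top d'))
      (Subtype.val ⁻¹' Set.range i.left) (i.left.isClosedEmbedding.isClosed_range.preimage continuous_subtype_val)
      fun h => hne (hsub.antisymm fun z hz => (h.ge (Set.mem_univ (⟨z, hz⟩ : Set.range i'.left)) :))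
    let e : (Subtype.val ⁻¹' Set.range i.left : Set (Set.range i'.left)) ≃ₜ Set.range i.left :=
      { toFun := fun z => ⟨z.1.1, z.2⟩
        invFun := fun z => ⟨⟨z.1, hsub z.2⟩, z.2⟩
        left_inv := fun z => rfl
        right_inv := fun z => rfl }
    rw [e.isHomeomorph.topologicalKrullDim_eq, hMd, hdim'] at hlt
    have : Nat.findGreatest P t₀ < d' := by exact_mod_cast hlt
    omega
  haveI : IsClosedImmersion j.left := by
    haveI : IsClosedImmersion (j.left ≫ i'.left) := by rw [← Over.comp_left, hj]; infer_instance
    exact IsClosedImmersion.of_comp j.left i'.left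
  haveI : Surjective j.left := ⟨fun z => by
    obtain ⟨w, hw⟩ := hrange.ge ⟨z, rfl⟩
    refine ⟨w, i'.left.isClosedEmbedding.injective ?_⟩
    rw [← Scheme.Hom.comp_apply, ← Over.comp_left, hj, hw]⟩
  haveI : IsIntegral M'.left := GeometricallyIntegral.isIntegral_of_subsingleton M'.hom
  haveI : IsIso j.left := isIso_of_isClosedImmersion_of_surjective _
  haveI : IsIso j := by
    haveI : IsIso ((Over.forget _).map j) := ‹IsIso j.left›
    exact isIso_of_reflects_iso j (Over.forget _)
  refine ⟨(lift 1 (𝟙 A) ≫ g) ≫ inv j, ?_⟩
  rw [Category.assoc, show inv j ≫ i = i' by rw [← hj, IsIso.inv_hom_id_assoc], Category.assoc, hgi,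
    show f = (fst M A ≫ i) * (snd M A ≫ φ) from rfl, MonObj.comp_mul, lift_fst_assoc, lift_snd_assoc,
    Category.id_comp,
    show (1 : A ⟶ M) ≫ i = 1 from by rw [Hom.one_def, Category.assoc, IsMonHom.one_hom i, ← Hom.one_def],
    _root_.one_mul]

end Groth.Agent.AVLib
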