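import Groth.Agent.AVLib.Cube
import Groth.Agent.AVLib.DivLine
import Groth.Agent.CurveLib.GlobalFun
import Groth.Agent.MonoFibre.Orbit
import Groth.Agent.AmpleLib.Descent
import Groth.Agent.S7795
import Groth.Agent.S2821

/-!
# Abelian varieties have ample invertible modules
-/

set_option autoImplicit false
set_option backward.isDefEq.respectTransparency false

universe u

open CategoryTheory CategoryTheory.Limits MonoidalCategory CartesianMonoidalCategory MonObj AlgebraicGeometry
open TopologicalSpace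
open Groth.Agent.PicLib Groth.Agent.AmpleLib

noncomputable section

namespace Groth.Agent.AVLib

section Translation

variable {K : Type u} [Field K] {A : Over (Spec (CommRingCat.of K))} [GrpObj A]

/-- Right translation by a point. -/
def trR (a : 𝟙_ _ ⟶ A) : A ⟶ A := 𝟙 A * (toUnit A ≫ a)

/-- Left translation by a point. -/
def trL (a : 𝟙_ _ ⟶ A) : A ⟶ A := (toUnit A ≫ a) * 𝟙 A

theorem comp_trR {V : Over (Spec (CommRingCat.of K))} (s : V ⟶ A) (a : 𝟙_ _ ⟶ A) :
    s ≫ trR a = s * (toUnit V ≫ a) := by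
  rw [trR, MonObj.comp_mul, Category.comp_id, ← Category.assoc, comp_toUnit]

theorem comp_trL {V : Over (Spec (CommRingCat.of K))} (s : V ⟶ A) (a : 𝟙_ _ ⟶ A) :
    s ≫ trL a = (toUnit V ≫ a) * s := by
  rw [trL, MonObj.comp_mul, Category.comp_id, ← Category.assoc, comp_toUnit]

instance isIso_trR (a : 𝟙_ _ ⟶ A) : IsIso (trR a) :=
  ⟨trR a⁻¹, by rw [comp_trR, trR, GrpObj.comp_inv, mul_inv_cancel_right],
    by rw [comp_trR, trR, GrpObj.comp_inv, inv_mul_cancel_right]⟩

instance isIso_trL (a : 𝟙_ _ ⟶ A) : IsIso (trL a) :=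
  ⟨trL a⁻¹, by rw [comp_trL, trL, GrpObj.comp_inv, inv_mul_cancel_left],
    by rw [comp_trL, trL, GrpObj.comp_inv, mul_inv_cancel_left]⟩

instance isIso_inv_id : IsIso ((𝟙 A)⁻¹ : A ⟶ A) :=
  ⟨(𝟙 A)⁻¹, by rw [GrpObj.comp_inv, Category.comp_id, inv_inv],
    by rw [GrpObj.comp_inv, Category.comp_id, inv_inv]⟩

instance isIso_left {B : Over (Spec (CommRingCat.of K))} (g : A ⟶ B) [IsIso g] : IsIso g.left :=
  inferInstanceAs (IsIso ((Over.forget _).map g))

variable [IsProper A.hom] [GeometricallyIntegral A.hom]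

/-- The theorem of the square, in the symmetric case. -/
theorem pull_trR_mul (c : Pic A.left) (a : 𝟙_ _ ⟶ A) :
    pull (trR a).left c * pull (trR a⁻¹).left c = c * c := by
  have hconst : ∀ b : 𝟙_ _ ⟶ A, pull (toUnit A ≫ b).left c = 1 := fun b => by
    haveI : IsLocalRing (CommRingCat.of K) := inferInstanceAs (IsLocalRing K)
    rw [← pull_left_comp, show pull b.left c = 1 from eq_one_of_local (R := CommRingCat.of K) _, map_one]
  have hc := cube c (𝟙 A) (toUnit A ≫ a) (toUnit A ≫ a⁻¹)
  rw [show toUnit A ≫ a⁻¹ = (toUnit A ≫ a)⁻¹ from GrpObj.comp_inv _ _, mul_inv_cancel_right, mul_inv_cancel,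
    pull_one, ← GrpObj.comp_inv, hconst, hconst, Over.id_left, pull_id] at hc
  simp only [_root_.mul_one] at hc
  exact hc.symm

end Translation

/-- The algebraically closed case. -/
theorem isAmple_of_affine_genLocus {K : Type u} [Field K] [IsAlgClosed K] (A : Over (Spec (CommRingCat.of K)))
    [GrpObj A] [IsProper A.hom] [GeometricallyIntegral A.hom] {L : A.left.Modules}
    (hL : PicF.IsInvertible L) (σ : Coh.structureModule A.left ⟶ L)
    (haff : IsAffineOpen (CohB1.genLocus L σ)) (hne : (CohB1.genLocus L σ : Set A.left).Nonempty) :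
    CohB1.IsAmple L := by
  haveI : QuasiCompact A.hom := inferInstance
  haveI : CompactSpace A.left := QuasiCompact.compactSpace_of_compactSpace A.hom
  haveI : LocallyOfFiniteType A.hom := inferInstance
  haveI : JacobsonSpace A.left := LocallyOfFiniteType.jacobsonSpace A.hom
  haveI : A.left.IsSeparated := ⟨by rw [← terminal.comp_from A.hom]; infer_instance⟩
  haveI : IsIntegral A.left := GeometricallyIntegral.isIntegral_of_subsingleton A.hom
  refine ⟨hL, inferInstance, fun x => ?_⟩
  -- a closed specialisation of `x` and the rational point there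
  obtain ⟨x₀, hx₀, hclosed⟩ := nonempty_inter_closedPoints (X := A.left) (Z := closure {x})
    (Set.singleton_nonempty x).closure isClosed_closure.isLocallyClosed
  let p : 𝟙_ _ ⟶ A := Over.homMk (pointOfClosedPoint A.hom x₀ (mem_closedPoints_iff.1 hclosed))
    (pointOfClosedPoint_comp _ _ _)
  have hp : p.left (IsLocalRing.closedPoint K) = x₀ := pointOfClosedPoint_apply A.hom x₀ _ _
  let U := CohB1.genLocus L σ
  have hpre : ∀ (g : A ⟶ A) [IsIso g], (g.left ⁻¹' (U : Set A.left)).Nonempty := fun g _ =>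
    hne.preimage g.left.surjective
  obtain ⟨v, hv₁, hv₂⟩ := nonempty_preirreducible_inter (U.2.preimage (trL p).left.continuous)
    (U.2.preimage ((𝟙 A)⁻¹ ≫ trL p).left.continuous) (hpre _) (hpre _)
  obtain ⟨z, hz, hzc⟩ := nonempty_inter_closedPoints (X := A.left)
    (Z := (trL p).left ⁻¹' (U : Set A.left) ∩ ((𝟙 A)⁻¹ ≫ trL p).left ⁻¹' (U : Set A.left))
    ⟨v, hv₁, hv₂⟩
    ((U.2.preimage (trL p).left.continuous).inter
      (U.2.preimage ((𝟙 A)⁻¹ ≫ trL p).left.continuous)).isLocallyClosed
  let a : 𝟙_ _ ⟶ A := Over.homMk (pointOfClosedPoint A.hom z (mem_closedPoints_iff.1 hzc))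
    (pointOfClosedPoint_comp _ _ _)
  have ha : a.left (IsLocalRing.closedPoint K) = z := pointOfClosedPoint_apply A.hom z _ _
  have key : ∀ g h : A ⟶ A, p ≫ g = a ≫ h → g.left x₀ = h.left z := fun g h e => by
    rw [← hp, ← ha, ← Scheme.Hom.comp_apply, ← Over.comp_left, e, Over.comp_left, Scheme.Hom.comp_apply]
  have h₁ : (trR a).left x₀ ∈ U := by
    rw [key (trR a) (trL p) (by rw [comp_trR, comp_trL, toUnit_unique (toUnit _) (𝟙 _)]; simp)]
    exact hz.1
  have h₂ : (trR a⁻¹).left x₀ ∈ U := by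
    rw [key (trR a⁻¹) ((𝟙 A)⁻¹ ≫ trL p) (by
      rw [← Category.assoc, GrpObj.comp_inv a (𝟙 A), Category.comp_id, comp_trR, comp_trL,
        toUnit_unique (toUnit _) (𝟙 _)]
      simp)]
    exact hz.2
  let s := tensorS (pullS (trR a).left σ) (pullS (trR a⁻¹).left σ)
  have hs : CohB1.genLocus _ s = (trR a).left ⁻¹ᵁ U ⊓ (trR a⁻¹).left ⁻¹ᵁ U := by
    rw [genLocus_tensorS (isInvertible_pullback _ hL) (isInvertible_pullback _ hL),
      genLocus_pullS _ hL, genLocus_pullS _ hL]
  have hiso : Nonempty (CohB1.tensorMod ((Scheme.Modules.pullback (trR a).left).obj L)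
      ((Scheme.Modules.pullback (trR a⁻¹).left).obj L) ≅ CohB1.tensorPow L 2) := by
    rw [← cls_eq_cls (isInvertible_tensor (isInvertible_pullback (trR a).left hL) (isInvertible_pullback (trR a⁻¹).left hL))
      (isInvertible_tensorPow hL 2), cls_tensor (isInvertible_pullback (trR a).left hL) (isInvertible_pullback (trR a⁻¹).left hL), cls_tensorPow, ← pull_cls _ hL, ← pull_cls _ hL, pull_trR_mul, pow_two]
  obtain ⟨e⟩ := hiso
  refine ⟨1, s ≫ e.hom, ?_, ?_⟩
  · rw [genLocus_comp_iso, hs]
    exact ⟨(specializes_iff_mem_closure.2 hx₀).mem_open ((trR a).left ⁻¹ᵁ U).2 h₁,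
      (specializes_iff_mem_closure.2 hx₀).mem_open ((trR a⁻¹).left ⁻¹ᵁ U).2 h₂⟩
  · rw [genLocus_comp_iso, hs]
    exact (haff.preimage_of_isIso _).inf (haff.preimage_of_isIso _)

/-- An abelian variety has an ample invertible module. -/
theorem exists_isAmple (K : Type u) [Field K] (A : Over (Spec (CommRingCat.of K))) [GrpObj A] [IsProper A.hom]
    [GeometricallyIntegral A.hom] : ∃ L : A.left.Modules, CohB1.IsAmple L := by
  haveI : A.left.IsSeparated := ⟨by rw [← terminal.comp_from A.hom]; infer_instance⟩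
  haveI : IsIntegral A.left := GeometricallyIntegral.isIntegral_of_subsingleton A.hom
  haveI : IsLocallyNoetherian A.left := LocallyOfFiniteType.isLocallyNoetherian A.hom
  haveI : LocallyOfFinitePresentation A.hom := inferInstance
  haveI : Flat A.hom := inferInstance
  haveI : GeometricallyReduced A.hom := inferInstance
  letI : A.left.Over (Spec (CommRingCat.of K)) := ⟨A.hom⟩
  haveI : Smooth (A.left ↘ Spec (CommRingCat.of K)) := S7795.result A
  obtain ⟨U, hU, hne⟩ : ∃ U : A.left.Opens, IsAffineOpen U ∧ (U : Set A.left).Nonempty := by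
    obtain ⟨_, ⟨U, hU, rfl⟩, hx, -⟩ := A.left.isBasis_affineOpens.exists_subset_of_mem_open
      (Set.mem_univ (Classical.arbitrary A.left)) isOpen_univ
    exact ⟨U, hU, ⟨_, hx⟩⟩
  obtain ⟨D, hD, hsupp⟩ := InvExt.exists_effCartier_compl U hU (U.2.dense hne) (fun V W hV hW => hV.inf hW)
    (fun x _ => by
      haveI := CurveLib.isRegularLocalRing_stalk_of_smooth (k := K) (X := A.left) x
      exact S2821.result _)
  obtain ⟨L, σ, hL, hσ⟩ := exists_line_of_effCartier hD
  have hσU : CohB1.genLocus L σ = U := by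
    rw [hσ]
    apply Opens.ext
    show (D.support : Set A.left)ᶜ = _
    rw [hsupp, compl_compl]
  refine ⟨L, ?_⟩
  let j : Spec (CommRingCat.of (AlgebraicClosure K)) ⟶ Spec (CommRingCat.of K) :=
    Spec.map (CommRingCat.ofHom (algebraMap K (AlgebraicClosure K)))
  haveI : Flat j := (HasRingHomProperty.Spec_iff (P := @Flat)).2 (RingHom.flat_algebraMap_iff.2 inferInstance)
  haveI : Surjective j := ⟨fun y => ⟨IsLocalRing.closedPoint (AlgebraicClosure K), Subsingleton.elim _ _⟩⟩
  refine isAmple_of_pullback A.hom j hL ?_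
  haveI : IsProper (Red.bc j A).hom := inferInstanceAs (IsProper (pullback.snd A.hom j))
  haveI : GeometricallyIntegral (Red.bc j A).hom :=
    inferInstanceAs (GeometricallyIntegral (pullback.snd A.hom j))
  have hg : CohB1.genLocus _ (pullS (pullback.fst A.hom j) σ) = pullback.fst A.hom j ⁻¹ᵁ U := by
    rw [genLocus_pullS _ hL, hσU]
  refine isAmple_of_affine_genLocus (Red.bc j A) (isInvertible_pullback _ hL)
    (pullS (pullback.fst A.hom j) σ) ?_ ?_
  · rw [hg]
    haveI : IsAffineHom (pullback.fst A.hom j) :=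
      MorphismProperty.pullback_fst (P := @IsAffineHom) _ _ inferInstance
    exact hU.preimage (pullback.fst A.hom j)
  · rw [hg]
    haveI : Surjective (pullback.fst A.hom j) := MorphismProperty.pullback_fst (P := @Surjective) _ _ inferInstance
    exact hne.preimage (pullback.fst A.hom j).surjective

end Groth.Agent.AVLib
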