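import Groth.Agent.AVLib.Stab
import Groth.Agent.AVLib.Proj
import Groth.Agent.AmpleEmb.GenFinite
import Groth.Agent.GeomIrred.Scheme

/-!
# Effective non-degenerate classes are ample
-/

set_option autoImplicit false
set_option backward.isDefEq.respectTransparency false
set_option linter.style.haveILetI false

universe u

open CategoryTheory CategoryTheory.Limits MonoidalCategory CartesianMonoidalCategory MonObj AlgebraicGeometry
open TopologicalSpace
open Groth.Agent.PicLib Groth.Agent.AmpleLib Groth.Agent.DCohLib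

noncomputable section

namespace Groth.Agent.AVLib

variable {K : Type u} [Field K] [IsAlgClosed K]

theorem geometricallyIntegral_of_isIntegral {X : Scheme.{u}} (f : X ⟶ Spec (CommRingCat.of K)) [IsIntegral X] :
    GeometricallyIntegral f := by
  haveI := GeomIrred.geometricallyIrreducible_of_irreducibleSpace f
  haveI := geometricallyReduced_of_perfect f
  exact GeometricallyIntegral.of_geometricallyReduced_of_geometricallyIrreducible f

/-- A rational point through a closed point. -/
theorem exists_ratPt {Z : Over (Spec (CommRingCat.of K))} [LocallyOfFiniteType Z.hom] {z : Z.left}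
    (hz : IsClosed ({z} : Set Z.left)) :
    ∃ q : 𝟙_ (Over (Spec (CommRingCat.of K))) ⟶ Z, q.left (IsLocalRing.closedPoint K) = z := by
  obtain ⟨⟨q, hq⟩, hqz⟩ := (pointEquivClosedPoint Z.hom).surjective ⟨z, hz⟩
  exact ⟨Over.homMk q hq, congrArg Subtype.val hqz⟩

theorem point_ext {Z : Over (Spec (CommRingCat.of K))} [LocallyOfFiniteType Z.hom]
    {q q' : 𝟙_ (Over (Spec (CommRingCat.of K))) ⟶ Z}
    (h : q.left (IsLocalRing.closedPoint K) = q'.left (IsLocalRing.closedPoint K)) : q = q' :=
  Over.OverMorphism.ext (congrArg Subtype.val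
    ((pointEquivClosedPoint Z.hom).injective (a₁ := ⟨q.left, Over.w q⟩) (a₂ := ⟨q'.left, Over.w q'⟩) (Subtype.ext h)))

/-- A section of a trivial module on an integral proper scheme that is nonzero somewhere vanishes nowhere. -/
theorem genLocus_eq_top_of_iso {X : Scheme.{u}} (f : X ⟶ Spec (CommRingCat.of K)) [IsProper f] [IsIntegral X]
    {M : X.Modules} (e : Coh.structureModule X ≅ M) (s : Coh.structureModule X ⟶ M)
    (h : (CohB1.genLocus M s : Set X).Nonempty) : CohB1.genLocus M s = ⊤ := by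
  have hI : PicF.IsInvertible (Coh.structureModule X) := ParaFLib.isInvertible_structureModule
  rw [← genLocus_comp_iso s e.symm]
  have h' : (CohB1.genLocus _ (s ≫ e.symm.hom) : Set X).Nonempty := by rwa [genLocus_comp_iso]
  have hg : ParaFLib.Gen (⊤ : X.Opens) (resT (sec (𝟙 (Coh.structureModule X))) ⊤) := by
    have h1 := AmpleEmb.gen_genLocus hI (𝟙 (Coh.structureModule X))
    rwa [genLocus_id] at h1
  obtain ⟨a, ha⟩ := (hg ⊤ le_rfl).2 (resT (sec (s ≫ e.symm.hom)) ⊤)
  simp only [ParaFLib.res_self] at ha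
  have hb := genLocus_inf_eq_basicOpen (s ≫ e.symm.hom) hg (a := a)
    (by simp only [resT, ParaFLib.res_self]; exact ha)
  rw [inf_top_eq] at hb
  rw [hb] at h' ⊢
  have hne : a ≠ 0 := by
    rintro rfl
    simp at h'
  obtain ⟨b, hb'⟩ := (isField_of_universallyClosed K f).mul_inv_cancel hne
  exact X.basicOpen_of_isUnit (IsUnit.of_mul_eq_one b hb')

variable {A : Over (Spec (CommRingCat.of K))} [GrpObj A] [IsProper A.hom] [GeometricallyIntegral A.hom]

/-- The triple translate is the cube. -/
theorem pull_trR_three (c : Pic A.left) (a b : 𝟙_ (Over (Spec (CommRingCat.of K))) ⟶ A) :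
    pull (trR a).left c * pull (trR b).left c * pull (trR (a * b)⁻¹).left c = c ^ 3 := by
  rw [← square c a b, _root_.mul_right_comm, pull_trR_mul, pow_succ, pow_two]

/-- If every translate of a class is trivial on a variety mapping to `A`, translations by two of its points
act the same on the class. -/
theorem pull_trR_eq_of_triv_translates {V : Over (Spec (CommRingCat.of K))} [IsProper V.hom]
    [GeometricallyIntegral V.hom] (c : Pic A.left) (j : V ⟶ A)
    (w₀ w : 𝟙_ (Over (Spec (CommRingCat.of K))) ⟶ V) (h : ∀ a, pull (j ≫ trR a).left c = 1) :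
    pull (trR (w ≫ j)).left c = pull (trR (w₀ ≫ j)).left c := by
  haveI := isCommMonObj (A := A)
  letI : CommGroup (A ⟶ A) := Hom.commGroup
  haveI : Subsingleton ↥(Spec (CommRingCat.of K)) := inferInstanceAs (Subsingleton (PrimeSpectrum K))
  haveI : IsIntegral A.left := GeometricallyIntegral.isIntegral_of_subsingleton A.hom
  have key : pull ((fst V A ≫ j) * snd V A).left c / pull (snd V A ≫ trR (w₀ ≫ j)).left c = 1 := by
    refine eq_one_of_slices w₀ _ (fun a => ?_) ?_
    · have h1 := h a
      rw [comp_trR] at h1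
      rw [map_div, pull_left_comp, pull_left_comp, MonObj.comp_mul, lift_fst_assoc, lift_snd, lift_snd_assoc,
        Category.id_comp, Category.assoc, pull_const, div_one]
      exact h1
    · rw [map_div, pull_left_comp, pull_left_comp, MonObj.comp_mul, lift_fst_assoc, lift_snd, lift_snd_assoc,
        Category.id_comp, Category.assoc, div_eq_one, trR, _root_.mul_comm]
  have h2 := congrArg (pull (lift (toUnit A ≫ w) (𝟙 A)).left) key
  rw [map_div, map_one, pull_left_comp, pull_left_comp, MonObj.comp_mul, lift_fst_assoc, lift_snd, lift_snd_assoc,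
    Category.id_comp, Category.assoc, div_eq_one, _root_.mul_comm] at h2
  exact h2

theorem subsingleton_of_finite_closedPoints {X : Type u} [TopologicalSpace X] [JacobsonSpace X] {C : Set X}
    (hC : IsClosed C) (hCi : IsIrreducible C) (hfin : (C ∩ closedPoints X).Finite) : C.Subsingleton := by
  classical
  have hcl : IsClosed (C ∩ closedPoints X) := by
    rw [← Set.biUnion_of_singleton (C ∩ closedPoints X)]
    exact hfin.isClosed_biUnion fun y hy => hy.2
  have hsub : C ⊆ C ∩ closedPoints X := fun z hz => by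
    rw [← hcl.closure_eq, JacobsonSpace.closure_inter_closedPoints_eq_closure hC.isLocallyClosed]
    exact subset_closure hz
  obtain ⟨t, ht, hCt⟩ := isIrreducible_iff_sUnion_isClosed.1 hCi (hfin.toFinset.image fun y => ({y} : Set X))
    (fun t ht => by
      obtain ⟨y, hy, rfl⟩ := Finset.mem_image.1 ht
      exact (hfin.mem_toFinset.1 hy).2)
    (fun z hz => Set.mem_sUnion.2
      ⟨{z}, Finset.mem_coe.2 (Finset.mem_image.2 ⟨z, hfin.mem_toFinset.2 (hsub hz), rfl⟩), rfl⟩)
  obtain ⟨y, -, rfl⟩ := Finset.mem_image.1 ht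
  exact Set.subsingleton_singleton.anti hCt

/-- An invertible module with a section `σ` is ample when only finitely many rational points fix both its class
and the rational points of the non-vanishing locus of `σ`. -/
theorem isAmple_of_effective {L : A.left.Modules} (hL : PicF.IsInvertible L)
    (σ : Coh.structureModule A.left ⟶ L) (hne : (CohB1.genLocus L σ : Set A.left).Nonempty)
    (hfin : {d : 𝟙_ (Over (Spec (CommRingCat.of K))) ⟶ A |
      (∀ b : 𝟙_ (Over (Spec (CommRingCat.of K))) ⟶ A,
        b.left (IsLocalRing.closedPoint K) ∈ CohB1.genLocus L σ ↔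
          (b * d).left (IsLocalRing.closedPoint K) ∈ CohB1.genLocus L σ) ∧
      pull (trR d).left (cls hL) = cls hL}.Finite) :
    CohB1.IsAmple L := by
  haveI : CompactSpace A.left := QuasiCompact.compactSpace_of_compactSpace A.hom
  haveI : LocallyOfFiniteType A.hom := inferInstance
  haveI : JacobsonSpace A.left := LocallyOfFiniteType.jacobsonSpace A.hom
  haveI : Subsingleton ↥(Spec (CommRingCat.of K)) := inferInstanceAs (Subsingleton (PrimeSpectrum K))
  haveI : IsIntegral A.left := GeometricallyIntegral.isIntegral_of_subsingleton A.hom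
  haveI := isCommMonObj (A := A)
  letI : CommGroup (𝟙_ (Over (Spec (CommRingCat.of K))) ⟶ A) := Hom.commGroup
  let pt : ↥(Spec (CommRingCat.of K)) := IsLocalRing.closedPoint K
  set U := CohB1.genLocus L σ with hU
  -- translates
  have hmem : ∀ (p a : 𝟙_ (Over (Spec (CommRingCat.of K))) ⟶ A),
      p.left pt ∈ (trR a).left ⁻¹ᵁ U ↔ (p * a).left pt ∈ U := fun p a => by
    have e : p ≫ trR a = p * a := by
      rw [comp_trR, toUnit_unique (toUnit _) (𝟙 _), Category.id_comp]
    rw [← e]
    rfl
  have hpair : ∀ p a : 𝟙_ (Over (Spec (CommRingCat.of K))) ⟶ A, ∃ b,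
      (p * b).left pt ∈ U ∧ (p * (a * b)⁻¹).left pt ∈ U := fun p a => by
    obtain ⟨v, hv₁, hv₂⟩ := nonempty_preirreducible_inter (U.2.preimage (trL p).left.continuous)
      (U.2.preimage ((𝟙 A)⁻¹ ≫ trL (p * a⁻¹)).left.continuous) (hne.preimage (trL p).left.surjective)
      (hne.preimage ((𝟙 A)⁻¹ ≫ trL (p * a⁻¹)).left.surjective)
    obtain ⟨z, ⟨hz₁, hz₂⟩, hzc⟩ := nonempty_inter_closedPoints (X := A.left)
      (Z := (trL p).left ⁻¹' (U : Set A.left) ∩ ((𝟙 A)⁻¹ ≫ trL (p * a⁻¹)).left ⁻¹' (U : Set A.left))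
      ⟨v, hv₁, hv₂⟩
      ((U.2.preimage (trL p).left.continuous).inter
        (U.2.preimage ((𝟙 A)⁻¹ ≫ trL (p * a⁻¹)).left.continuous)).isLocallyClosed
    obtain ⟨b, hb⟩ := exists_ratPt (Z := A) hzc
    rw [← hb] at hz₁ hz₂
    refine ⟨b, ?_, ?_⟩
    · have e : b ≫ trL p = p * b := by
        rw [comp_trL, toUnit_unique (toUnit _) (𝟙 _), Category.id_comp]
      rw [← e]
      exact hz₁
    · have e : b ≫ (𝟙 A)⁻¹ ≫ trL (p * a⁻¹) = p * (a * b)⁻¹ := by
        rw [← Category.assoc, GrpObj.comp_inv, Category.comp_id, comp_trL, toUnit_unique (toUnit _) (𝟙 _),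
          Category.id_comp, mul_inv_rev, _root_.mul_assoc p, _root_.mul_comm a⁻¹]
      rw [← e]
      exact hz₂
  have hsec : ∀ a b : 𝟙_ (Over (Spec (CommRingCat.of K))) ⟶ A,
      ∃ s : Coh.structureModule A.left ⟶ CohB1.tensorPow L 3, CohB1.genLocus _ s =
        (trR a).left ⁻¹ᵁ U ⊓ (trR b).left ⁻¹ᵁ U ⊓ (trR (a * b)⁻¹).left ⁻¹ᵁ U := fun a b => by
    have hi := fun a => isInvertible_pullback (trR (A := A) a).left hL
    have hiso : Nonempty (CohB1.tensorMod (CohB1.tensorMod ((Scheme.Modules.pullback (trR a).left).obj L)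
        ((Scheme.Modules.pullback (trR b).left).obj L)) ((Scheme.Modules.pullback (trR (a * b)⁻¹).left).obj L) ≅
          CohB1.tensorPow L 3) := by
      rw [← cls_eq_cls (isInvertible_tensor (isInvertible_tensor (hi a) (hi b)) (hi _)) (isInvertible_tensorPow hL 3),
        cls_tensor (isInvertible_tensor (hi a) (hi b)) (hi _), cls_tensor (hi a) (hi b), cls_tensorPow,
        ← pull_cls _ hL, ← pull_cls _ hL, ← pull_cls _ hL, pull_trR_three]
    obtain ⟨e⟩ := hiso
    refine ⟨tensorS (tensorS (pullS (trR a).left σ) (pullS (trR b).left σ)) (pullS (trR (a * b)⁻¹).left σ) ≫ e.hom, ?_⟩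
    rw [genLocus_comp_iso, genLocus_tensorS (isInvertible_tensor (hi a) (hi b)) (hi _),
      genLocus_tensorS (hi a) (hi b), genLocus_pullS _ hL, genLocus_pullS _ hL, genLocus_pullS _ hL]
  refine (isAmple_pow_iff hL (n := 3) (by norm_num)).1
    (GenMorph.isAmple_of_generated A.hom (isInvertible_tensorPow hL 3) ?_ ?_)
  · intro x
    obtain ⟨x₀, hx₀, hx₀c⟩ := nonempty_inter_closedPoints (X := A.left) (Z := closure {x})
      (Set.singleton_nonempty x).closure isClosed_closure.isLocallyClosed
    obtain ⟨p, rfl⟩ := exists_ratPt (Z := A) hx₀c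
    obtain ⟨z, hz, hzc⟩ := nonempty_inter_closedPoints (X := A.left)
      (Z := (trL p).left ⁻¹' (U : Set A.left)) (hne.preimage (trL p).left.surjective)
      (U.2.preimage (trL p).left.continuous).isLocallyClosed
    obtain ⟨a, ha⟩ := exists_ratPt (Z := A) hzc
    have ha' : (p * a).left pt ∈ U := by
      have e : a ≫ trL p = p * a := by
        rw [comp_trL, toUnit_unique (toUnit _) (𝟙 _), Category.id_comp]
      rw [← ha] at hz
      rw [← e]
      exact hz
    obtain ⟨b, hb₁, hb₂⟩ := hpair p a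
    obtain ⟨s, hs⟩ := hsec a b
    refine ⟨s, (specializes_iff_mem_closure.2 hx₀).mem_open (CohB1.genLocus _ s).2 ?_⟩
    show p.left pt ∈ CohB1.genLocus _ s
    rw [hs]
    exact ⟨⟨(hmem p a).2 ha', (hmem p b).2 hb₁⟩, (hmem p _).2 hb₂⟩
  intro C hC hCi ⟨eC⟩
  let I := Scheme.IdealSheafData.vanishingIdeal (⟨C, hC⟩ : Closeds A.left)
  haveI : IsIntegral I.subscheme := CurveLib.isIntegral_vanishingIdeal hC hCi
  let V : Over (Spec (CommRingCat.of K)) := Over.mk (I.subschemeι ≫ A.hom)
  haveI : IsProper V.hom := inferInstanceAs (IsProper (I.subschemeι ≫ A.hom))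
  haveI : IsIntegral V.left := inferInstanceAs (IsIntegral I.subscheme)
  haveI : GeometricallyIntegral V.hom := geometricallyIntegral_of_isIntegral V.hom
  haveI : LocallyOfFiniteType V.hom := inferInstance
  let j : V ⟶ A := Over.homMk I.subschemeι rfl
  have hrange : Set.range I.subschemeι = C := by
    rw [Scheme.IdealSheafData.range_subschemeι, Scheme.IdealSheafData.coe_support_vanishingIdeal]
    rfl
  have hlift : ∀ q : 𝟙_ (Over (Spec (CommRingCat.of K))) ⟶ A, q.left pt ∈ C → ∃ w, w ≫ j = q := fun q hq => by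
    rw [← hrange] at hq
    obtain ⟨z, hz⟩ := hq
    have hzc : IsClosed ({z} : Set V.left) := by
      have e : ({z} : Set I.subscheme) = I.subschemeι ⁻¹' {q.left pt} := by
        rw [← hz, ← Set.image_singleton, I.subschemeι.isClosedEmbedding.injective.preimage_image]
      rw [show ({z} : Set V.left) = ({z} : Set I.subscheme) from rfl, e]
      exact (((pointEquivClosedPoint A.hom) ⟨q.left, Over.w q⟩).2).preimage I.subschemeι.continuous
    obtain ⟨w, hw⟩ := exists_ratPt (Z := V) hzc
    refine ⟨w, point_ext ?_⟩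
    show I.subschemeι (w.left pt) = q.left pt
    rw [show w.left pt = z from hw, hz]
  have hnowhere : ∀ (p q a : 𝟙_ (Over (Spec (CommRingCat.of K))) ⟶ A), p.left pt ∈ C → q.left pt ∈ C →
      (p * a).left pt ∈ U → (q * a).left pt ∈ U ∧ pull (j ≫ trR a).left (cls hL) = 1 := by
    intro p q a hp hq hpa
    obtain ⟨b, hb₁, hb₂⟩ := hpair p a
    obtain ⟨s, hs⟩ := hsec a b
    have htop : CohB1.genLocus _ (pullS I.subschemeι s) = ⊤ := by
      refine genLocus_eq_top_of_iso V.hom eC _ ?_
      rw [genLocus_pullS _ (isInvertible_tensorPow hL 3), hs]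
      rw [← hrange] at hp
      obtain ⟨z, hz⟩ := hp
      exact ⟨z, by
        show I.subschemeι z ∈ (trR a).left ⁻¹ᵁ U ⊓ (trR b).left ⁻¹ᵁ U ⊓ (trR (a * b)⁻¹).left ⁻¹ᵁ U
        rw [hz]
        exact ⟨⟨(hmem p a).2 hpa, (hmem p b).2 hb₁⟩, (hmem p _).2 hb₂⟩⟩
    rw [genLocus_pullS _ (isInvertible_tensorPow hL 3), hs] at htop
    have hsub : ∀ z : I.subscheme, I.subschemeι z ∈ (trR a).left ⁻¹ᵁ U := fun z =>
      (htop.ge (Opens.mem_top z)).1.1
    refine ⟨(hmem q a).1 ?_, ?_⟩
    · rw [← hrange] at hq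
      obtain ⟨z, hz⟩ := hq
      rw [← hz]
      exact hsub z
    · have h1 : CohB1.genLocus _ (pullS (j ≫ trR a).left σ) = ⊤ := by
        rw [genLocus_pullS _ hL]
        exact eq_top_iff.2 fun z _ => hsub z
      haveI := GenMorph.isIso_of_genLocus_eq_top (isInvertible_pullback _ hL) h1
      rw [pull_cls, cls_eq_one]
      exact ⟨(asIso (pullS (j ≫ trR a).left σ)).symm⟩
  obtain ⟨x₁, hx₁, hx₁c⟩ := nonempty_inter_closedPoints (X := A.left) hCi.1 hC.isLocallyClosed
  obtain ⟨p, rfl⟩ := exists_ratPt (Z := A) hx₁c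
  -- the restriction to `C` of every translate is trivial
  let F : (𝟙_ (Over (Spec (CommRingCat.of K))) ⟶ A) → Pic V.left := fun a => pull (j ≫ trR a).left (cls hL)
  have hsq : ∀ a b, F (a * b) * F 1 = F a * F b := fun a b => by
    have h := congrArg (pull j.left) (square (cls hL) a b)
    rw [map_mul, map_mul, pull_left_comp, pull_left_comp, pull_left_comp] at h
    simp only [F]
    rw [← h, show j ≫ trR (1 : 𝟙_ _ ⟶ A) = j by
      rw [comp_trR, MonObj.comp_one, _root_.mul_one]]
  have hF1 : ∀ a, (p * a).left pt ∈ U → F a = 1 := fun a ha => (hnowhere p p a hx₁ hx₁ ha).2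
  have hF : ∀ a, F a = 1 := by
    have hdec : ∀ a, ∃ a₁ a₂, a = a₁ * a₂⁻¹ ∧ (p * a₁).left pt ∈ U ∧ (p * a₂).left pt ∈ U := fun a => by
      obtain ⟨v, hv₁, hv₂⟩ := nonempty_preirreducible_inter (U.2.preimage (trL p).left.continuous)
        (U.2.preimage (trL (p * a)).left.continuous) (hne.preimage (trL p).left.surjective)
        (hne.preimage (trL (p * a)).left.surjective)
      obtain ⟨z, ⟨hz₁, hz₂⟩, hzc⟩ := nonempty_inter_closedPoints (X := A.left)
        (Z := (trL p).left ⁻¹' (U : Set A.left) ∩ (trL (p * a)).left ⁻¹' (U : Set A.left))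
        ⟨v, hv₁, hv₂⟩
        ((U.2.preimage (trL p).left.continuous).inter (U.2.preimage (trL (p * a)).left.continuous)).isLocallyClosed
      obtain ⟨b, hb⟩ := exists_ratPt (Z := A) hzc
      rw [← hb] at hz₁ hz₂
      have e : ∀ r, b ≫ trL r = r * b := fun r => by
        rw [comp_trL, toUnit_unique (toUnit _) (𝟙 _), Category.id_comp]
      refine ⟨a * b, b, (mul_inv_cancel_right a b).symm, ?_, ?_⟩
      · rw [← _root_.mul_assoc, ← e]
        exact hz₂
      · rw [← e]
        exact hz₁
    have h1 : F 1 = 1 := by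
      obtain ⟨a₀, -, -, ha₀, -⟩ := hdec 1
      obtain ⟨a₁, a₂, he, ha₁, ha₂⟩ := hdec a₀
      have h := hsq a₀ a₂
      rw [he, inv_mul_cancel_right, hF1 _ ha₁, ← he, hF1 _ ha₀, hF1 _ ha₂, _root_.one_mul, _root_.one_mul] at h
      exact h
    intro a
    obtain ⟨a₁, a₂, he, ha₁, ha₂⟩ := hdec a
    have h := hsq a a₂
    rw [he, inv_mul_cancel_right, hF1 _ ha₁, hF1 _ ha₂, h1, _root_.one_mul, _root_.mul_one, ← he] at h
    exact h.symm
  -- rigidity
  obtain ⟨w₀, hw₀⟩ := hlift p hx₁
  have hrig : ∀ w : 𝟙_ (Over (Spec (CommRingCat.of K))) ⟶ V,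
      pull (trR (w ≫ j)).left (cls hL) = pull (trR p).left (cls hL) := fun w => by
    rw [← hw₀]
    exact pull_trR_eq_of_triv_translates (cls hL) j w₀ w hF
  have hG : ∀ q : 𝟙_ (Over (Spec (CommRingCat.of K))) ⟶ A, q.left pt ∈ C → q * p⁻¹ ∈ {d | (∀ b, b.left pt ∈ U ↔
      (b * d).left pt ∈ U) ∧ pull (trR d).left (cls hL) = cls hL} := fun q hq => by
    constructor
    · intro b
      have e1 : p * (b * p⁻¹) = b := by rw [_root_.mul_comm b, mul_inv_cancel_left]
      have e2 : q * (b * p⁻¹) = b * (q * p⁻¹) := mul_left_comm _ _ _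
      constructor
      · intro hb
        rw [← e2]
        exact (hnowhere p q _ hx₁ hq (by rwa [e1])).1
      · intro hb
        rw [← e2] at hb
        have := (hnowhere q p _ hq hx₁ hb).1
        rwa [e1] at this
    · obtain ⟨w, rfl⟩ := hlift q hq
      have h := square (cls hL) ((w ≫ j) * p⁻¹) p
      rw [inv_mul_cancel_right, hrig w, _root_.mul_comm] at h
      exact (mul_right_cancel h).symm
  refine subsingleton_of_finite_closedPoints hC hCi ((hfin.image fun d => (d * p).left pt).subset fun z hz => ?_)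
  obtain ⟨q, rfl⟩ := exists_ratPt (Z := A) hz.2
  exact ⟨q * p⁻¹, hG q hz.1, by simp only [inv_mul_cancel_right, pt]⟩

end Groth.Agent.AVLib
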