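import Groth.Agent.AVLib.Proj
import Groth.Agent.FlatDim.Trdeg
import Groth.Agent.DimFormulaLib.FibreComp
import Groth.Agent.S10830
import Groth.Agent.AmpleLib.RelLocal
import Mathlib.AlgebraicGeometry.ZariskisMainTheorem

/-!
# Multiplication by `n` on an abelian variety is finite and surjective
-/

set_option autoImplicit false
set_option backward.isDefEq.respectTransparency false

universe u

open CategoryTheory CategoryTheory.Limits MonoidalCategory CartesianMonoidalCategory MonObj AlgebraicGeometry
open TopologicalSpace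
open Groth.Agent.PicLib Groth.Agent.AmpleLib

noncomputable section

namespace Groth.Agent.AVLib

/-- A quasi-affine proper scheme over a field is finite. -/
theorem isFinite_of_isAmple_unit {K : CommRingCat.{u}} {F : Scheme.{u}} (f : F ⟶ Spec K) [IsProper f]
    (h : CohB1.IsAmple (Coh.structureModule F)) : IsFinite f := by
  haveI := h.2.1
  haveI : F.IsQuasiAffine := isQuasiAffine_iff.2 h
  haveI : IsProper (F.toSpecΓ ≫ Spec.map f.appTop ≫ (Spec K).isoSpec.inv) := by
    rw [← Scheme.toSpecΓ_naturality_assoc, ← Scheme.isoSpec_hom, Iso.hom_inv_id, Category.comp_id]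
    infer_instance
  haveI := IsProper.of_comp F.toSpecΓ (Spec.map f.appTop ≫ (Spec K).isoSpec.inv)
  haveI : IsClosedImmersion F.toSpecΓ := (IsClosedImmersion.iff_isProper_and_mono _).2 ⟨inferInstance, inferInstance⟩
  haveI : IsAffine F := isAffine_of_isAffineHom F.toSpecΓ
  exact IsFinite.iff_isProper_and_isAffineHom.2 ⟨inferInstance, inferInstance⟩

/-- A morphism along which the inverse image of a class is ample is finite. -/
theorem isFinite_of_isAmple_pull {X Y : Scheme.{u}} [X.IsSeparated] [Y.IsSeparated] (g : X ⟶ Y) [IsProper g]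
    {L : Y.Modules} (hL : PicF.IsInvertible L) {M : X.Modules} (hM : CohB1.IsAmple M)
    (e : cls hM.1 = pull g (cls hL)) : IsFinite g := by
  haveI : LocallyQuasiFinite g := locallyQuasiFinite_iff_isFinite_fiber.2 fun y => by
    haveI : IsAffineHom (Y.fromSpecResidueField y ≫ terminal.from Y) := by
      rw [terminal.comp_from]; infer_instance
    haveI : IsAffineHom (Y.fromSpecResidueField y) := IsAffineHom.of_comp _ (terminal.from Y)
    haveI : IsAffineHom (g.fiberι y) := MorphismProperty.pullback_fst (P := @IsAffineHom) _ _ inferInstance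
    haveI : IsProper (g.fiberToSpecResidueField y) := MorphismProperty.pullback_snd (P := @IsProper) _ _ inferInstance
    refine isFinite_of_isAmple_unit (g.fiberToSpecResidueField y) ?_
    have hA := isAmple_pullback (g.fiberι y) hM
    have h1 : cls (isInvertible_pullback (g.fiberι y) hM.1) = 1 := by
      rw [← pull_cls (g.fiberι y) hM.1, e, ← pull_comp, g.fiber_fac y, pull_comp,
        show pull (Y.fromSpecResidueField y) (cls hL) = 1 from eq_one_of_local _, map_one]
    obtain ⟨e'⟩ := (cls_eq_one _).1 h1
    exact isAmple_of_iso e' hA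
  exact IsFinite.of_isProper_of_locallyQuasiFinite g

variable (K : Type u) [Field K]

/-- A finite endomorphism of an irreducible scheme of finite type over a field is surjective. -/
theorem surjective_of_finite_endo {X : Scheme.{u}} (q : X ⟶ Spec (CommRingCat.of K)) [LocallyOfFiniteType q]
    [IrreducibleSpace X] (g : X ⟶ X) [IsFinite g] : Surjective g := by
  haveI : IsLocallyNoetherian X := LocallyOfFiniteType.isLocallyNoetherian q
  obtain ⟨t, -, ht⟩ := FlatDim.topologicalKrullDim_closure K q (genericPoint X)
  rw [(genericPoint_spec X).def, (Homeomorph.Set.univ ↥X).isHomeomorph.topologicalKrullDim_eq] at ht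
  have hfin : topologicalKrullDim ↥X ≠ ⊤ := by
    rw [ht]
    exact WithBot.coe_injective.ne (ENat.coe_ne_top t)
  refine ⟨Set.range_eq_univ.1 (by_contra fun hne => ?_)⟩
  have h1 := S10830.result ↥X hfin (Set.range g) g.isClosedMap.isClosed_range hne
  haveI : IsFinite (g.toImage ≫ g.imageι) := by rwa [g.toImage_imageι]
  haveI := IsFinite.of_comp g.toImage g.imageι
  haveI : IsLocallyNoetherian g.image := LocallyOfFiniteType.isLocallyNoetherian g.imageι
  have h2 := DimFormulaLib.topologicalKrullDim_le_add_of_fibres g.toImage 0 fun y => by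
    haveI : IsFinite (g.toImage.fiberToSpecResidueField y) := inferInstance
    haveI : DiscreteTopology ↥(g.toImage.fiber y) := inferInstance
    exact topologicalKrullDim_zero_of_discreteTopology _
  have h3 : topologicalKrullDim ↥g.image = topologicalKrullDim ↥(Set.range g) := by
    have hr : Set.range g.imageι = Set.range g := by
      show Set.range g.ker.subschemeι = _
      rw [Scheme.IdealSheafData.range_subschemeι, Scheme.Hom.support_ker, g.isClosedMap.isClosed_range.closure_eq]
    rw [← hr]
    exact g.imageι.isEmbedding.toHomeomorph.isHomeomorph.topologicalKrullDim_eq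
  rw [Nat.cast_zero, add_zero, h3] at h2
  exact lt_irrefl _ (h2.trans_lt h1)

variable {K} {A : Over (Spec (CommRingCat.of K))} [GrpObj A] [IsProper A.hom] [GeometricallyIntegral A.hom]

/-- A symmetric ample class. -/
theorem exists_symmetric_ample : ∃ (M : A.left.Modules) (hM : CohB1.IsAmple M),
    pull ((𝟙 A)⁻¹).left (cls hM.1) = cls hM.1 := by
  obtain ⟨L, hL⟩ := exists_isAmple K A
  haveI : IsIso ((𝟙 A)⁻¹ : A ⟶ A).left := inferInstanceAs (IsIso ((Over.forget _).map ((𝟙 A)⁻¹ : A ⟶ A)))
  have h := AmpleLib.isAmple_tensor hL (isAmple_pullback ((𝟙 A)⁻¹ : A ⟶ A).left hL)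
  refine ⟨_, h, ?_⟩
  have e : cls h.1 = cls hL.1 * pull ((𝟙 A)⁻¹).left (cls hL.1) := rfl
  rw [e, map_mul, pull_left_comp, GrpObj.comp_inv, Category.comp_id, inv_inv, Over.id_left, pull_id, mul_comm]

theorem pull_npow_symm {c : Pic A.left} (hc : pull ((𝟙 A)⁻¹).left c = c) (n : ℕ) :
    pull (𝟙 A ^ n).left c = c ^ n ^ 2 := by
  rw [nat_pull, hc, ← pow_add]
  congr 1
  induction n with
  | zero => rfl
  | succ m ih =>
    have h1 : (m + 1 + 1).choose 2 = m + 1 + (m + 1).choose 2 := by
      rw [Nat.choose_succ_succ' (m + 1) 1, Nat.choose_one_right]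
    have h2 : (m + 1).choose 2 = m + m.choose 2 := by
      rw [Nat.choose_succ_succ' m 1, Nat.choose_one_right]
    have h3 : (m + 1) ^ 2 = m ^ 2 + 2 * m + 1 := by ring
    omega

theorem isProper_left (f : A ⟶ A) : IsProper f.left := by
  haveI : IsProper (f.left ≫ A.hom) := by rw [Over.w f]; infer_instance
  exact IsProper.of_comp f.left A.hom

/-- Multiplication by a positive integer is finite. -/
theorem isFinite_npow (n : ℕ) (hn : 1 ≤ n) : IsFinite (𝟙 A ^ n).left := by
  haveI : A.left.IsSeparated := ⟨by rw [← terminal.comp_from A.hom]; infer_instance⟩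
  obtain ⟨M, hM, hs⟩ := exists_symmetric_ample (A := A)
  have hpos : 0 < n ^ 2 := pow_pos hn 2
  have hA : CohB1.IsAmple (CohB1.tensorPow M (n ^ 2)) := (isAmple_pow_iff hM.1 hpos).2 hM
  haveI := isProper_left (𝟙 A ^ n)
  refine isFinite_of_isAmple_pull (𝟙 A ^ n).left hM.1 hA ?_
  rw [pull_npow_symm hs, ← cls_tensorPow hM.1]

/-- Multiplication by a positive integer is surjective. -/
theorem surjective_npow (n : ℕ) (hn : 1 ≤ n) : Surjective (𝟙 A ^ n).left := by
  haveI : IsIntegral A.left := GeometricallyIntegral.isIntegral_of_subsingleton A.hom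
  haveI := isFinite_npow (A := A) n hn
  exact surjective_of_finite_endo K A.hom _

end Groth.Agent.AVLib
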