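import Mathlib

/-!
# Torsion of a divisible group with `d ^ r` elements killed by `d`
-/

set_option autoImplicit false

universe u

noncomputable section

namespace Groth.Agent.AVLib.TorsGroup

variable {M : Type u} [AddCommGroup M] {r : ℕ}

/-- The combination map. -/
def comb {N : ℕ} (e : Fin r → M) (he : ∀ i, N • e i = 0) : (Fin r → ZMod N) →+ M :=
  ∑ i, (ZMod.lift N ⟨zmultiplesHom M (e i), by simp [he i]⟩).comp (Pi.evalAddMonoidHom _ i)

theorem comb_natCast {N : ℕ} (e : Fin r → M) (he : ∀ i, N • e i = 0) (c : Fin r → ℕ) :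
    comb e he (fun i => (c i : ZMod N)) = ∑ i, c i • e i := by
  simp only [comb, AddMonoidHom.coe_finsetSum, Finset.sum_apply, AddMonoidHom.coe_comp, Function.comp_apply,
    Pi.evalAddMonoidHom_apply]
  refine Finset.sum_congr rfl fun i _ => ?_
  rw [show ((c i : ℕ) : ZMod N) = ((c i : ℤ) : ZMod N) from (Int.cast_natCast _).symm, ZMod.lift_coe]
  simp [natCast_zsmul]

theorem comb_mem {N : ℕ} [NeZero N] (e : Fin r → M) (he : ∀ i, N • e i = 0) (c : Fin r → ZMod N) :
    N • comb e he c = 0 := by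
  rw [← map_nsmul, show N • c = 0 from funext fun i => by simp, map_zero]

/-- Generators of the `N`-torsion with the right cardinality form a basis. -/
theorem comb_bijective {N : ℕ} [NeZero N] (e : Fin r → M) (he : ∀ i, N • e i = 0)
    (hgen : ∀ x, N • x = 0 → ∃ c : Fin r → ℕ, x = ∑ i, c i • e i)
    (hcard : Nat.card {x : M // N • x = 0} = N ^ r) :
    Function.Bijective (fun c => (⟨comb e he c, comb_mem e he c⟩ : {x : M // N • x = 0})) := by
  haveI : Finite {x : M // N • x = 0} :=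
    Nat.finite_of_card_ne_zero (by rw [hcard]; exact pow_ne_zero _ (NeZero.ne N))
  refine (Nat.bijective_iff_surjective_and_card _).2 ⟨fun x => ?_, by simp [hcard]⟩
  obtain ⟨c, hc⟩ := hgen x.1 x.2
  exact ⟨fun i => (c i : ZMod N), Subtype.ext ((comb_natCast e he c).trans hc.symm)⟩

theorem modEq_of_sum_eq {N : ℕ} [NeZero N] (e : Fin r → M) (he : ∀ i, N • e i = 0)
    (hgen : ∀ x, N • x = 0 → ∃ c : Fin r → ℕ, x = ∑ i, c i • e i)
    (hcard : Nat.card {x : M // N • x = 0} = N ^ r) {c d : Fin r → ℕ}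
    (h : ∑ i, c i • e i = ∑ i, d i • e i) (i : Fin r) : c i ≡ d i [MOD N] := by
  rw [← ZMod.natCast_eq_natCast_iff]
  exact congrFun ((comb_bijective e he hgen hcard).1 (a₁ := fun i => (c i : ZMod N)) (a₂ := fun i => (d i : ZMod N))
    (Subtype.ext (by simp only [comb_natCast]; exact h))) i

/-- `N`-torsion as a subgroup. -/
abbrev tors (M : Type u) [AddCommGroup M] (N : ℕ) : AddSubgroup M := (nsmulAddMonoidHom N : M →+ M).ker

theorem exists_gen_prime {p : ℕ} [Fact p.Prime] (hcard : Nat.card {x : M // p • x = 0} = p ^ r) :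
    ∃ e : Fin r → M, (∀ i, p • e i = 0) ∧ ∀ x, p • x = 0 → ∃ c : Fin r → ℕ, x = ∑ i, c i • e i := by
  haveI : Finite (tors M p) := by
    show Finite {x : M // p • x = 0}
    exact Nat.finite_of_card_ne_zero (by rw [hcard]; exact pow_ne_zero _ (Fact.out : p.Prime).ne_zero)
  have hann : ∀ x : tors M p, p • x = 0 := fun x => Subtype.ext x.2
  letI : Module (ZMod p) (tors M p) := AddCommGroup.zmodModule (n := p) hann
  haveI : Module.Finite (ZMod p) (tors M p) := Module.Finite.of_finite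
  have h2 : p ^ Module.finrank (ZMod p) (tors M p) = p ^ r := by
    have h := Module.natCard_eq_pow_finrank (K := ZMod p) (V := tors M p)
    rw [Nat.card_zmod] at h
    exact h.symm.trans hcard
  let b := Module.finBasisOfFinrankEq (ZMod p) (tors M p) (Nat.pow_right_injective (Fact.out : p.Prime).two_le h2)
  refine ⟨fun i => (b i : M), fun i => (b i).2, fun x hx => ⟨fun i => (b.repr ⟨x, hx⟩ i).val, ?_⟩⟩
  have h := congrArg (Subtype.val : tors M p → M) (b.sum_repr ⟨x, hx⟩)
  refine h.symm.trans ?_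
  rw [AddSubgroup.val_finsetSum]
  refine Finset.sum_congr rfl fun i _ => ?_
  conv_lhs => rw [← ZMod.natCast_zmod_val (b.repr ⟨x, hx⟩ i), Nat.cast_smul_eq_nsmul]
  rfl

/-- Lifting generators along multiplication by `l`. -/
theorem gen_step {N l : ℕ} {e f : Fin r → M} (hef : ∀ i, l • f i = e i)
    (hgen : ∀ x, N • x = 0 → ∃ c : Fin r → ℕ, x = ∑ i, c i • e i)
    (hl : ∀ x, l • x = 0 → ∃ c : Fin r → ℕ, x = ∑ i, c i • f i) (x : M) (hx : (N * l) • x = 0) :
    ∃ c : Fin r → ℕ, x = ∑ i, c i • f i := by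
  obtain ⟨c, hc⟩ := hgen (l • x) (by rwa [← mul_nsmul'])
  obtain ⟨d, hd⟩ := hl (x - ∑ i, c i • f i) (by
    rw [nsmul_sub, Finset.smul_sum, hc, sub_eq_zero]
    exact Finset.sum_congr rfl fun i _ => by rw [← hef i, smul_comm])
  exact ⟨fun i => d i + c i, by rw [sub_eq_iff_eq_add.1 hd]; simp [add_smul, Finset.sum_add_distrib]⟩

/-- A coherent system of generators of the `l`-power torsion. -/
theorem exists_system {l : ℕ} [Fact l.Prime] (hdiv : ∀ x : M, ∃ y, l • y = x)
    (hcard : Nat.card {x : M // l • x = 0} = l ^ r) :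
    ∃ e : ℕ → Fin r → M, (∀ i, e 0 i = 0) ∧ (∀ n i, l • e (n + 1) i = e n i) ∧
      (∀ n i, l ^ n • e n i = 0) ∧ ∀ n x, l ^ n • x = 0 → ∃ c : Fin r → ℕ, x = ∑ i, c i • e n i := by
  obtain ⟨b, hb, hbg⟩ := exists_gen_prime hcard
  choose dv hdv using hdiv
  let e : ℕ → Fin r → M := fun n => Nat.rec (fun _ => 0)
    (fun k prev i => if k = 0 then b i else dv (prev i)) n
  have h1 : ∀ n i, l • e (n + 1) i = e n i := by
    rintro (_ | n) i
    · exact hb i
    · show l • (if n + 1 = 0 then _ else dv _) = _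
      rw [if_neg (Nat.succ_ne_zero _), hdv]
  have h2 : ∀ n i, l ^ n • e n i = 0 := by
    intro n i
    induction n with
    | zero => simp [e]
    | succ n ih => rw [pow_succ, mul_nsmul', h1, ih]
  refine ⟨e, fun i => rfl, h1, h2, fun n => ?_⟩
  induction n with
  | zero => exact fun x hx => ⟨0, by simpa using hx⟩
  | succ n ih =>
    intro x hx
    rw [pow_succ] at hx
    refine gen_step (h1 n) ih (fun y hy => ?_) x hx
    obtain ⟨c, hc⟩ := hbg y hy
    refine ⟨fun i => c i * l ^ n, hc.trans (Finset.sum_congr rfl fun i _ => ?_)⟩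
    rw [mul_nsmul']
    congr 1
    clear ih hx
    induction n with
    | zero => simp [e]
    | succ n ih => rw [pow_succ, mul_nsmul', h1, ← ih]

theorem nsmul_congr {N : ℕ} {k k' : ℕ} {y : M} (h : k ≡ k' [MOD N]) (hy : N • y = 0) : k • y = k' • y := by
  have hm : ∀ j : ℕ, (j % N) • y = j • y := fun j => by
    conv_rhs => rw [← Nat.mod_add_div j N, add_nsmul, mul_nsmul, hy, nsmul_zero, add_zero]
  rw [← hm k, ← hm k', h]

/-- Generators for a composite. -/
theorem exists_gen (n : ℕ) (hn : 0 < n) (hdiv : ∀ p : ℕ, p.Prime → p ∣ n → ∀ x : M, ∃ y, p • y = x)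
    (hcard : ∀ p : ℕ, p.Prime → p ∣ n → Nat.card {x : M // p • x = 0} = p ^ r) :
    ∃ e : Fin r → M, (∀ i, n • e i = 0) ∧ ∀ x, n • x = 0 → ∃ c : Fin r → ℕ, x = ∑ i, c i • e i := by
  induction n using Nat.recOnPrimeCoprime with
  | zero => simp at hn
  | prime_pow p a hp =>
    rcases Nat.eq_zero_or_pos a with rfl | ha
    · exact ⟨0, by simp, fun x hx => ⟨0, by simpa using hx⟩⟩
    haveI := Fact.mk hp
    have hd : p ∣ p ^ a := dvd_pow_self p ha.ne'
    obtain ⟨e, -, -, h2, h3⟩ := exists_system (hdiv p hp hd) (hcard p hp hd)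
    exact ⟨e a, h2 a, h3 a⟩
  | coprime a b ha hb hab iha ihb =>
    obtain ⟨u, hu, hug⟩ := iha (by omega) (fun p hp hd => hdiv p hp (hd.mul_right b))
      (fun p hp hd => hcard p hp (hd.mul_right b))
    obtain ⟨v, hv, hvg⟩ := ihb (by omega) (fun p hp hd => hdiv p hp (hd.mul_left a))
      (fun p hp hd => hcard p hp (hd.mul_left a))
    refine ⟨fun i => u i + v i, fun i => by
      rw [nsmul_add, mul_nsmul, hu, nsmul_zero, mul_nsmul', hv, nsmul_zero, add_zero], fun x hx => ?_⟩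
    obtain ⟨s, hs⟩ := Nat.chineseRemainder hab 1 0
    obtain ⟨t, ht⟩ := Nat.chineseRemainder hab 0 1
    have hxa : a • (s • x) = 0 := by
      obtain ⟨k, rfl⟩ := (Nat.modEq_zero_iff_dvd).1 hs.2
      rw [← mul_nsmul', ← mul_assoc, mul_comm (a * b), mul_nsmul', hx, nsmul_zero]
    have hxb : b • (t • x) = 0 := by
      obtain ⟨k, rfl⟩ := (Nat.modEq_zero_iff_dvd).1 ht.1
      rw [← mul_nsmul', ← mul_assoc, mul_comm b a, mul_comm (a * b), mul_nsmul', hx, nsmul_zero]
    have hst : (s + t) • x = x := by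
      have h : s + t ≡ 1 [MOD a * b] :=
        (Nat.modEq_and_modEq_iff_modEq_mul hab).1 ⟨by simpa using hs.1.add ht.1, by simpa using hs.2.add ht.2⟩
      conv_rhs => rw [← one_nsmul x]
      exact nsmul_congr h hx
    obtain ⟨c, hc⟩ := hug _ hxa
    obtain ⟨d, hd⟩ := hvg _ hxb
    choose w hw using fun i => (Nat.chineseRemainder hab (c i) (d i)).2 |> fun h =>
      (⟨(Nat.chineseRemainder hab (c i) (d i)).1, h⟩ : ∃ w, w ≡ c i [MOD a] ∧ w ≡ d i [MOD b])
    refine ⟨w, ?_⟩
    rw [← hst, add_nsmul, hc, hd, ← Finset.sum_add_distrib]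
    refine Finset.sum_congr rfl fun i _ => ?_
    rw [nsmul_add, nsmul_congr (hw i).1 (hu i), nsmul_congr (hw i).2 (hv i)]

/-- The structure of the torsion. -/
theorem nonempty_equiv (n : ℕ) (hn : 0 < n) (hdiv : ∀ p : ℕ, p.Prime → p ∣ n → ∀ x : M, ∃ y, p • y = x)
    (hcard : ∀ d : ℕ, d ∣ n → Nat.card {x : M // d • x = 0} = d ^ r) :
    Nonempty (tors M n ≃+ (Fin r → ZMod n)) := by
  haveI : NeZero n := ⟨hn.ne'⟩
  obtain ⟨e, he, hgen⟩ := exists_gen n hn hdiv (fun p _ hd => hcard p hd)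
  let f : (Fin r → ZMod n) →+ tors M n := (comb e he).codRestrict _ fun c => comb_mem e he c
  have hf : Function.Bijective f := comb_bijective e he hgen (hcard n dvd_rfl)
  exact ⟨(AddEquiv.ofBijective f hf).symm⟩

end Groth.Agent.AVLib.TorsGroup
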