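import Groth.Prelude.Def_AbDual
import Groth.Agent.AVLib.TorsGroup

/-!
# The Tate module of a divisible group of points with the expected torsion is free
-/

set_option autoImplicit false

universe u

open CategoryTheory AlgebraicGeometry MonObj AbDual

noncomputable section

namespace Groth.Agent.AVLib

variable {S : Scheme.{u}} {A T : Over S} [GrpObj A] [IsCommMonObj A] {l r : ℕ} [hl : Fact l.Prime]

theorem nonempty_tateMod_equiv (hdiv : ∀ x : Additive (T ⟶ A), ∃ y, l • y = x)
    (hcard : ∀ n, Nat.card {x : Additive (T ⟶ A) // l ^ n • x = 0} = (l ^ n) ^ r) :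
    Nonempty ((Fin r → ℤ_[l]) ≃ₗ[ℤ_[l]] TateMod A l T) := by
  obtain ⟨e, -, h1, h2, h3⟩ := TorsGroup.exists_system hdiv
    (by simpa using hcard 1)
  let E : Fin r → TateMod A l T := fun i =>
    ⟨fun n => e n i, ⟨fun n => h2 n i, fun n => h1 n i⟩⟩
  let φ : (Fin r → ℤ_[l]) →ₗ[ℤ_[l]] TateMod A l T := Fintype.linearCombination ℤ_[l] E
  have hφ : ∀ c n, TateMod.component A l T n (φ c) = ∑ i, (c i).appr n • e n i := by
    intro c n
    rw [Fintype.linearCombination_apply, map_sum]
    exact Finset.sum_congr rfl fun i _ => rfl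
  haveI : ∀ n, NeZero (l ^ n) := fun n => ⟨pow_ne_zero _ hl.out.ne_zero⟩
  have hmod : ∀ (n : ℕ) (c d : Fin r → ℕ), ∑ i, c i • e n i = ∑ i, d i • e n i → ∀ i, c i ≡ d i [MOD l ^ n] :=
    fun n c d h i => TorsGroup.modEq_of_sum_eq (e n) (h2 n) (h3 n) (hcard n) h i
  have hinj : Function.Injective φ := by
    rw [← LinearMap.ker_eq_bot, Submodule.eq_bot_iff]
    intro c hc
    funext i
    refine PadicInt.ext_of_toZModPow.1 fun n => ?_
    rw [Pi.zero_apply, map_zero, toZModPow_eq_appr]
    have h := hmod n (fun i => (c i).appr n) (fun _ => 0) (by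
      rw [← hφ, LinearMap.mem_ker.1 hc, map_zero]; simp) i
    rw [(ZMod.natCast_eq_natCast_iff _ _ _).2 h, Nat.cast_zero]
  have hsurj : Function.Surjective φ := by
    intro x
    choose c hc using fun n => h3 n (TateMod.component A l T n x) (x.torsion n)
    have hcoh : ∀ n i, c (n + 1) i ≡ c n i [MOD l ^ n] := fun n i => hmod n (c (n + 1)) (c n) (by
      rw [← hc n]
      refine Eq.trans ?_ (x.compat n)
      show _ = l • TateMod.component A l T (n + 1) x
      rw [hc (n + 1), Finset.smul_sum]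
      exact Finset.sum_congr rfl fun j _ => by rw [← h1 n j, smul_comm]) i
    have hlim : ∀ i, ∃ a : ℤ_[l], ∀ n, PadicInt.toZModPow n a = (c n i : ZMod (l ^ n)) := by
      intro i
      obtain ⟨a, ha⟩ := IsPrecomplete.prec (I := IsLocalRing.maximalIdeal ℤ_[l]) inferInstance
        (f := fun n => ((c n i : ℕ) : ℤ_[l])) (fun {m n} hmn => by
          rw [SModEq.sub_mem, smul_eq_mul, Ideal.mul_top, PadicInt.maximalIdeal_eq_span_p, Ideal.span_singleton_pow,
            ← PadicInt.ker_toZModPow, RingHom.mem_ker, map_sub, map_natCast, map_natCast, sub_eq_zero,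
            ZMod.natCast_eq_natCast_iff]
          induction hmn with
          | refl => exact Nat.ModEq.refl _
          | step hk ih => exact ih.trans ((Nat.ModEq.of_dvd (pow_dvd_pow l hk) (hcoh _ i)).symm))
      refine ⟨a, fun n => ?_⟩
      have h := ha n
      rw [SModEq.sub_mem, smul_eq_mul, Ideal.mul_top, PadicInt.maximalIdeal_eq_span_p, Ideal.span_singleton_pow,
        ← PadicInt.ker_toZModPow, RingHom.mem_ker, map_sub, map_natCast, sub_eq_zero] at h
      exact h.symm
    choose a ha using hlim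
    refine ⟨a, TateMod.ext fun n => ?_⟩
    show TateMod.component A l T n (φ a) = TateMod.component A l T n x
    rw [hφ, hc n]
    refine Finset.sum_congr rfl fun i _ => TorsGroup.nsmul_congr ?_ (h2 n i)
    rw [← ZMod.natCast_eq_natCast_iff, ← toZModPow_eq_appr, ha]
  exact ⟨LinearEquiv.ofBijective φ ⟨hinj, hsurj⟩⟩

theorem free_tateMod (hdiv : ∀ x : Additive (T ⟶ A), ∃ y, l • y = x)
    (hcard : ∀ n, Nat.card {x : Additive (T ⟶ A) // l ^ n • x = 0} = (l ^ n) ^ r) :
    Module.Free ℤ_[l] (TateMod A l T) ∧ Module.Finite ℤ_[l] (TateMod A l T) ∧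
      Module.finrank ℤ_[l] (TateMod A l T) = r := by
  obtain ⟨e⟩ := nonempty_tateMod_equiv hdiv hcard
  exact ⟨Module.Free.of_equiv e, Module.Finite.equiv e, e.finrank_eq.symm.trans (Module.finrank_fin_fun _)⟩

end Groth.Agent.AVLib
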