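import Groth.Agent.AVLib.TateKer
import Groth.Agent.GrpQuotLib.Descend

/-!
# Factoring through an étale isogeny
-/

set_option autoImplicit false
set_option backward.isDefEq.respectTransparency false

universe u

open CategoryTheory CategoryTheory.Limits MonoidalCategory CartesianMonoidalCategory MonObj AlgebraicGeometry

noncomputable section

namespace Groth.Agent.AVLib

variable {K : Type u} [Field K] [IsAlgClosed K]

/-- A homomorphism trivial on the `K`-points of the kernel of an étale surjection factors uniquely through it. -/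
theorem existsUnique_hom_comp_eq {A B C : Over (Spec (CommRingCat.of K))} [GrpObj A] [GrpObj B] [GrpObj C]
    [IsProper A.hom] [IsProper C.hom] [IsSeparated B.hom] [LocallyOfFiniteType B.hom]
    (q : A ⟶ C) [IsMonHom q] [Etale q.left] [Surjective q.left]
    (f : A ⟶ B) [IsMonHom f] (h : ∀ P : 𝟙_ (Over (Spec (CommRingCat.of K))) ⟶ A, P ≫ q = 1 → P ≫ f = 1) :
    ∃! ρ : C ⟶ B, IsMonHom ρ ∧ q ≫ ρ = f := by
  haveI : IsProper (q.left ≫ C.hom) := by rw [Over.w q]; infer_instance
  haveI : IsProper q.left := IsProper.of_comp q.left C.hom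
  haveI : SchDesc.IsFpqc q.left := SchDesc.IsFpqc.of_quasiCompact q.left
  haveI := GrpQuotLib.epi_of_isFpqc q
  obtain ⟨N, hN, a, ha, haci, hNp, hlift, haq, ⟨eN⟩⟩ := exists_kernel q
  letI := hN
  haveI := ha
  haveI : IsReduced (pullback q.left η[C].left) := by
    haveI : Smooth (pullback.snd q.left η[C].left ≫ (𝟙_ (Over (Spec (CommRingCat.of K)))).hom) := by
      haveI : Smooth (𝟙_ (Over (Spec (CommRingCat.of K)))).hom :=
        inferInstanceAs (Smooth (𝟙 (Spec (CommRingCat.of K))))
      infer_instance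
    exact ASp.isReduced_of_smooth (pullback.snd q.left η[C].left ≫ (𝟙_ (Over (Spec (CommRingCat.of K)))).hom)
  haveI : IsReduced N.left := isReduced_of_isOpenImmersion eN.hom
  have haf : a ≫ f = 1 := by
    ext1
    haveI : LocallyOfFiniteType ((a ≫ f).left ≫ B.hom) := by rw [Over.w]; infer_instance
    refine ext_of_apply_eq B.hom Set.univ isOpen_univ.isLocallyClosed dense_univ (fun x _ hx => ?_)
      (by rw [Over.w, Over.w])
    haveI : LocallyOfFiniteType N.hom := inferInstance
    obtain ⟨⟨p, hp⟩, hpx⟩ := (pointEquivClosedPoint N.hom).surjective ⟨x, hx⟩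
    let P : 𝟙_ (Over (Spec (CommRingCat.of K))) ⟶ N := Over.homMk p hp
    have hP : P.left (IsLocalRing.closedPoint K) = x := congrArg Subtype.val hpx
    have h2 : (P ≫ a ≫ f) = P ≫ 1 := by
      rw [← Category.assoc, h (P ≫ a) (by rw [Category.assoc, haq, MonObj.comp_one]), MonObj.comp_one]
    have h3 := congrArg (fun g => g.left (IsLocalRing.closedPoint K)) h2
    rw [← hP]
    exact h3
  obtain ⟨ρ, hρ⟩ := GrpQuotLib.exists_desc q f fun T s t hst => by
    have h1 : (s * t⁻¹) ≫ q = 1 := by
      rw [MonObj.mul_comp, GrpObj.inv_comp, hst, mul_inv_cancel]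
    obtain ⟨z, hz⟩ := hlift _ h1
    have h2 : (s * t⁻¹) ≫ f = 1 := by rw [← hz, Category.assoc, haf, MonObj.comp_one]
    rw [MonObj.mul_comp, GrpObj.inv_comp, mul_inv_eq_one] at h2
    exact h2
  haveI : IsMonHom ρ := by
    refine ⟨?_, ?_⟩
    · rw [← IsMonHom.one_hom q, Category.assoc, hρ, IsMonHom.one_hom f]
    · haveI : Epi (q ⊗ₘ q) := by
        rw [MonoidalCategory.tensorHom_def]
        haveI := GrpQuotLib.isFpqc_whiskerRight q A
        haveI := GrpQuotLib.isFpqc_whiskerLeft q C
        haveI := GrpQuotLib.epi_of_isFpqc (q ▷ A)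
        haveI := GrpQuotLib.epi_of_isFpqc (C ◁ q)
        exact epi_comp _ _
      rw [← cancel_epi (q ⊗ₘ q), ← IsMonHom.mul_hom_assoc q, hρ, IsMonHom.mul_hom f,
        MonoidalCategory.tensorHom_comp_tensorHom_assoc, hρ]
  exact ⟨ρ, ⟨inferInstance, hρ⟩, fun σ hσ => (cancel_epi q).1 (hσ.2.trans hρ.symm)⟩

end Groth.Agent.AVLib
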