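import Groth.Agent.CubeLib.Seesaw
import Groth.Agent.AmpleEmb.ComposeRel

/-!
# Invertible modules which are locally trivial over the base come from the base
-/

set_option autoImplicit false
set_option backward.isDefEq.respectTransparency false

universe u

open CategoryTheory CategoryTheory.Limits AlgebraicGeometry TopologicalSpace Opposite
open Groth.Agent.ParaFLib Groth.Agent.PullbackMod Groth.Agent.AmpleLib

noncomputable section

namespace Groth.Agent.AVLib

variable {X Y : Scheme.{u}} (f : X ⟶ Y)

/-- The counit sends the inverse image of a pushed forward section to the section. -/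
theorem counit_app_pullMap (P : X.Modules) {U : Y.Opens} (s : Γ(P, f ⁻¹ᵁ U)) :
    ((Scheme.Modules.pullbackPushforwardAdjunction f).counit.app P).app (f ⁻¹ᵁ U)
      (pullMap f ((Scheme.Modules.pushforward f).obj P) (le_refl (f ⁻¹ᵁ U))
        (show Γ((Scheme.Modules.pushforward f).obj P, U) from s)) = s := by
  have h := (Scheme.Modules.pullbackPushforwardAdjunction f).right_triangle_components P
  have h1 := congrArg (fun φ : (Scheme.Modules.pushforward f).obj P ⟶ (Scheme.Modules.pushforward f).obj P =>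
    (φ.app U) (show Γ((Scheme.Modules.pushforward f).obj P, U) from s)) h
  refine Eq.trans ?_ (h1.trans ?_)
  · simp only [pullMap, homOfLE_refl, op_id, CategoryTheory.Functor.map_id, AddMonoidHom.coe_comp,
      Function.comp_apply]
    rfl
  · simp

/-- Local triviality over the base, with the expected functions, gives descent to the base. -/
theorem exists_iso_pullback_of_locally {P : X.Modules} (hP : PicF.IsInvertible P)
    (hloc : ∀ y : Y, ∃ U : Y.Opens, y ∈ U ∧ ∃ s : Γ(P, f ⁻¹ᵁ U), Gen (f ⁻¹ᵁ U) s)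
    (hbij : ∀ y : Y, ∃ U : Y.Opens, y ∈ U ∧ ∀ V : Y.Opens, V ≤ U → Function.Bijective (f.app V)) :
    ∃ N : Y.Modules, PicF.IsInvertible N ∧ Nonempty ((Scheme.Modules.pullback f).obj N ≅ P) := by
  choose U₀ hyU₀ s₀ hs₀ using hloc
  choose U₁ hyU₁ hU₁ using hbij
  let U : Y → Y.Opens := fun y => U₀ y ⊓ U₁ y
  let N := (Scheme.Modules.pushforward f).obj P
  let s : ∀ y, Γ(P, f ⁻¹ᵁ U y) := fun y => P.presheaf.map (homOfLE (f.preimage_mono inf_le_left)).op (s₀ y)
  have hs : ∀ y, Gen (f ⁻¹ᵁ U y) (s y) := fun y => (hs₀ y).res (f.preimage_mono inf_le_left)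
  have hgen : ∀ y, Gen (U y) (show Γ(N, U y) from s y) := fun y V hV =>
    ((hs y) (f ⁻¹ᵁ V) (f.preimage_mono hV)).comp (hU₁ y V (hV.trans inf_le_right))
  have hN : PicF.IsInvertible N := isInvertible_of_gen fun y => ⟨U y, _, ⟨hyU₀ y, hyU₁ y⟩, hgen y⟩
  refine ⟨N, hN, ⟨?_⟩⟩
  let φ := (Scheme.Modules.pullbackPushforwardAdjunction f).counit.app P
  haveI : IsIso φ := isIso_of_locally_app φ fun x => by
    refine ⟨f ⁻¹ᵁ U (f x), ⟨hyU₀ _, hyU₁ _⟩, fun O hO => ?_⟩
    have hg := AmpleEmb.gen_pullMap f hN (hgen (f x)) O hO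
    have hp := (hs (f x)) O hO
    refine (Function.Bijective.of_comp_iff _ hg).1 ?_
    refine (congrArg Function.Bijective (funext fun r => ?_)).mpr hp
    show φ.app O (r • _) = _
    rw [Scheme.Modules.Hom.app_smul]
    congr 1
    refine (congr($(φ.mapPresheaf.naturality (homOfLE hO).op).hom _)).trans ?_
    exact congrArg (P.presheaf.map (homOfLE hO).op) (counit_app_pullMap f P (s (f x)))
  exact asIso φ

end Groth.Agent.AVLib
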