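import Groth.Agent.CubeLib.Cube
import Groth.Agent.PicLib.Group

/-!
# The cube relation on abelian varieties
-/

set_option autoImplicit false
set_option backward.isDefEq.respectTransparency false

universe u

open CategoryTheory CategoryTheory.Limits MonoidalCategory CartesianMonoidalCategory MonObj AlgebraicGeometry
open Groth.Agent.PicLib

noncomputable section

namespace Groth.Agent.AVLib

variable {K : Type u} [Field K] {A V : Over (Spec (CommRingCat.of K))}

theorem pull_left_comp {V W : Over (Spec (CommRingCat.of K))} (s : V ⟶ W) (g : W ⟶ A) (a : Pic A.left) :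
    pull s.left (pull g.left a) = pull (s ≫ g).left a :=
  (pull_comp s.left g.left a).symm

variable [GrpObj A]

theorem pull_one (a : Pic A.left) : pull (1 : V ⟶ A).left a = 1 := by
  show pull (toUnit V ≫ η[A]).left a = 1
  rw [Over.comp_left, pull_comp]
  haveI : IsLocalRing (CommRingCat.of K) := inferInstanceAs (IsLocalRing K)
  rw [show pull η[A].left a = 1 from eq_one_of_local (R := CommRingCat.of K) _, map_one]

variable [IsProper A.hom] [GeometricallyIntegral A.hom]

/-- The cube relation. -/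
theorem cube (a : Pic A.left) (f g h : V ⟶ A) :
    pull (f * g * h).left a * pull f.left a * pull g.left a * pull h.left a =
      pull (f * g).left a * pull (f * h).left a * pull (g * h).left a := by
  let p : A ⊗ A ⊗ A ⟶ A := fst A (A ⊗ A)
  let q : A ⊗ A ⊗ A ⟶ A := snd A (A ⊗ A) ≫ fst A A
  let r : A ⊗ A ⊗ A ⟶ A := snd A (A ⊗ A) ≫ snd A A
  let Θ : Pic (A ⊗ A ⊗ A).left :=
    (pull (p * q * r).left a * pull p.left a * pull q.left a * pull r.left a) /
      (pull (p * q).left a * pull (p * r).left a * pull (q * r).left a)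
  have key : ∀ {W : Over (Spec (CommRingCat.of K))} (s : W ⟶ A ⊗ A ⊗ A),
      pull s.left Θ = (pull (s ≫ p * s ≫ q * s ≫ r).left a * pull (s ≫ p).left a * pull (s ≫ q).left a *
          pull (s ≫ r).left a) /
        (pull (s ≫ p * s ≫ q).left a * pull (s ≫ p * s ≫ r).left a * pull (s ≫ q * s ≫ r).left a) :=
    fun {W} s => by simp only [Θ, map_div, map_mul, pull_left_comp, MonObj.comp_mul]
  have hΘ : Θ = 1 := by
    obtain ⟨L, hL, hLΘ⟩ := exists_cls Θ
    have triv : ∀ {W : Over (Spec (CommRingCat.of K))} (s : W ⟶ A ⊗ A ⊗ A), pull s.left Θ = 1 →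
        CubeLib.Triv ((Scheme.Modules.pullback s.left).obj L) := fun {W} s hs => by
      rw [← hLΘ, pull_cls, cls_eq_one] at hs
      exact CubeLib.triv_iff.2 hs
    haveI : LocallyOfFiniteType A.hom := inferInstance
    haveI : QuasiCompact A.hom := inferInstance
    haveI : GeometricallyReduced A.hom := inferInstance
    haveI : GeometricallyConnected A.hom := ⟨fun K _ y Z fst snd h => by
      haveI : IrreducibleSpace Z := GeometricallyIrreducible.geometrically_irreducibleSpace y fst snd h
      infer_instance⟩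
    rw [← hLΘ, cls_eq_one, ← CubeLib.triv_iff]
    refine CubeLib.triv_cube A A A η[A] η[A] η[A] L hL (triv _ ?_) (triv _ ?_) (triv _ ?_)
    · let s := lift (toUnit (A ⊗ A) ≫ η[A]) (𝟙 (A ⊗ A))
      have hp : s ≫ p = 1 := lift_fst _ _
      rw [key, hp]
      simp only [_root_.one_mul, _root_.mul_one, pull_one]
      rw [div_eq_one]
      all_goals ac_rfl
    · let s := lift (fst A A) (lift (toUnit (A ⊗ A) ≫ η[A]) (snd A A))
      have hq : s ≫ q = 1 := by simp only [s, q, lift_snd_assoc, lift_fst]; rfl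
      rw [key, hq]
      simp only [_root_.one_mul, _root_.mul_one, pull_one]
      rw [div_eq_one]
      all_goals ac_rfl
    · let s := lift (fst A A) (lift (snd A A) (toUnit (A ⊗ A) ≫ η[A]))
      have hr : s ≫ r = 1 := by simp only [s, r, lift_snd_assoc, lift_snd]; rfl
      rw [key, hr]
      simp only [_root_.one_mul, _root_.mul_one, pull_one]
      rw [div_eq_one]
      all_goals ac_rfl
  have h1 := key (lift f (lift g h))
  rw [hΘ, map_one, eq_comm, div_eq_one] at h1
  simpa only [p, q, r, lift_fst, lift_snd, lift_snd_assoc] using h1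

theorem nat_pull (a : Pic A.left) : ∀ n : ℕ, pull (𝟙 A ^ n).left a =
      a ^ (n + 1).choose 2 * pull ((𝟙 A)⁻¹).left a ^ n.choose 2
  | 0 => by simp [pull_one]
  | 1 => by simp [pull_id]
  | n + 2 => by
    have hs : ∀ m : ℕ, (m + 1).choose 2 = m + m.choose 2 := fun m => by
      rw [Nat.choose_succ_succ' m 1, Nat.choose_one_right]
    have h1 := nat_pull a n
    have h2 := nat_pull a (n + 1)
    have hc := cube a (𝟙 A ^ (n + 1)) (𝟙 A) (𝟙 A)⁻¹
    have e1 : 𝟙 A ^ (n + 1) * 𝟙 A * (𝟙 A)⁻¹ = 𝟙 A ^ (n + 1) := mul_inv_cancel_right _ _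
    have e2 : 𝟙 A ^ (n + 1) * 𝟙 A = 𝟙 A ^ (n + 2) := (pow_succ _ _).symm
    have e3 : 𝟙 A ^ (n + 1) * (𝟙 A)⁻¹ = 𝟙 A ^ n := by rw [pow_succ, mul_inv_cancel_right]
    rw [e1, e2, e3, mul_inv_cancel, pull_one, _root_.mul_one] at hc
    rw [show pull (𝟙 A : A ⟶ A).left a = a from pull_id a, h1, h2] at hc
    have e4 : (n + 2 + 1).choose 2 + (n + 1).choose 2 = (n + 1 + 1).choose 2 + (n + 1 + 1).choose 2 + 1 := by
      simp only [hs]
      omega
    have e5 : (n + 2).choose 2 + n.choose 2 = (n + 1).choose 2 + (n + 1).choose 2 + 1 := by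
      simp only [hs]
      omega
    refine mul_right_cancel (b := a ^ (n + 1).choose 2 * pull ((𝟙 A)⁻¹).left a ^ n.choose 2) ?_
    rw [← hc, mul_mul_mul_comm _ _ (a ^ (n + 1).choose 2), ← pow_add, ← pow_add, e4, e5, pow_succ, pow_succ,
      pow_add, pow_add]
    ac_rfl

end Groth.Agent.AVLib
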