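import Groth.Agent.AVLib.KL
import Groth.Agent.AVLib.Descend
import Groth.Agent.CubeLib.Seesaw

/-!
# The additivity defect of a class, its bilinearity and descent
-/

set_option autoImplicit false
set_option backward.isDefEq.respectTransparency false

universe u

open CategoryTheory CategoryTheory.Limits MonoidalCategory CartesianMonoidalCategory MonObj AlgebraicGeometry
open Groth.Agent.PicLib

noncomputable section

namespace Groth.Agent.AVLib

variable {K : Type u} [Field K] {A T : Over (Spec (CommRingCat.of K))} [GrpObj A]

/-- The additivity defect. -/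
def defect (c : Pic A.left) (f g : T ⟶ A) : Pic T.left :=
  pull (f * g).left c / (pull f.left c * pull g.left c)

theorem pull_defect (c : Pic A.left) {V : Over (Spec (CommRingCat.of K))} (s : V ⟶ T) (f g : T ⟶ A) :
    pull s.left (defect c f g) = defect c (s ≫ f) (s ≫ g) := by
  simp only [defect, map_div, map_mul, pull_left_comp, MonObj.comp_mul]

theorem defect_eq_one_iff (c : Pic A.left) (f g : T ⟶ A) :
    defect c f g = 1 ↔ pull (f * g).left c = pull f.left c * pull g.left c := div_eq_one

theorem defect_one (c : Pic A.left) (f : T ⟶ A) : defect c f 1 = 1 := by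
  simp [defect, pull_one]

theorem one_defect (c : Pic A.left) (g : T ⟶ A) : defect c 1 g = 1 := by
  simp [defect, pull_one]

variable [IsProper A.hom] [GeometricallyIntegral A.hom]

theorem defect_mul (c : Pic A.left) (f g h : T ⟶ A) : defect c f (g * h) = defect c f g * defect c f h := by
  simp only [defect]
  rw [← _root_.mul_assoc, div_mul_div_comm, div_eq_div_iff_mul_eq_mul]
  have hc := cube c f g h
  calc pull (f * g * h).left c * (pull f.left c * pull g.left c * (pull f.left c * pull h.left c))
      = pull f.left c * (pull (f * g * h).left c * pull f.left c * pull g.left c * pull h.left c) := by ac_rfl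
    _ = _ := by rw [hc]; ac_rfl

theorem defect_pow (c : Pic A.left) (f g : T ⟶ A) : ∀ n : ℕ, defect c f (g ^ n) = defect c f g ^ n
  | 0 => by rw [pow_zero, pow_zero, defect_one]
  | n + 1 => by rw [pow_succ, pow_succ, defect_mul, defect_pow c f g n]

theorem defect_comm (c : Pic A.left) (f g : T ⟶ A) : defect c f g = defect c g f := by
  haveI := isCommMonObj (A := A)
  letI : CommGroup (T ⟶ A) := Hom.commGroup
  rw [defect, defect, _root_.mul_comm f g, _root_.mul_comm (pull f.left c)]

theorem defect_inv (c : Pic A.left) (f g : T ⟶ A) : defect c f g⁻¹ = (defect c f g)⁻¹ := by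
  rw [eq_inv_iff_mul_eq_one, ← defect_mul, inv_mul_cancel, defect_one]

theorem defect_inv_inv (c : Pic A.left) (f g : T ⟶ A) : defect c f⁻¹ g⁻¹ = defect c f g := by
  rw [defect_inv, defect_comm c f⁻¹ g, defect_inv, defect_comm c g f, _root_.inv_inv]

/-- Additivity along a surjection descends. -/
theorem defect_eq_one_of_surjective (c : Pic A.left) {V : Over (Spec (CommRingCat.of K))} (z : V ⟶ A)
    [Surjective z.left] (h : defect c (fst A V) (snd A V ≫ z) = 1) : defect c (fst A A) (snd A A) = 1 := by
  obtain ⟨P, hP, hPc⟩ := exists_cls (defect c (fst A A) (snd A A))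
  rw [← hPc, cls_eq_one, ← CubeLib.triv_iff]
  let f := (snd A A).left
  haveI : Subsingleton ↥(Spec (CommRingCat.of K)) := inferInstanceAs (Subsingleton (PrimeSpectrum K))
  haveI : IsIntegral A.left := GeometricallyIntegral.isIntegral_of_subsingleton A.hom
  haveI : IsLocallyNoetherian A.left := LocallyOfFiniteType.isLocallyNoetherian A.hom
  haveI : IsProper f := MorphismProperty.pullback_snd (P := @IsProper) A.hom A.hom inferInstance
  haveI : Flat A.hom := inferInstance
  haveI : Flat f := MorphismProperty.pullback_snd (P := @Flat) A.hom A.hom inferInstance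
  haveI : GeometricallyIntegral f :=
    MorphismProperty.pullback_snd (P := @GeometricallyIntegral) A.hom A.hom inferInstance
  refine CubeLib.triv_of_dense_fibres f (lift (toUnit A ≫ η[A]) (𝟙 A)).left
    (congrArg CommaMorphism.left (lift_snd (toUnit A ≫ η[A]) (𝟙 A))) hP dense_univ (fun y _ => ?_) ?_
  · obtain ⟨y', rfl⟩ := z.left.surjective y
    letI alg : Algebra (A.left.residueField (z.left y')) (V.left.residueField y') :=
      (z.left.residueFieldMap y').hom.toAlgebra
    let sp := Spec.map (CommRingCat.ofHom
      (@algebraMap (A.left.residueField (z.left y')) (V.left.residueField y') _ _ alg))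
    haveI : IsProper (f.fiberToSpecResidueField (z.left y')) :=
      MorphismProperty.pullback_snd f (A.left.fromSpecResidueField (z.left y')) inferInstance
    haveI : IsIntegral (f.fiber (z.left y')) := CubeLib.isIntegral_fiber f _
    refine triv_of_bc (K := A.left.residueField (z.left y')) (K' := V.left.residueField y') (IsPullback.of_hasPullback (f.fiberToSpecResidueField (z.left y')) sp)
      (AmpleLib.isInvertible_pullback _ hP) ?_
    let T' : Over (Spec (CommRingCat.of K)) := Over.mk (V.left.fromSpecResidueField y' ≫ V.hom)
    let i : T' ⟶ V := Over.homMk (V.left.fromSpecResidueField y') rfl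
    let φ := pullback.fst (f.fiberToSpecResidueField (z.left y')) sp ≫ f.fiberι (z.left y')
    let Q : Over (Spec (CommRingCat.of K)) := Over.mk (φ ≫ (A ⊗ A).hom)
    let j : Q ⟶ A ⊗ A := Over.homMk φ rfl
    have e0 : sp ≫ A.left.fromSpecResidueField (z.left y') = V.left.fromSpecResidueField y' ≫ z.left :=
      z.left.SpecMap_residueFieldMap_fromSpecResidueField y'
    have hsnd : φ ≫ f = pullback.snd (f.fiberToSpecResidueField (z.left y')) sp ≫
        V.left.fromSpecResidueField y' ≫ z.left := by
      rw [← e0, ← pullback.condition_assoc]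
      show pullback.fst _ _ ≫ f.fiberι _ ≫ f = _
      rw [show f.fiberι (z.left y') ≫ f = f.fiberToSpecResidueField _ ≫ _ from pullback.condition]
    let b : Q ⟶ T' := Over.homMk (pullback.snd (f.fiberToSpecResidueField (z.left y')) sp) (by
      show pullback.snd _ _ ≫ V.left.fromSpecResidueField y' ≫ V.hom = φ ≫ (A ⊗ A).hom
      rw [← Over.w (snd A A), ← Over.w z]
      exact (congrArg (· ≫ A.hom) hsnd).symm.trans (by simp only [Category.assoc]; rfl) |>.trans
        (Category.assoc _ _ _))
    have hj2 : j ≫ snd A A = b ≫ i ≫ z := by ext1; exact hsnd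
    have h1 : pull j.left (defect c (fst A A) (snd A A)) = 1 := by
      rw [pull_defect, hj2]
      have h2 := congrArg (pull (lift (j ≫ fst A A) (b ≫ i)).left) h
      rw [map_one, pull_defect, lift_fst, lift_snd_assoc, Category.assoc] at h2
      exact h2
    rw [← hPc, pull_cls, cls_eq_one, ← CubeLib.triv_iff] at h1
    exact (CubeLib.triv_pullback_comp_iff _ (f.fiberι (z.left y')) rfl).2 h1
  · have h1 : pull (lift (toUnit A ≫ η[A]) (𝟙 A)).left (defect c (fst A A) (snd A A)) = 1 := by
      rw [pull_defect, lift_fst, lift_snd, ← Hom.one_def, one_defect]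
    rw [← hPc, pull_cls, cls_eq_one] at h1
    exact CubeLib.triv_iff.2 h1

end Groth.Agent.AVLib
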