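import Groth.Agent.AVLib.DivLine
import Groth.Agent.S8914
import Groth.Agent.ProjTwistLib.Mul
import Groth.Agent.AmpleLib.Tensor

/-!
# The canonical section of the inverse of the ideal of an effective Cartier divisor
-/

set_option autoImplicit false
set_option backward.isDefEq.respectTransparency false
set_option linter.style.haveILetI false

universe u

open CategoryTheory CategoryTheory.Limits AlgebraicGeometry TopologicalSpace Opposite
open Groth.Agent.DCohLib Groth.Agent.ParaFLib Groth.Agent.AmpleLib Groth.Agent.PullbackMod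

noncomputable section

namespace Groth.Agent.AVLib

variable {X : Scheme.{u}}

theorem bijective_stalkLin_iff_of_gen {M N : X.Modules} (φ : M ⟶ N) {x : X} {m : M.presheaf.stalk x}
    (hm : Function.Bijective fun r : X.presheaf.stalk x => r • m) :
    Function.Bijective (stalkLin φ x) ↔ Function.Bijective fun r : X.presheaf.stalk x => r • stalkLin φ x m := by
  rw [← Function.Bijective.of_comp_iff (stalkLin φ x) hm]
  exact Iff.of_eq (congrArg Function.Bijective (funext fun r => map_smul _ r m))

theorem mem_genLocus_iff_stalkLin {L : X.Modules} (hL : PicF.IsInvertible L) {s : Coh.structureModule X ⟶ L}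
    {x : X} : x ∈ CohB1.genLocus L s ↔ Function.Bijective (stalkLin s x) := by
  rw [mem_genLocus_iff hL, bijective_stalkLin_iff_of_gen s (bijective_oneG x)]
  have h : stalkLin s x (oneG x) = L.presheaf.germ ⊤ x trivial (sec s) :=
    stalkLin_germ s (U := ⊤) x trivial _
  rw [h]

/-- An inverse of the ideal of an effective Cartier divisor has a section whose non-vanishing locus is the
complement of the divisor. -/
theorem exists_section_genLocus_compl {I : X.IdealSheafData} (hI : BlowUp.IsEffCartierIdeal I) {L : X.Modules}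
    (hL : PicF.IsInvertible L) (hLI : ClSub.IsInverseOf L (ClSub.idealMod I)) :
    ∃ s : Coh.structureModule X ⟶ L, CohB1.genLocus L s = I.support.compl := by
  obtain ⟨e⟩ := hLI
  let M := ClSub.idealMod I
  let Φ : CohB1.tensorMod M L ⟶ CohB1.tensorMod (Coh.structureModule X) L :=
    ((DCoh.tensorBi (X := X)).map (ClSub.idealModι I)).app L
  let s : Coh.structureModule X ⟶ L := (e.inv ≫ (comm L M).hom) ≫ Φ ≫ (unitL L).hom
  refine ⟨s, Opens.ext (Set.ext fun x => ?_)⟩
  obtain ⟨U, hxU, f, hf, hfU⟩ := hI x
  obtain ⟨m₀, hm₀⟩ := (OmegaAffLib.mem_range_idealSect I U f).1 (hfU ▸ Ideal.mem_span_singleton_self f)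
  obtain ⟨m, hm⟩ := S8914.gen_of_ideal_eq_span I U f hf hfU
  obtain ⟨r, hr⟩ := (hm U.1 le_rfl).2 m₀
  simp only [ParaFLib.res_self] at hr
  obtain ⟨a, ha⟩ := Ideal.mem_span_singleton.1 (hfU ▸ (OmegaAffLib.mem_range_idealSect I U _).2 ⟨m, rfl⟩)
  -- `ι m` is an associate of `f`
  have hra : r * a = 1 := by
    refine (mul_cancel_right_mem_nonZeroDivisors hf).1 ?_
    have h1 := congrArg (OmegaSh.idealSect I U.1) hr
    rw [OmegaAffLib.idealSect_smul, hm₀, ha] at h1
    rw [one_mul, mul_assoc, mul_comm a f]
    exact h1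
  have hbo : X.basicOpen (OmegaSh.idealSect I U.1 m) = X.basicOpen f := by
    rw [ha, Scheme.basicOpen_mul, X.basicOpen_of_isUnit (IsUnit.of_mul_eq_one r ((mul_comm a r).trans hra)),
      inf_eq_left]
    exact X.basicOpen_le f
  obtain ⟨eL, heL⟩ := exists_stalk_gen hL x
  let mx := M.presheaf.germ U.1 x hxU m
  have hmx : Function.Bijective fun r : X.presheaf.stalk x => r • mx := hm.bijective_germ x hxU
  let c : X.presheaf.stalk x := X.presheaf.germ U.1 x hxU (OmegaSh.idealSect I U.1 m)
  have hc : stalkLin (ClSub.idealModι I) x mx = c • oneG x := by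
    refine (stalkLin_germ (ClSub.idealModι I) x hxU m).trans ?_
    have h1 : (ClSub.idealModι I).app U.1 m =
        (OmegaSh.idealSect I U.1 m) • ((1 : Γ(X, U.1)) : Γ(Coh.structureModule X, U.1)) :=
      (smul_one_eq _).symm
    rw [h1, germ_smul']
    congr 1
    have h2 : (Coh.structureModule X).presheaf.map (homOfLE (le_top : U.1 ≤ ⊤)).op (1 : Γ(X, ⊤)) = (1 : Γ(X, U.1)) :=
      map_one (X.presheaf.map (homOfLE (le_top : U.1 ≤ ⊤)).op).hom
    rw [← h2, TopCat.Presheaf.germ_res_apply]
    rfl
  have hgen : Function.Bijective fun r : X.presheaf.stalk x => r • stalkTensor x M L (mx ⊗ₜ eL) :=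
    bijective_stalkTensor hmx heL
  have hgen' : Function.Bijective fun r : X.presheaf.stalk x =>
      r • stalkTensor x (Coh.structureModule X) L (oneG x ⊗ₜ eL) :=
    bijective_stalkTensor (bijective_oneG x) heL
  have hΦ : Function.Bijective (stalkLin Φ x) ↔ IsUnit c := by
    rw [bijective_stalkLin_iff_of_gen Φ hgen, ← bijective_smul_iff hgen' c]
    have h3 : stalkLin Φ x (stalkTensor x M L (mx ⊗ₜ eL)) =
        c • stalkTensor x (Coh.structureModule X) L (oneG x ⊗ₜ eL) := by
      refine (stalkTensor_natural_left x (ClSub.idealModι I) _).trans ?_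
      rw [LinearMap.rTensor_tmul, hc, ← TensorProduct.smul_tmul', map_smul]
    rw [h3]
  show x ∈ CohB1.genLocus L s ↔ x ∈ I.support.compl
  rw [mem_genLocus_iff_stalkLin hL]
  have hs : Function.Bijective (stalkLin s x) ↔ Function.Bijective (stalkLin Φ x) := by
    have h1 := (isIso_iff_stalk (e.inv ≫ (comm L M).hom)).1 inferInstance x
    have h2 := (isIso_iff_stalk (unitL L).hom).1 inferInstance x
    rw [show s = (e.inv ≫ (comm L M).hom) ≫ Φ ≫ (unitL L).hom from rfl, stalkLin_comp, stalkLin_comp,
      LinearMap.coe_comp, LinearMap.coe_comp, Function.Bijective.of_comp_iff _ h1,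
      Function.Bijective.of_comp_iff' h2]
  rw [hs, hΦ, ← X.mem_basicOpen _ x hxU, hbo, ← inter_compl_support U hfU]
  exact ⟨fun h => h.1, fun h => ⟨h, hxU⟩⟩

end Groth.Agent.AVLib
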