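import Groth.Agent.AVLib.Deg.AV
import Groth.Agent.GrpSchLib.Cartier
import Groth.Agent.GrpSchLib.OrderInvertible
import Groth.Agent.GrpSchLib.TorsionLift
import Groth.Agent.GrpHomLib.Field

/-!
# Tangent vectors and the multiplication maps of a group scheme
-/

set_option autoImplicit false
set_option backward.isDefEq.respectTransparency false

universe u

open CategoryTheory CategoryTheory.Limits MonoidalCategory CartesianMonoidalCategory MonObj AlgebraicGeometry
open scoped DualNumber

noncomputable section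

namespace Groth.Agent.AVLib

open GrpSchLib (spO spMap)

variable {K : Type u} [Field K]

section SqZero

variable {A : Type u} [CommRing A] [Algebra K A] {G : Over (Spec (CommRingCat.of K))} [GrpObj G]
  {L : Type u} [Field L] [Algebra K L]

/-- A linear map gives an algebra map of square zero extensions. -/
abbrev sqMap (K : Type u) [Field K] {L : Type u} [Field L] [Algebra K L] {M N : Type u} [AddCommGroup M]
    [Module K M] [Module L M] [Module Lᵐᵒᵖ M] [IsCentralScalar L M] [IsScalarTower K L M] [AddCommGroup N]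
    [Module K N] [Module L N] [Module Lᵐᵒᵖ N] [IsCentralScalar L N] [IsScalarTower K L N] (φ : M →ₗ[L] N) :
    TrivSqZeroExt L M →ₐ[K] TrivSqZeroExt L N :=
  (TrivSqZeroExt.map φ).restrictScalars K

theorem spMap_sqMap_comp {M N P : Type u} [AddCommGroup M]
    [Module K M] [Module L M] [Module Lᵐᵒᵖ M] [IsCentralScalar L M] [IsScalarTower K L M] [AddCommGroup N]
    [Module K N] [Module L N] [Module Lᵐᵒᵖ N] [IsCentralScalar L N] [IsScalarTower K L N] [AddCommGroup P]
    [Module K P] [Module L P] [Module Lᵐᵒᵖ P] [IsCentralScalar L P] [IsScalarTower K L P]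
    (φ : M →ₗ[L] N) (ψ : N →ₗ[L] P) : spMap (sqMap K ψ) ≫ spMap (sqMap K φ) = spMap (sqMap K (ψ ∘ₗ φ)) := by
  rw [← GrpSchLib.spMap_comp]
  exact congrArg spMap (AlgHom.ext fun x => (AlgHom.congr_fun (TrivSqZeroExt.map_comp_map φ ψ) x).symm)

/-- A point with values in a square zero extension of a field lying over the unit lifts to any open
neighbourhood of the unit. -/
theorem exists_alg_lift (jA : spO K A ⟶ G) [IsOpenImmersion jA.left] (e : A →ₐ[K] K)
    (he : spMap e ≫ jA = (1 : spO K K ⟶ G)) {M : Type u} [AddCommGroup M] [Module K M] [Module L M]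
    [Module Lᵐᵒᵖ M] [IsCentralScalar L M] [IsScalarTower K L M]
    (x : spO K (TrivSqZeroExt L M) ⟶ G) (hx : spMap (TrivSqZeroExt.fstHom K L M) ≫ x = 1) :
    ∃ g : A →ₐ[K] TrivSqZeroExt L M, spMap g ≫ jA = x ∧
      (TrivSqZeroExt.fstHom K L M).comp g = (Algebra.ofId K L).comp e := by
  have heL : spMap ((Algebra.ofId K L).comp e) ≫ jA = 1 := by
    rw [GrpSchLib.spMap_comp, Category.assoc, he, MonObj.comp_one]
  have hrange : Set.range x.left ⊆ Set.range jA.left := by
    rintro _ ⟨p, rfl⟩
    have hsurj : Function.Surjective (spMap (TrivSqZeroExt.fstHom K L M)).left := by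
      intro q
      have hs : Function.Surjective (TrivSqZeroExt.fstHom K L M).toRingHom :=
        fun a => ⟨TrivSqZeroExt.inl a, by simp⟩
      have hq : q ∈ Set.range (PrimeSpectrum.comap (TrivSqZeroExt.fstHom K L M).toRingHom) := by
        rw [range_comap_of_surjective _ _ hs]
        intro y hy
        have hy' : TrivSqZeroExt.fst y = 0 := hy
        refine (q.isPrime.mem_or_mem (?_ : y * y ∈ q.asIdeal)).elim id id
        rw [show y * y = 0 by ext <;> simp [hy']]
        exact zero_mem _
      exact hq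
    obtain ⟨q, rfl⟩ := hsurj p
    exact ⟨(spMap ((Algebra.ofId K L).comp e)).left q,
      (congrArg (fun f : spO K L ⟶ G => f.left q) (heL.trans hx.symm))⟩
  obtain ⟨g, hg⟩ := GrpSchLib.exists_spMap (Over.homMk (IsOpenImmersion.lift jA.left x.left hrange) (by
    rw [show (spO K A).hom = jA.left ≫ G.hom from (Over.w jA).symm, IsOpenImmersion.lift_fac_assoc]
    exact Over.w x) : spO K (TrivSqZeroExt L M) ⟶ spO K A)
  have hgx : spMap g ≫ jA = x := by
    rw [hg]; ext1; exact IsOpenImmersion.lift_fac _ _ _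
  haveI : Mono jA := (Over.forget _).mono_of_mono_map (show Mono jA.left from inferInstance)
  refine ⟨g, hgx, GrpSchLib.spMap_injective ?_⟩
  rw [← cancel_mono jA, GrpSchLib.spMap_comp, Category.assoc, hgx, hx, heL]

variable (jA : spO K A ⟶ G) [IsOpenImmersion jA.left] (e : A →ₐ[K] K)
  (he : spMap e ≫ jA = (1 : spO K K ⟶ G))

/-- The linear map `L → L` giving multiplication by `m`. -/
abbrev scl (L : Type u) [Field L] (m : ℕ) : L →ₗ[L] L := (m : L) • LinearMap.id

theorem spMap_sqMap_zero (T : spO K L[ε] ⟶ G) (hT : spMap (TrivSqZeroExt.fstHom K L L) ≫ T = 1)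
    (M : Type u) [AddCommGroup M] [Module K M] [Module L M] [Module Lᵐᵒᵖ M] [IsCentralScalar L M]
    [IsScalarTower K L M] : spMap (sqMap K (0 : L →ₗ[L] M)) ≫ T = 1 := by
  have : sqMap K (0 : L →ₗ[L] M) =
      (TrivSqZeroExt.inlAlgHom K L M).comp (TrivSqZeroExt.fstHom K L L) := by
    refine AlgHom.ext fun x => TrivSqZeroExt.ext ?_ ?_ <;> simp
  rw [this, GrpSchLib.spMap_comp, Category.assoc, hT, MonObj.comp_one]

include he in
theorem pow_eq_spMap_comp (T : spO K L[ε] ⟶ G) (hT : spMap (TrivSqZeroExt.fstHom K L L) ≫ T = 1) (m : ℕ) :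
    T ^ m = spMap (sqMap K (scl L m)) ≫ T := by
  have hzero := spMap_sqMap_zero T hT
  have hfst : ∀ {M : Type u} [AddCommGroup M] [Module K M] [Module L M] [Module Lᵐᵒᵖ M] [IsCentralScalar L M]
      [IsScalarTower K L M] (φ : L →ₗ[L] M),
      spMap (TrivSqZeroExt.fstHom K L M) ≫ spMap (sqMap K φ) ≫ T = 1 := by
    intro M _ _ _ _ _ _ φ
    rw [← Category.assoc, ← GrpSchLib.spMap_comp,
      show (TrivSqZeroExt.fstHom K L M).comp (sqMap K φ) = TrivSqZeroExt.fstHom K L L from
        AlgHom.ext fun x => by simp, hT]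
  let i₁ : L →ₗ[L] L × L := LinearMap.inl L L L
  let i₂ : L →ₗ[L] L × L := LinearMap.inr L L L
  have hadd : (spMap (sqMap K i₁) ≫ T) * (spMap (sqMap K i₂) ≫ T) = spMap (sqMap K (i₁ + i₂)) ≫ T := by
    obtain ⟨g, hg, hg1⟩ := exists_alg_lift jA e he
      ((spMap (sqMap K i₁) ≫ T) * (spMap (sqMap K i₂) ≫ T))
      (by rw [MonObj.comp_mul, hfst, hfst, _root_.one_mul])
    obtain ⟨g', hg', hg1'⟩ := exists_alg_lift jA e he (spMap (sqMap K (i₁ + i₂)) ≫ T) (hfst _)
    rw [← hg, ← hg']
    haveI : Mono jA := (Over.forget _).mono_of_mono_map (show Mono jA.left from inferInstance)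
    have hpr : ∀ (π : L × L →ₗ[L] L), (π ∘ₗ i₁ = 0 ∧ π ∘ₗ i₂ = LinearMap.id ∧ π ∘ₗ (i₁ + i₂) = LinearMap.id) ∨
        (π ∘ₗ i₂ = 0 ∧ π ∘ₗ i₁ = LinearMap.id ∧ π ∘ₗ (i₁ + i₂) = LinearMap.id) →
        (sqMap K π).comp g = (sqMap K π).comp g' := by
      intro π hπ
      apply GrpSchLib.spMap_injective
      rw [← cancel_mono jA, GrpSchLib.spMap_comp, GrpSchLib.spMap_comp, Category.assoc, Category.assoc, hg, hg',
        MonObj.comp_mul, ← Category.assoc, spMap_sqMap_comp, ← Category.assoc, spMap_sqMap_comp,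
        ← Category.assoc, spMap_sqMap_comp]
      rcases hπ with ⟨h1, h2, h3⟩ | ⟨h1, h2, h3⟩
      · rw [h1, h2, h3, hzero, _root_.one_mul]
      · rw [h1, h2, h3, hzero, _root_.mul_one]
    have h1 := hpr (LinearMap.fst L L L) (Or.inr ⟨by ext <;> simp [i₂], by ext; simp [i₁], by ext; simp [i₁, i₂]⟩)
    have h2 := hpr (LinearMap.snd L L L) (Or.inl ⟨by ext <;> simp [i₁], by ext; simp [i₂], by ext; simp [i₁, i₂]⟩)
    congr 2
    refine AlgHom.ext fun a => TrivSqZeroExt.ext ?_ (Prod.ext ?_ ?_)
    · exact (AlgHom.congr_fun hg1 a).trans (AlgHom.congr_fun hg1' a).symm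
    · simpa using congrArg TrivSqZeroExt.snd (AlgHom.congr_fun h1 a)
    · simpa using congrArg TrivSqZeroExt.snd (AlgHom.congr_fun h2 a)
  induction m with
  | zero => rw [pow_zero, show scl L 0 = 0 by simp [scl], hzero]
  | succ m ih =>
    have h := congrArg (fun x => spMap (sqMap K ((scl L m).coprod LinearMap.id)) ≫ x) hadd
    rw [MonObj.comp_mul, ← Category.assoc, spMap_sqMap_comp, ← Category.assoc, spMap_sqMap_comp,
      ← Category.assoc, spMap_sqMap_comp] at h
    rw [show ((scl L m).coprod LinearMap.id) ∘ₗ i₁ = scl L m from by ext; simp [i₁],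
      show ((scl L m).coprod LinearMap.id) ∘ₗ i₂ = LinearMap.id from by ext; simp [i₂],
      show ((scl L m).coprod LinearMap.id) ∘ₗ (i₁ + i₂) = scl L (m + 1) from by ext; simp [i₁, i₂],
      show sqMap K (LinearMap.id : L →ₗ[L] L) = AlgHom.id K L[ε] from
        AlgHom.ext fun x => AlgHom.congr_fun TrivSqZeroExt.map_id x,
      GrpSchLib.spMap_id, Category.id_comp, ← ih] at h
    rw [pow_succ, h]

include he in
/-- Tangent vectors at the unit are killed by the characteristic. -/
theorem pow_eq_one_of_natCast (T : spO K L[ε] ⟶ G) (hT : spMap (TrivSqZeroExt.fstHom K L L) ≫ T = 1)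
    (n : ℕ) (hn : (n : L) = 0) : T ^ n = 1 := by
  rw [pow_eq_spMap_comp jA e he T hT n, show scl L n = 0 by simp [scl, hn], spMap_sqMap_zero T hT]

include he in
/-- A tangent vector at the unit killed by `n` contradicts unramifiedness of multiplication by `n`. -/
theorem eq_one_of_formallyUnramified [LocallyOfFiniteType G.hom] (n : ℕ) (hn : (n : K) = 0)
    [FormallyUnramified (𝟙 G ^ n).left]
    (T : spO K K[ε] ⟶ G) (hT : spMap (TrivSqZeroExt.fstHom K K K) ≫ T = 1) : T = 1 := by
  have hTn : T ≫ 𝟙 G ^ n = (1 : spO K K[ε] ⟶ G) ≫ 𝟙 G ^ n := by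
    rw [MonObj.comp_pow, Category.comp_id, MonObj.comp_pow, Category.comp_id, one_pow,
      pow_eq_one_of_natCast jA e he T hT n hn]
  let f := (𝟙 G ^ n).left
  haveI : FormallyUnramified f := ‹_›
  haveI : LocallyOfFiniteType f := by
    haveI : LocallyOfFiniteType (f ≫ G.hom) := by rw [Over.w]; infer_instance
    exact locallyOfFiniteType_of_comp f G.hom
  let y := pullback.lift (f := f) (g := f) T.left (1 : spO K K[ε] ⟶ G).left (congrArg CommaMorphism.left hTn)
  have hsurj : Function.Surjective (spMap (TrivSqZeroExt.fstHom K K K)).left := by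
    intro q
    have hs : Function.Surjective (TrivSqZeroExt.fstHom K K K).toRingHom := fun a => ⟨TrivSqZeroExt.inl a, by simp⟩
    have hq : q ∈ Set.range (PrimeSpectrum.comap (TrivSqZeroExt.fstHom K K K).toRingHom) := by
      rw [range_comap_of_surjective _ _ hs]
      intro z hz
      have hz' : TrivSqZeroExt.fst z = 0 := hz
      refine (q.isPrime.mem_or_mem (?_ : z * z ∈ q.asIdeal)).elim id id
      rw [show z * z = 0 by ext <;> simp [hz']]
      exact zero_mem _
    exact hq
  have hy : (spMap (TrivSqZeroExt.fstHom K K K)).left ≫ y = (1 : spO K K ⟶ G).left ≫ pullback.diagonal f := by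
    refine pullback.hom_ext ?_ ?_ <;> simp only [y, Category.assoc, pullback.lift_fst, pullback.lift_snd,
      pullback.diagonal_fst, pullback.diagonal_snd, Category.comp_id, ← Over.comp_left]
    · rw [hT]
    · rw [MonObj.comp_one]
  have hr : Set.range y ⊆ Set.range (pullback.diagonal f) := by
    rintro _ ⟨p, rfl⟩
    obtain ⟨q, rfl⟩ := hsurj p
    exact ⟨(1 : spO K K ⟶ G).left q, by
      rw [← Scheme.Hom.comp_apply, ← hy, Scheme.Hom.comp_apply]⟩
  let z := IsOpenImmersion.lift (pullback.diagonal f) y hr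
  have hz : z ≫ pullback.diagonal f = y := IsOpenImmersion.lift_fac _ _ _
  ext1
  have h1 : z = T.left := by
    simpa [y] using congrArg (fun φ => φ ≫ pullback.fst f f) hz
  have h2 : z = (1 : spO K K[ε] ⟶ G).left := by
    simpa [y] using congrArg (fun φ => φ ≫ pullback.snd f f) hz
  exact h1.symm.trans h2

end SqZero

/-- Multiplication by an integer divisible by the characteristic is ramified in positive dimension. -/
theorem not_formallyUnramified_npow (G : Over (Spec (CommRingCat.of K))) [GrpObj G] [LocallyOfFiniteType G.hom]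
    [PreconnectedSpace G.left] (hG : 0 < topologicalKrullDim G.left) (n : ℕ) (hn : (n : K) = 0) :
    ¬ FormallyUnramified (𝟙 G ^ n).left := by
  intro hfu
  let x₀ : G.left := (MonObj.one (X := G)).left (IsLocalRing.closedPoint K)
  obtain ⟨U, hU, hx, -⟩ := G.left.isBasis_affineOpens.exists_subset_of_mem_open (Set.mem_univ x₀) isOpen_univ
  obtain ⟨U, hUaff, rfl⟩ := hU
  have hUaff : IsAffineOpen U := hUaff
  let A : Type u := Γ(G.left, U)
  let φ : CommRingCat.of K ⟶ Γ(G.left, U) := Spec.preimage (hUaff.fromSpec ≫ G.hom)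
  letI : Algebra K A := φ.hom.toAlgebra
  have hw : hUaff.fromSpec ≫ G.hom = Spec.map (CommRingCat.ofHom (algebraMap K A)) := by
    rw [← Spec.map_preimage (hUaff.fromSpec ≫ G.hom)]
    rfl
  let jA : spO K A ⟶ G := Over.homMk hUaff.fromSpec hw
  haveI : IsOpenImmersion jA.left := inferInstanceAs (IsOpenImmersion hUaff.fromSpec)
  let u : spO K K ⟶ G := 1
  have hupt : ∀ p, u.left p = x₀ := fun p => by
    show (toUnit (spO K K) ≫ MonObj.one (X := G)).left p = _
    exact congrArg (MonObj.one (X := G)).left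
      (@Subsingleton.elim _ (inferInstanceAs (Subsingleton (PrimeSpectrum K))) _ _)
  have hru : Set.range u.left ⊆ Set.range jA.left := by
    rintro _ ⟨p, rfl⟩
    show _ ∈ Set.range hUaff.fromSpec
    rw [hUaff.range_fromSpec, hupt]
    exact hx
  obtain ⟨e, he'⟩ := GrpSchLib.exists_spMap (Over.homMk (IsOpenImmersion.lift jA.left u.left hru) (by
    rw [show (spO K A).hom = jA.left ≫ G.hom from (Over.w jA).symm, IsOpenImmersion.lift_fac_assoc]
    exact Over.w u) : spO K K ⟶ spO K A)
  have he : spMap e ≫ jA = 1 := by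
    rw [he']; ext1; exact IsOpenImmersion.lift_fac _ _ _
  haveI : LocallyOfFiniteType (hUaff.fromSpec ≫ G.hom) :=
    MorphismProperty.comp_mem @LocallyOfFiniteType _ _ inferInstance inferInstance
  haveI : Algebra.FiniteType K A := by
    have h : LocallyOfFiniteType (Spec.map (CommRingCat.ofHom (algebraMap K A))) := hw ▸ inferInstance
    exact RingHom.finiteType_algebraMap.mp ((HasRingHomProperty.Spec_iff (P := @LocallyOfFiniteType)).mp h)
  haveI : IsNoetherianRing A := Algebra.FiniteType.isNoetherianRing K A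
  have hes : Function.Surjective e := fun c => ⟨algebraMap K A c, e.commutes c⟩
  let 𝔪 : Ideal A := RingHom.ker e
  have hmax : 𝔪.IsMaximal := RingHom.ker_isMaximal_of_surjective e hes
  have hne : ¬ 𝔪 ≤ 𝔪 ^ 2 := by
    intro hle
    have hidem : IsIdempotentElem 𝔪 := by
      show 𝔪 * 𝔪 = 𝔪
      exact le_antisymm Ideal.mul_le_right (pow_two 𝔪 ▸ hle)
    obtain ⟨c0, hc0, hc'⟩ := (Ideal.isIdempotentElem_iff_of_fg 𝔪 (IsNoetherian.noetherian 𝔪)).1 hidem
    let P : PrimeSpectrum A := ⟨𝔪, hmax.isPrime⟩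
    have hsing : (PrimeSpectrum.basicOpen (1 - c0) : Set (PrimeSpectrum A)) = {P} := by
      ext q
      rw [Set.mem_singleton_iff, SetLike.mem_coe, PrimeSpectrum.mem_basicOpen]
      constructor
      · intro h
        have hcq : c0 ∈ q.asIdeal := by
          refine (q.isPrime.mem_or_mem (?_ : c0 * (1 - c0) ∈ q.asIdeal)).resolve_right h
          rw [mul_sub, _root_.mul_one, hc0.eq, sub_self]; exact zero_mem _
        refine PrimeSpectrum.ext (hmax.eq_of_le q.isPrime.ne_top ?_).symm
        rw [hc', Ideal.submodule_span_eq, Ideal.span_singleton_le_iff_mem]; exact hcq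
      · rintro rfl h
        refine hmax.ne_top ((Ideal.eq_top_iff_one _).2 ?_)
        rw [← sub_add_cancel (1 : A) c0]
        exact add_mem h (hc' ▸ Ideal.mem_span_singleton_self c0)
    have hopen : IsOpen ({jA.left P} : Set G.left) := by
      rw [← Set.image_singleton, ← hsing]
      exact jA.left.isOpenEmbedding.isOpenMap _ (PrimeSpectrum.basicOpen (1 - c0)).isOpen
    have hP : jA.left P = x₀ := by
      have hc := congrArg (fun f : spO K K ⟶ G => f.left (⊥ : PrimeSpectrum K)) he
      simp only [Over.comp_left, Scheme.Hom.comp_apply] at hc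
      rw [← hupt (⊥ : PrimeSpectrum K), ← hc]
      refine congrArg jA.left ?_
      refine PrimeSpectrum.ext ?_
      show 𝔪 = Ideal.comap e.toRingHom ⊥
      rw [← RingHom.ker_eq_comap_bot]
      rfl
    rw [hP] at hopen
    have hclosed : IsClosed ({x₀} : Set G.left) := GrpSchLib.isClosed_unitPt
    have huniv : ({x₀} : Set G.left) = Set.univ :=
      IsClopen.eq_univ ⟨hclosed, hopen⟩ (Set.singleton_nonempty _)
    haveI : Subsingleton G.left := ⟨fun a b => by
      have ha : a ∈ ({x₀} : Set G.left) := huniv ▸ Set.mem_univ a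
      have hb : b ∈ ({x₀} : Set G.left) := huniv ▸ Set.mem_univ b
      exact ha.trans hb.symm⟩
    haveI : Nonempty G.left := ⟨x₀⟩
    rw [topologicalKrullDim] at hG
    haveI : Subsingleton (TopologicalSpace.IrreducibleCloseds G.left) :=
      ⟨fun a b => TopologicalSpace.IrreducibleCloseds.ext
        ((Subsingleton.eq_univ_of_nonempty a.2.1).trans (Subsingleton.eq_univ_of_nonempty b.2.1).symm)⟩
    exact absurd hG (not_lt.2 Order.krullDim_nonpos_of_subsingleton)
  obtain ⟨a, ha, ha2⟩ := SetLike.not_le_iff_exists.1 hne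
  let W : Submodule K A := Submodule.span K {1} ⊔ (𝔪 ^ 2).restrictScalars K
  have haW : a ∉ W := by
    intro h
    obtain ⟨c, hc, b, hb, hab⟩ := Submodule.mem_sup.1 h
    obtain ⟨c, rfl⟩ := Submodule.mem_span_singleton.1 hc
    have hb' : b ∈ 𝔪 := Ideal.pow_le_self two_ne_zero hb
    have hc0 : c = 0 := by
      have := congrArg e hab
      rw [map_add, map_smul, map_one, (RingHom.mem_ker).1 hb', add_zero, (RingHom.mem_ker).1 ha] at this
      simpa using this
    rw [hc0, zero_smul, zero_add] at hab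
    exact ha2 (hab ▸ hb)
  obtain ⟨v, hva, hvW⟩ := Submodule.exists_dual_map_eq_bot_of_notMem haW inferInstance
  have hv0 : ∀ w ∈ W, v w = 0 := fun w hw => by
    have : v w ∈ W.map v := Submodule.mem_map_of_mem hw
    rwa [hvW, Submodule.mem_bot] at this
  have hv1 : v 1 = 0 := hv0 _ (Submodule.mem_sup_left (Submodule.mem_span_singleton_self _))
  have hv : ∀ x y, v (x * y) = e x * v y + e y * v x := fun x y => by
    have hmem : (x - algebraMap K A (e x)) * (y - algebraMap K A (e y)) ∈ 𝔪 ^ 2 := by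
      rw [pow_two]
      refine Ideal.mul_mem_mul ?_ ?_ <;> simp [𝔪, RingHom.mem_ker]
    have h0 := hv0 _ (Submodule.mem_sup_right
      (show (x - algebraMap K A (e x)) * (y - algebraMap K A (e y)) ∈ (𝔪 ^ 2).restrictScalars K from hmem))
    have hexp : (x - algebraMap K A (e x)) * (y - algebraMap K A (e y)) =
        x * y - e x • y - e y • x + (e x * e y) • (1 : A) := by
      simp only [Algebra.smul_def, map_mul]; ring
    rw [hexp] at h0
    simp only [map_add, map_sub, map_smul, hv1, smul_zero, add_zero, smul_eq_mul] at h0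
    linear_combination h0
  let vp : A →ₐ[K] K[ε] :=
    { toFun := fun a => TrivSqZeroExt.inl (e a) + TrivSqZeroExt.inr (v a)
      map_one' := by ext <;> simp [hv1]
      map_zero' := by ext <;> simp
      map_add' := fun a b => by ext <;> simp [map_add]
      map_mul' := fun a b => by ext <;> simp [hv, mul_comm]
      commutes' := fun c => by
        have : v (algebraMap K A c) = 0 := by rw [Algebra.algebraMap_eq_smul_one, map_smul, hv1, smul_zero]
        ext <;> simp [this, TrivSqZeroExt.algebraMap_eq_inl'] }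
  have hT : spMap (TrivSqZeroExt.fstHom K K K) ≫ spMap vp ≫ jA = 1 := by
    rw [← Category.assoc, ← GrpSchLib.spMap_comp,
      show (TrivSqZeroExt.fstHom K K K).comp vp = e from AlgHom.ext fun a => by simp [vp], he]
  have h1 := eq_one_of_formallyUnramified jA e he n hn _ hT
  have h2 : spMap ((Algebra.ofId K K[ε]).comp e) ≫ jA = 1 := by
    rw [GrpSchLib.spMap_comp, Category.assoc, he, MonObj.comp_one]
  haveI : Mono jA := (Over.forget _).mono_of_mono_map (show Mono jA.left from inferInstance)
  have h3 := GrpSchLib.spMap_injective ((cancel_mono jA).1 (h1.trans h2.symm))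
  have := congrArg TrivSqZeroExt.snd (AlgHom.congr_fun h3 a)
  simp [vp, Algebra.ofId_apply, TrivSqZeroExt.algebraMap_eq_inl] at this
  exact hva this

variable {A : Over (Spec (CommRingCat.of K))} [GrpObj A] [IsProper A.hom] [GeometricallyIntegral A.hom]

/-- Multiplication by an integer invertible in the field is étale. -/
theorem etale_npow {g : ℕ} (hg : topologicalKrullDim A.left = g) (n : ℕ) (hn : (n : K) ≠ 0) :
    Etale (𝟙 A ^ n).left := by
  have hn1 : 1 ≤ n := Nat.one_le_iff_ne_zero.2 fun h => hn (by simp [h])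
  obtain ⟨hfin, hflat, hrk⟩ := npow_spec hg n hn1
  haveI := surjective_npow (A := A) n hn1
  haveI : IsCommMonObj A := isCommMonObj_of_isProper_of_geometricallyIntegral A
  haveI : IsMonHom (𝟙 A ^ n) := GrpSchLib.isMonHom_pow (𝟙 A) n
  set u := 𝟙 A ^ n with hu
  haveI : IsFinite u.left := hfin
  haveI : Flat u.left := hflat
  obtain ⟨hN, -⟩ := GrpQuotLib.exists_grpObj_kernel u
  letI : GrpObj (pullback u η[A]) := hN
  have hsq := GrpQuotLib.isPullback_left (IsPullback.of_hasPullback u η[A])
  have e : (pullback u η[A]).hom = hsq.isoPullback.hom ≫ pullback.snd u.left η[A].left := by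
    rw [hsq.isoPullback_hom_snd, ← Over.w (pullback.snd u η[A])]
    exact Category.comp_id _
  haveI : IsFinite (pullback u η[A]).hom := by rw [e]; infer_instance
  have het : Etale (pullback u η[A]).hom := GrpSchLib.etale_of_finrank_ne_zero_field _ fun x => by
    rw [e, Scheme.Hom.finrank_comp_left_of_isIso, Scheme.Hom.finrank_pullback_snd, hrk, Nat.cast_pow]
    exact pow_ne_zero _ hn
  refine MonoFibre.KernelFibre.of_kernel u (pullback.fst u η[A]) @Etale ?_ het
  show IsPullback (pullback.fst u η[A]) (toUnit _) u η[A]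
  rw [toUnit_unique (toUnit _) (pullback.snd u η[A])]
  exact IsPullback.of_hasPullback u η[A]

theorem exists_dim : ∃ g : ℕ, topologicalKrullDim A.left = g := by
  haveI : IsLocallyNoetherian A.left := LocallyOfFiniteType.isLocallyNoetherian A.hom
  rw [← GrpSchLib.ringKrullDim_stalk_eq_topologicalKrullDim A _ GrpSchLib.isClosed_unitPt]
  obtain ⟨g, hg⟩ := WithBot.ne_bot_iff_exists.1
    (ringKrullDim_ne_bot (R := A.left.presheaf.stalk (GrpSchLib.unitPt A)))
  have ht : g ≠ ⊤ := fun h =>
    ringKrullDim_ne_top (R := A.left.presheaf.stalk (GrpSchLib.unitPt A)) (by rw [← hg, h]; rfl)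
  obtain ⟨m, rfl⟩ := WithTop.ne_top_iff_exists.1 ht
  exact ⟨m, hg.symm⟩

theorem etale_zpow_iff (hA : 0 < topologicalKrullDim A.left) (d : ℤ) :
    Etale (𝟙 A ^ d).left ↔ (d : K) ≠ 0 := by
  obtain ⟨g, hg⟩ := exists_dim (A := A)
  have key : Etale (𝟙 A ^ d).left ↔ Etale (𝟙 A ^ d.natAbs).left := by
    rcases Int.natAbs_eq d with e | e
    · rw [show (𝟙 A : A ⟶ A) ^ d = 𝟙 A ^ d.natAbs by conv_lhs => rw [e, zpow_natCast]]
    · have e2 : (𝟙 A : A ⟶ A) ^ d = (𝟙 A)⁻¹ ≫ 𝟙 A ^ d.natAbs := by
        rw [MonObj.comp_pow, Category.comp_id, inv_pow]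
        conv_lhs => rw [e, zpow_neg, zpow_natCast]
      rw [e2, Over.comp_left]
      exact MorphismProperty.cancel_left_of_respectsIso @Etale _ _
  have hcast : (d : K) = 0 ↔ (d.natAbs : K) = 0 := by
    rcases Int.natAbs_eq d with e | e <;> conv_lhs => rw [e]
    · simp
    · simp
  rw [key, ne_eq, hcast]
  haveI : IsIntegral A.left := GeometricallyIntegral.isIntegral_of_subsingleton A.hom
  exact ⟨fun h h0 => not_formallyUnramified_npow A hA _ h0 inferInstance, etale_npow hg _⟩

end Groth.Agent.AVLib
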