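import Groth.Agent.AVLib.Proj
import Groth.Agent.AVLib.DivSection
import Groth.Agent.AmpleEmb.SectionsGe
import Groth.Agent.AVLib.Cube
import Groth.Agent.AVLib.DivLine
import Groth.Agent.CurveLib.GlobalFun
import Groth.Agent.MonoFibre.Orbit
import Groth.Agent.AmpleLib.Descent
import Groth.Agent.S7795
import Groth.Agent.S2821

/-!
# Effective invertible modules on abelian varieties
-/

set_option autoImplicit false
set_option backward.isDefEq.respectTransparency false

universe u

open CategoryTheory CategoryTheory.Limits MonoidalCategory CartesianMonoidalCategory MonObj AlgebraicGeometry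
open TopologicalSpace
open Groth.Agent.PicLib Groth.Agent.AmpleLib

noncomputable section

namespace Groth.Agent.AVLib

/-- The square of an effective invertible module has no base point. -/
theorem exists_mem_genLocus_sq {K : Type u} [Field K] [IsAlgClosed K] (A : Over (Spec (CommRingCat.of K)))
    [GrpObj A] [IsProper A.hom] [GeometricallyIntegral A.hom] {L : A.left.Modules}
    (hL : PicF.IsInvertible L) (σ : Coh.structureModule A.left ⟶ L)
    (hne : (CohB1.genLocus L σ : Set A.left).Nonempty) (x : A.left) :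
    ∃ s : Coh.structureModule A.left ⟶ CohB1.tensorMod L L, x ∈ CohB1.genLocus _ s := by
  haveI : QuasiCompact A.hom := inferInstance
  haveI : CompactSpace A.left := QuasiCompact.compactSpace_of_compactSpace A.hom
  haveI : LocallyOfFiniteType A.hom := inferInstance
  haveI : JacobsonSpace A.left := LocallyOfFiniteType.jacobsonSpace A.hom
  haveI : A.left.IsSeparated := ⟨by rw [← terminal.comp_from A.hom]; infer_instance⟩
  haveI : IsIntegral A.left := GeometricallyIntegral.isIntegral_of_subsingleton A.hom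
  -- a closed specialisation of `x` and the rational point there
  obtain ⟨x₀, hx₀, hclosed⟩ := nonempty_inter_closedPoints (X := A.left) (Z := closure {x})
    (Set.singleton_nonempty x).closure isClosed_closure.isLocallyClosed
  let p : 𝟙_ _ ⟶ A := Over.homMk (pointOfClosedPoint A.hom x₀ (mem_closedPoints_iff.1 hclosed))
    (pointOfClosedPoint_comp _ _ _)
  have hp : p.left (IsLocalRing.closedPoint K) = x₀ := pointOfClosedPoint_apply A.hom x₀ _ _
  let U := CohB1.genLocus L σ
  have hpre : ∀ (g : A ⟶ A) [IsIso g], (g.left ⁻¹' (U : Set A.left)).Nonempty := fun g _ =>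
    hne.preimage g.left.surjective
  obtain ⟨v, hv₁, hv₂⟩ := nonempty_preirreducible_inter (U.2.preimage (trL p).left.continuous)
    (U.2.preimage ((𝟙 A)⁻¹ ≫ trL p).left.continuous) (hpre _) (hpre _)
  obtain ⟨z, hz, hzc⟩ := nonempty_inter_closedPoints (X := A.left)
    (Z := (trL p).left ⁻¹' (U : Set A.left) ∩ ((𝟙 A)⁻¹ ≫ trL p).left ⁻¹' (U : Set A.left))
    ⟨v, hv₁, hv₂⟩
    ((U.2.preimage (trL p).left.continuous).inter
      (U.2.preimage ((𝟙 A)⁻¹ ≫ trL p).left.continuous)).isLocallyClosed
  let a : 𝟙_ _ ⟶ A := Over.homMk (pointOfClosedPoint A.hom z (mem_closedPoints_iff.1 hzc))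
    (pointOfClosedPoint_comp _ _ _)
  have ha : a.left (IsLocalRing.closedPoint K) = z := pointOfClosedPoint_apply A.hom z _ _
  have key : ∀ g h : A ⟶ A, p ≫ g = a ≫ h → g.left x₀ = h.left z := fun g h e => by
    rw [← hp, ← ha, ← Scheme.Hom.comp_apply, ← Over.comp_left, e, Over.comp_left, Scheme.Hom.comp_apply]
  have h₁ : (trR a).left x₀ ∈ U := by
    rw [key (trR a) (trL p) (by rw [comp_trR, comp_trL, toUnit_unique (toUnit _) (𝟙 _)]; simp)]
    exact hz.1
  have h₂ : (trR a⁻¹).left x₀ ∈ U := by
    rw [key (trR a⁻¹) ((𝟙 A)⁻¹ ≫ trL p) (by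
      rw [← Category.assoc, GrpObj.comp_inv a (𝟙 A), Category.comp_id, comp_trR, comp_trL,
        toUnit_unique (toUnit _) (𝟙 _)]
      simp)]
    exact hz.2
  let s := tensorS (pullS (trR a).left σ) (pullS (trR a⁻¹).left σ)
  have hs : CohB1.genLocus _ s = (trR a).left ⁻¹ᵁ U ⊓ (trR a⁻¹).left ⁻¹ᵁ U := by
    rw [genLocus_tensorS (isInvertible_pullback _ hL) (isInvertible_pullback _ hL),
      genLocus_pullS _ hL, genLocus_pullS _ hL]
  have hiso : Nonempty (CohB1.tensorMod ((Scheme.Modules.pullback (trR a).left).obj L)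
      ((Scheme.Modules.pullback (trR a⁻¹).left).obj L) ≅ CohB1.tensorMod L L) := by
    rw [← cls_eq_cls (isInvertible_tensor (isInvertible_pullback (trR a).left hL) (isInvertible_pullback (trR a⁻¹).left hL))
      (isInvertible_tensor hL hL), cls_tensor (isInvertible_pullback (trR a).left hL) (isInvertible_pullback (trR a⁻¹).left hL), cls_tensor hL hL, ← pull_cls _ hL, ← pull_cls _ hL, pull_trR_mul]
  obtain ⟨e⟩ := hiso
  refine ⟨s ≫ e.hom, ?_⟩
  rw [genLocus_comp_iso, hs]
  exact ⟨(specializes_iff_mem_closure.2 hx₀).mem_open ((trR a).left ⁻¹ᵁ U).2 h₁,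
    (specializes_iff_mem_closure.2 hx₀).mem_open ((trR a⁻¹).left ⁻¹ᵁ U).2 h₂⟩

end Groth.Agent.AVLib
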