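import Mathlib

/-!
# Differentials and the separable degree
-/

set_option autoImplicit false

universe u

noncomputable section

namespace Groth.Agent.AVLib

open IntermediateField

variable {L : Type u} [Field L]

/-- A generating derivation vanishing on a subfield bounds the dimension by that of the relative differentials. -/
theorem finrank_le_of_derivation {R T : Type u} [Field R] [Field T] [Algebra R L] [Algebra T L]
    [Module.Finite L Ω[L⁄T]] {M : Type u} [AddCommGroup M] [Module L M] [Module R M] [IsScalarTower R L M]
    (D : Derivation R L M) (hspan : Submodule.span L (Set.range D) = ⊤) (hT : ∀ t : T, D (algebraMap T L t) = 0) :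
    Module.finrank L M ≤ Module.finrank L Ω[L⁄T] := by
  letI : Module T M := Module.compHom M (algebraMap T L)
  haveI : IsScalarTower T L M := ⟨fun t l m => by
    show (t • l) • m = algebraMap T L t • l • m
    rw [smul_smul, Algebra.smul_def]⟩
  let D' : Derivation T L M := Derivation.mk'
    { toFun := D
      map_add' := map_add D
      map_smul' := fun t l => by
        show D (t • l) = algebraMap T L t • D l
        rw [Algebra.smul_def, D.leibniz, hT, smul_zero, add_zero] }
    (fun a b => D.leibniz a b)
  refine LinearMap.finrank_le_finrank_of_surjective (f := D'.liftKaehlerDifferential) ?_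
  rw [← LinearMap.range_eq_top, _root_.eq_top_iff, ← hspan, Submodule.span_le]
  rintro _ ⟨l, rfl⟩
  exact ⟨KaehlerDifferential.D T L l, D'.liftKaehlerDifferential_comp_D l⟩

/-- The set of elements killed by a derivation contains the subfield generated by any of its elements. -/
theorem derivation_adjoin {R : Type u} [Field R] [Algebra R L] {M : Type u} [AddCommGroup M] [Module L M]
    [Module R M] (D : Derivation R L M) {x : L} (hx : D x = 0) :
    ∀ t : L, t ∈ IntermediateField.adjoin R ({x} : Set L) → D t = 0 := by
  intro t ht
  induction ht using IntermediateField.adjoin_induction with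
  | mem y hy => rw [Set.mem_singleton_iff.1 hy]; exact hx
  | algebraMap r => exact D.map_algebraMap r
  | add a b _ _ ha hb => rw [map_add, ha, hb, add_zero]
  | inv a _ ha => rw [D.leibniz_inv, ha, smul_zero]
  | mul a b _ _ ha hb => rw [D.leibniz, ha, hb, smul_zero, smul_zero, add_zero]

theorem pow_finrank_kaehler_le (p : ℕ) [Fact p.Prime] [CharP L p] :
    ∀ (n : ℕ) (S : Type u) [Field S] [Algebra S L] [FiniteDimensional S L] [IsPurelyInseparable S L],
      Module.finrank S L = n → p ^ Module.finrank L Ω[L⁄S] ≤ n := by
  intro n
  induction n using Nat.strong_induction_on with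
  | _ n ih =>
    intro S _ _ _ _ hn
    haveI : CharP S p := (algebraMap S L).charP (algebraMap S L).injective p
    by_cases hs : Function.Surjective (algebraMap S L)
    · haveI := KaehlerDifferential.subsingleton_of_surjective S L hs
      rw [Module.finrank_zero_of_subsingleton, pow_zero, ← hn]
      exact Module.finrank_pos
    obtain ⟨x, hx⟩ : ∃ x, ∀ y, algebraMap S L y ≠ x := by simpa [Function.Surjective] using hs
    let S' : IntermediateField S L := IntermediateField.adjoin S ({x} : Set L)
    have hint : IsIntegral S x := IsPurelyInseparable.isIntegral' S x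
    obtain ⟨k, y, hk⟩ := IsPurelyInseparable.minpoly_eq_X_pow_sub_C S p x
    have hdeg : Module.finrank S S' = p ^ k := by
      rw [IntermediateField.adjoin.finrank hint, hk, Polynomial.natDegree_X_pow_sub_C]
    have hk0 : k ≠ 0 := by
      rintro rfl
      have h := minpoly.aeval S x
      rw [hk] at h
      simp [sub_eq_zero] at h
      exact hx y h.symm
    have hp : p ≤ Module.finrank S S' := hdeg ▸ Nat.le_self_pow hk0 p
    have hmul : Module.finrank S S' * Module.finrank S' L = n := by rw [Module.finrank_mul_finrank, hn]
    have hpos : 0 < Module.finrank S' L := Module.finrank_pos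
    have hlt : Module.finrank S' L < n := by
      rw [← hmul]
      calc Module.finrank S' L = 1 * Module.finrank S' L := (one_mul _).symm
        _ < Module.finrank S S' * Module.finrank S' L :=
          Nat.mul_lt_mul_of_pos_right (lt_of_lt_of_le (Fact.out : p.Prime).one_lt hp) hpos
    haveI : IsPurelyInseparable S' L := IsPurelyInseparable.tower_top S S' L
    have h1 := ih _ hlt S' rfl
    let W : Submodule L Ω[L⁄S] := Submodule.span L {KaehlerDifferential.D S L x}
    let D : Derivation S L (Ω[L⁄S] ⧸ W) := (W.mkQ).compDer (KaehlerDifferential.D S L)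
    have hD : Submodule.span L (Set.range D) = ⊤ := by
      rw [show Set.range D = W.mkQ '' Set.range (KaehlerDifferential.D S L) by rw [← Set.range_comp]; rfl,
        ← Submodule.map_span, KaehlerDifferential.span_range_derivation, Submodule.map_top,
        Submodule.range_mkQ]
    have hDx : D x = 0 := (Submodule.Quotient.mk_eq_zero _).2 (Submodule.mem_span_singleton_self _)
    have h2 : Module.finrank L (Ω[L⁄S] ⧸ W) ≤ Module.finrank L Ω[L⁄S'] :=
      finrank_le_of_derivation D hD fun t => derivation_adjoin D hDx t t.2
    have h3 : Module.finrank L W ≤ 1 := (finrank_span_le_card _).trans (by simp)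
    have h4 := Submodule.finrank_quotient_add_finrank W
    calc p ^ Module.finrank L Ω[L⁄S] ≤ p ^ (Module.finrank L Ω[L⁄S'] + 1) :=
          Nat.pow_le_pow_right (Fact.out : p.Prime).pos (by omega)
      _ = p ^ Module.finrank L Ω[L⁄S'] * p := pow_succ _ _
      _ ≤ Module.finrank S' L * Module.finrank S S' := Nat.mul_le_mul h1 hp
      _ = n := by rw [mul_comm]; exact hmul

/-- A finite extension on whose base every derivation vanishes has small separable degree. -/
theorem finSepDegree_mul_pow_le {K : Type u} [Field K] [Algebra K L] [Module.Finite L Ω[L⁄K]] (p : ℕ)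
    [Fact p.Prime] [CharP L p] (F : IntermediateField K L) [FiniteDimensional F L]
    (hF : ∀ D : Derivation K L L, ∀ x ∈ F, D x = 0) :
    Field.finSepDegree F L * p ^ Module.finrank L Ω[L⁄K] ≤ Module.finrank F L := by
  have hzero : ∀ x ∈ F, KaehlerDifferential.D K L x = 0 := by
    intro x hx
    by_contra h
    obtain ⟨ψ, hψ⟩ := Module.Projective.exists_dual_ne_zero L h
    exact hψ (hF (ψ.compDer (KaehlerDifferential.D K L)) x hx)
  have h1 : Module.finrank L Ω[L⁄K] ≤ Module.finrank L Ω[L⁄F] :=
    finrank_le_of_derivation (KaehlerDifferential.D K L) (KaehlerDifferential.span_range_derivation K L)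
      fun t => hzero _ t.2
  let S := separableClosure F L
  have h2 : Module.finrank L Ω[L⁄F] ≤ Module.finrank L Ω[L⁄S] := by
    refine finrank_le_of_derivation (KaehlerDifferential.D F L) (KaehlerDifferential.span_range_derivation F L)
      fun t => ?_
    have hsep : IsSeparable F (t : L) := mem_separableClosure_iff.1 t.2
    have h := (KaehlerDifferential.D F L).map_aeval (minpoly F (t : L)) (t : L)
    rw [minpoly.aeval, map_zero] at h
    exact (smul_eq_zero.1 h.symm).resolve_left (Polynomial.Separable.aeval_derivative_ne_zero hsep (minpoly.aeval F _))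
  have h3 := pow_finrank_kaehler_le (L := L) p _ S rfl
  rw [← Field.finSepDegree_mul_finInsepDegree F L, Field.finInsepDegree]
  refine Nat.mul_le_mul_left _ (le_trans (Nat.pow_le_pow_right (Fact.out : p.Prime).pos (h1.trans h2)) h3)

end Groth.Agent.AVLib
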