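import Groth.Agent.AVLib.Isogeny
import Groth.Agent.MonoFibre.RigidityProper

/-!
# The theorem of the square, and homomorphisms out of products
-/

set_option autoImplicit false
set_option backward.isDefEq.respectTransparency false

universe u

open CategoryTheory CategoryTheory.Limits MonoidalCategory CartesianMonoidalCategory MonObj AlgebraicGeometry
open Groth.Agent.PicLib

noncomputable section

namespace Groth.Agent.AVLib

variable {K : Type u} [Field K] {A : Over (Spec (CommRingCat.of K))} [GrpObj A]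

theorem pull_const {V : Over (Spec (CommRingCat.of K))} (b : 𝟙_ _ ⟶ A) (c : Pic A.left) :
    pull (toUnit V ≫ b).left c = 1 := by
  haveI : IsLocalRing (CommRingCat.of K) := inferInstanceAs (IsLocalRing K)
  rw [← pull_left_comp, show pull b.left c = 1 from eq_one_of_local (R := CommRingCat.of K) _, map_one]

variable [IsProper A.hom] [GeometricallyIntegral A.hom]

theorem isCommMonObj : IsCommMonObj A := isCommMonObj_of_isProper_of_geometricallyIntegral A

/-- The theorem of the square. -/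
theorem square (c : Pic A.left) (a b : 𝟙_ _ ⟶ A) :
    pull (trR (a * b)).left c * c = pull (trR a).left c * pull (trR b).left c := by
  have hc := cube c (𝟙 A) (toUnit A ≫ a) (toUnit A ≫ b)
  rw [show 𝟙 A * (toUnit A ≫ a) * (toUnit A ≫ b) = trR (a * b) by rw [trR, MonObj.comp_mul, _root_.mul_assoc],
    show (toUnit A ≫ a) * (toUnit A ≫ b) = toUnit A ≫ (a * b) from (MonObj.comp_mul _ _ _).symm,
    pull_const, pull_const, pull_const, Over.id_left, pull_id] at hc
  simp only [_root_.mul_one] at hc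
  exact hc

/-- A class times its symmetric is translation invariant up to symmetrisation. -/
theorem mul_inv_invariant (c : Pic A.left) (a : 𝟙_ _ ⟶ A) :
    c * pull ((𝟙 A)⁻¹).left c = pull (trR a).left c * pull ((𝟙 A)⁻¹).left (pull (trR a).left c) := by
  have hc := cube c (𝟙 A) (𝟙 A)⁻¹ (toUnit A ≫ a)
  rw [mul_inv_cancel, _root_.one_mul, pull_const, pull_one, _root_.one_mul, Over.id_left, pull_id] at hc
  rw [pull_left_comp, comp_trR]
  simp only [_root_.mul_one, _root_.one_mul] at hc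
  exact hc

/-- Inversion commutes with translations. -/
theorem trR_comp_inv (a : 𝟙_ _ ⟶ A) : trR a ≫ (𝟙 A)⁻¹ = (𝟙 A)⁻¹ ≫ trR a⁻¹ := by
  haveI := isCommMonObj (A := A)
  letI : CommGroup (A ⟶ A) := Hom.commGroup
  rw [comp_trR, GrpObj.comp_inv, Category.comp_id, trR, mul_inv, GrpObj.comp_inv]

/-- The symmetric of a translate. -/
theorem pull_trR_inv (c : Pic A.left) (a : 𝟙_ _ ⟶ A) :
    pull (trR a).left (pull ((𝟙 A)⁻¹).left c) * c = pull ((𝟙 A)⁻¹).left c * pull (trR a).left c := by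
  have h1 := pull_trR_mul c a
  have h2 := mul_inv_invariant c a
  have e : pull (trR a).left (pull ((𝟙 A)⁻¹).left c) = pull ((𝟙 A)⁻¹).left (pull (trR a⁻¹).left c) := by
    rw [pull_left_comp, pull_left_comp, trR_comp_inv]
  have h3 := congrArg (pull ((𝟙 A)⁻¹).left) h1
  rw [map_mul, map_mul, ← e] at h3
  refine mul_right_cancel (b := pull ((𝟙 A)⁻¹).left (pull (trR a).left c)) ?_
  calc pull (trR a).left (pull ((𝟙 A)⁻¹).left c) * c * pull ((𝟙 A)⁻¹).left (pull (trR a).left c)
      = pull ((𝟙 A)⁻¹).left (pull (trR a).left c) * pull (trR a).left (pull ((𝟙 A)⁻¹).left c) * c := by ac_rfl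
    _ = pull ((𝟙 A)⁻¹).left c * (c * pull ((𝟙 A)⁻¹).left c) := by rw [h3]; ac_rfl
    _ = _ := by rw [h2]; ac_rfl

/-- A morphism from a product of proper varieties is the product of its restrictions to the factors. -/
theorem eq_mul_of_slices {V W : Over (Spec (CommRingCat.of K))} [IsProper V.hom] [GeometricallyIntegral V.hom]
    [LocallyOfFiniteType W.hom] [GeometricallyIntegral W.hom]
    (v₀ : 𝟙_ (Over (Spec (CommRingCat.of K))) ⟶ V) (w₀ : 𝟙_ (Over (Spec (CommRingCat.of K))) ⟶ W)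
    (h : V ⊗ W ⟶ A) (h0 : lift v₀ w₀ ≫ h = η[A]) :
    h = (fst V W ≫ lift (𝟙 V) (toUnit V ≫ w₀) ≫ h) * (snd V W ≫ lift (toUnit W ≫ v₀) (𝟙 W) ≫ h) := by
  haveI := isCommMonObj (A := A)
  set f₁ := lift (𝟙 V) (toUnit V ≫ w₀) ≫ h with hf₁
  set f₂ := lift (toUnit W ≫ v₀) (𝟙 W) ≫ h with hf₂
  have e1 : w₀ ≫ f₂ = 1 := by
    rw [hf₂, ← Category.assoc, comp_lift, ← Category.assoc, toUnit_unique (w₀ ≫ toUnit W) (𝟙 _), Category.id_comp,
      Category.comp_id, h0, Hom.one_def, toUnit_unique (toUnit _) (𝟙 _), Category.id_comp]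
  have e2 : v₀ ≫ f₁ = 1 := by
    rw [hf₁, ← Category.assoc, comp_lift, ← Category.assoc, toUnit_unique (v₀ ≫ toUnit V) (𝟙 _), Category.id_comp,
      Category.comp_id, h0, Hom.one_def, toUnit_unique (toUnit _) (𝟙 _), Category.id_comp]
  let F : V ⊗ W ⟶ A := h * ((fst V W ≫ f₁) * (snd V W ≫ f₂))⁻¹
  have hV : lift (𝟙 V) (toUnit V ≫ w₀) ≫ F = toUnit V ≫ η[A] := by
    rw [← Hom.one_def]
    simp only [F, MonObj.comp_mul, GrpObj.comp_inv, lift_fst_assoc, lift_snd_assoc, Category.id_comp,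
      Category.assoc, e1, MonObj.comp_one, _root_.mul_one]
    rw [← hf₁, mul_inv_cancel]
  have hW : lift (toUnit W ≫ v₀) (𝟙 W) ≫ F = 1 := by
    simp only [F, MonObj.comp_mul, GrpObj.comp_inv, lift_fst_assoc, lift_snd_assoc, Category.id_comp,
      Category.assoc, e2, MonObj.comp_one, _root_.one_mul]
    rw [← hf₂, mul_inv_cancel]
  have hF := MonoFibre.Rigidity.eq_const_of_ratPt F v₀ w₀ η[A] hV
  rw [hW, MonObj.comp_one] at hF
  exact mul_inv_eq_one.1 hF

end Groth.Agent.AVLib
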