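import Groth.Agent.AVLib.Seesaw
import Groth.Agent.AVLib.Square

/-!
# Translation invariant classes
-/

set_option autoImplicit false
set_option backward.isDefEq.respectTransparency false

universe u

open CategoryTheory CategoryTheory.Limits MonoidalCategory CartesianMonoidalCategory MonObj AlgebraicGeometry
open Groth.Agent.PicLib

noncomputable section

namespace Groth.Agent.AVLib

variable {K : Type u} [Field K] {A : Over (Spec (CommRingCat.of K))} [GrpObj A]

/-- The Mumford class restricted to a horizontal slice. -/
theorem pull_trR_of_additive {c : Pic A.left}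
    (h : pull (fst A A * snd A A).left c = pull (fst A A).left c * pull (snd A A).left c) (a : 𝟙_ _ ⟶ A) :
    pull (trR a).left c = c := by
  have h1 := congrArg (pull (lift (𝟙 A) (toUnit A ≫ a)).left) h
  rw [map_mul, pull_left_comp, pull_left_comp, pull_left_comp, MonObj.comp_mul, lift_fst, lift_snd, pull_const,
    _root_.mul_one, Over.id_left, pull_id] at h1
  exact h1

variable [IsAlgClosed K] [IsProper A.hom] [GeometricallyIntegral A.hom]

/-- A translation invariant class is additive. -/
theorem additive_of_invariant {c : Pic A.left} (hc : ∀ a : 𝟙_ _ ⟶ A, pull (trR a).left c = c) :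
    pull (fst A A * snd A A).left c = pull (fst A A).left c * pull (snd A A).left c := by
  haveI : IsIntegral A.left := GeometricallyIntegral.isIntegral_of_subsingleton A.hom
  rw [← mul_inv_eq_one]
  refine eq_one_of_slices η[A] _ (fun w => ?_) ?_
  · rw [map_mul, map_inv, map_mul, pull_left_comp, pull_left_comp, pull_left_comp, MonObj.comp_mul, lift_fst,
      lift_snd, pull_const, _root_.mul_one, Over.id_left, pull_id, mul_inv_eq_one]
    exact hc w
  · rw [map_mul, map_inv, map_mul, pull_left_comp, pull_left_comp, pull_left_comp, MonObj.comp_mul, lift_fst,
      lift_snd, pull_const, _root_.one_mul, Over.id_left, pull_id, mul_inv_eq_one,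
      ← Hom.one_def, _root_.one_mul, Over.id_left, pull_id]

/-- Inverse image of a translation invariant class is additive in the morphism. -/
theorem pull_mul_of_invariant {c : Pic A.left} (hc : ∀ a : 𝟙_ _ ⟶ A, pull (trR a).left c = c)
    {T : Over (Spec (CommRingCat.of K))} (f g : T ⟶ A) :
    pull (f * g).left c = pull f.left c * pull g.left c := by
  have h1 := congrArg (pull (lift f g).left) (additive_of_invariant hc)
  rw [map_mul, pull_left_comp, pull_left_comp, pull_left_comp, MonObj.comp_mul, lift_fst, lift_snd] at h1
  exact h1

end Groth.Agent.AVLib
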