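import Groth.Agent.AVLib.Square
import Groth.Prelude.Def_ThetaK

/-!
# The locus over which the Mumford bundle is trivial
-/

set_option autoImplicit false
set_option backward.isDefEq.respectTransparency false

universe u

open CategoryTheory CategoryTheory.Limits MonoidalCategory CartesianMonoidalCategory MonObj AlgebraicGeometry
open Groth.Agent.PicLib

noncomputable section

namespace Groth.Agent.AVLib

variable {K : Type u} [Field K] {A T : Over (Spec (CommRingCat.of K))} [GrpObj A]

/-- Additivity of a class along a point. -/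
def AddAlong (c : Pic A.left) (z : T ⟶ A) : Prop :=
  pull (fst A T * (snd A T ≫ z)).left c = pull (fst A T).left c * pull (snd A T ≫ z).left c

theorem transl_fst_eq (z : T ⟶ A) : ThetaGrp.transl A z ≫ fst A T = fst A T * (snd A T ≫ z) :=
  ThetaGrp.transl_fst A z

/-- The unit section of `A × T`. -/
def unitSec : T ⟶ A ⊗ T := lift 1 (𝟙 T)

theorem whiskerLeft_mul (z : T ⟶ A) : (A ◁ z) ≫ μ[A] = fst A T * (snd A T ≫ z) := by
  rw [Hom.mul_def]
  congr 1

theorem eq_pull_of_eq (c : Pic A.left) (z : T ⟶ A) {m : Pic T.left}
    (h : pull (fst A T * (snd A T ≫ z)).left c = pull (fst A T).left c * pull (snd A T).left m) :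
    m = pull z.left c := by
  have h1 := congrArg (pull (unitSec (A := A) (T := T)).left) h
  rw [map_mul, pull_left_comp, pull_left_comp, ← pull_comp, ← Over.comp_left, unitSec, MonObj.comp_mul, lift_fst,
    lift_snd, lift_snd_assoc, Category.id_comp, _root_.one_mul, pull_one, _root_.one_mul, Over.id_left, pull_id] at h1
  exact h1.symm

theorem eq_one_of_eq (c : Pic A.left) (z : T ⟶ A) {m : Pic T.left}
    (h : pull (snd A T).left m * pull (fst A T).left c * pull (snd A T ≫ z).left c =
      pull (fst A T * (snd A T ≫ z)).left c) : m = 1 := by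
  have h1 := congrArg (pull (unitSec (A := A) (T := T)).left) h
  rw [map_mul, map_mul, pull_left_comp, pull_left_comp, pull_left_comp, ← pull_comp, ← Over.comp_left, unitSec,
    MonObj.comp_mul, lift_fst, lift_snd, lift_snd_assoc, Category.id_comp, _root_.one_mul, pull_one, _root_.mul_one,
    Over.id_left, pull_id] at h1
  exact mul_eq_right.1 h1

/-- Being in the kernel of the Mumford bundle is additivity along the point. -/
theorem isMumfordTriv_iff {L : A.left.Modules} (hL : PicF.IsInvertible L) (z : T ⟶ A) :
    ThetaGrp.IsMumfordTriv A L z ↔ AddAlong (cls hL) z := by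
  have hp := AmpleLib.isInvertible_pullback (fst A T).left hL
  have hz := AmpleLib.isInvertible_pullback (snd A T ≫ z).left hL
  have hw : ((A ◁ z) ≫ μ[A]).left = (fst A T * (snd A T ≫ z)).left := congrArg CommaMorphism.left (whiskerLeft_mul z)
  unfold ThetaGrp.IsMumfordTriv AgPol.IsLambdaSheaf
  rw [hw]
  constructor
  · rintro ⟨M, hM, h⟩
    have hM' := AmpleLib.isInvertible_pullback (snd A T).left hM
    have h1 : pull (snd A T).left (cls hM) * pull (fst A T).left (cls hL) * pull (snd A T ≫ z).left (cls hL) =
        pull (fst A T * (snd A T ≫ z)).left (cls hL) := by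
      simp only [pull_cls, ← cls_tensor]
      exact (cls_eq_cls _ _).2 h
    rw [eq_one_of_eq (cls hL) z h1, map_one, _root_.one_mul] at h1
    exact h1.symm
  · intro h
    refine ⟨_, ParaFLib.isInvertible_structureModule, (cls_eq_cls (AmpleLib.isInvertible_tensor (AmpleLib.isInvertible_tensor
      (AmpleLib.isInvertible_pullback _ ParaFLib.isInvertible_structureModule) hp) hz)
      (AmpleLib.isInvertible_pullback _ hL)).1 ?_⟩
    show pull (snd A T).left (cls ParaFLib.isInvertible_structureModule) * pull (fst A T).left (cls hL) *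
      pull (snd A T ≫ z).left (cls hL) = pull (fst A T * (snd A T ≫ z)).left (cls hL)
    rw [cls_structureModule, map_one, _root_.one_mul]
    exact h.symm

theorem addAlong_one (c : Pic A.left) : AddAlong c (1 : T ⟶ A) := by
  simp only [AddAlong, MonObj.comp_one, _root_.mul_one, pull_one]

variable [IsProper A.hom] [GeometricallyIntegral A.hom]

theorem addAlong_mul {c : Pic A.left} {y z : T ⟶ A} (hy : AddAlong c y) (hz : AddAlong c z) :
    AddAlong c (y * z) := by
  simp only [AddAlong] at hy hz ⊢
  rw [MonObj.comp_mul, ← _root_.mul_assoc]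
  have hc := cube c (fst A T) (snd A T ≫ y) (snd A T ≫ z)
  rw [hy, hz] at hc
  refine mul_right_cancel
    (b := pull (fst A T).left c * pull (snd A T ≫ y).left c * pull (snd A T ≫ z).left c) ?_
  simp only [← _root_.mul_assoc] at hc ⊢
  rw [hc]
  ac_rfl

theorem addAlong_inv {c : Pic A.left} {z : T ⟶ A} (hz : AddAlong c z) : AddAlong c z⁻¹ := by
  simp only [AddAlong] at hz ⊢
  rw [GrpObj.comp_inv]
  have hc := cube c (fst A T) (snd A T ≫ z) (snd A T ≫ z)⁻¹
  rw [mul_inv_cancel, pull_one, _root_.mul_one, hz, mul_inv_cancel_right] at hc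
  refine mul_right_cancel
    (b := pull (fst A T).left c * pull (snd A T ≫ z).left c) ?_
  simp only [← _root_.mul_assoc] at hc ⊢
  refine Eq.trans ?_ (hc.symm.trans ?_) <;> ac_rfl

end Groth.Agent.AVLib
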