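import Groth.Agent.AVLib.Etale
import Groth.Agent.SmallGrp.EtalePoints
import Groth.Agent.S7795

/-!
# Rational torsion points of an abelian variety over an algebraically closed field
-/

set_option autoImplicit false
set_option backward.isDefEq.respectTransparency false

universe u

open CategoryTheory CategoryTheory.Limits MonoidalCategory CartesianMonoidalCategory MonObj AlgebraicGeometry

noncomputable section

namespace Groth.Agent.AVLib

open GrpSchLib (spO spMap)

variable {K : Type u} [Field K] [IsAlgClosed K]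

theorem natCard_points_spO (B : Type u) [CommRing B] [Algebra K B] [Module.Finite K B] [Algebra.Etale K B] :
    Finite (spO K K ⟶ spO K B) ∧ Nat.card (spO K K ⟶ spO K B) = Module.finrank K B := by
  haveI : IsReduced B := Algebra.FormallyUnramified.isReduced_of_field K B
  haveI := SmallGrp.finite_pts (k := K) (E := B)
  have hF : Function.Bijective (fun g : B →ₐ[K] K => spMap g) :=
    ⟨GrpSchLib.spMap_injective, fun t => GrpSchLib.exists_spMap t⟩
  refine ⟨Finite.of_surjective _ hF.2, ?_⟩
  rw [← Nat.card_eq_of_bijective _ hF, ← SmallGrp.finrank_eq_card]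

omit [IsAlgClosed K] in
theorem specMap_self : Spec.map (CommRingCat.ofHom (algebraMap K K)) = 𝟙 (Spec (CommRingCat.of K)) := by
  rw [Algebra.algebraMap_self, CommRingCat.ofHom_id, Spec.map_id]

/-- The base as a spectrum. -/
def unitIso : 𝟙_ (Over (Spec (CommRingCat.of K))) ≅ spO K K :=
  eqToIso (congrArg (fun f => Over.mk f) (specMap_self (K := K)).symm)

theorem natCard_points_of_iso {X : Over (Spec (CommRingCat.of K))} (B : Type u) [CommRing B] [Algebra K B]
    [IsFinite X.hom] [Etale X.hom] (e : spO K B ≅ X) {n : ℕ} (h : ∀ x, X.hom.finrank x = n) :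
    Finite (𝟙_ (Over (Spec (CommRingCat.of K))) ⟶ X) ∧
      Nat.card (𝟙_ (Over (Spec (CommRingCat.of K))) ⟶ X) = n := by
  have hw : e.hom.left ≫ X.hom = Spec.map (CommRingCat.ofHom (algebraMap K B)) := Over.w e.hom
  haveI : IsIso e.hom.left := inferInstanceAs (IsIso ((Over.forget _).map e.hom))
  haveI hfin : IsFinite (Spec.map (CommRingCat.ofHom (algebraMap K B))) := by rw [← hw]; infer_instance
  haveI het : Etale (Spec.map (CommRingCat.ofHom (algebraMap K B))) := by rw [← hw]; infer_instance
  haveI : Module.Finite K B := RingHom.finite_algebraMap.1 ((IsFinite.SpecMap_iff _).1 hfin)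
  haveI : Algebra.Etale K B := RingHom.etale_algebraMap.1 ((HasRingHomProperty.Spec_iff (P := @Etale)).1 het)
  have hn : Module.finrank K B = n := by
    have h1 := h (⊥ : PrimeSpectrum K)
    rw [← Scheme.Hom.finrank_comp_left_of_isIso e.hom.left, hw, Scheme.Hom.finrank_SpecMap_algebraMap,
      Module.rankAtStalk_eq_finrank_of_free] at h1
    exact h1
  obtain ⟨hf, hc⟩ := natCard_points_spO (K := K) B
  let E : (spO K K ⟶ spO K B) ≃ (𝟙_ (Over (Spec (CommRingCat.of K))) ⟶ X) :=
    Iso.homCongr unitIso.symm e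
  exact ⟨Finite.of_equiv _ E, (Nat.card_congr E).symm.trans (hc.trans hn)⟩

/-- A finite étale scheme has as many rational points as its rank. -/
theorem natCard_points (X : Over (Spec (CommRingCat.of K))) [IsFinite X.hom] [Etale X.hom] {n : ℕ}
    (h : ∀ x, X.hom.finrank x = n) :
    Finite (𝟙_ (Over (Spec (CommRingCat.of K))) ⟶ X) ∧
      Nat.card (𝟙_ (Over (Spec (CommRingCat.of K))) ⟶ X) = n := by
  haveI : IsAffine X.left := isAffine_of_isAffineHom X.hom
  letI : Algebra K Γ(X.left, ⊤) := (Spec.preimage (X.left.isoSpec.inv ≫ X.hom)).hom.toAlgebra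
  exact natCard_points_of_iso Γ(X.left, ⊤) (Over.isoMk X.left.isoSpec.symm (Spec.map_preimage _).symm) h

variable {A : Over (Spec (CommRingCat.of K))} [GrpObj A] [IsProper A.hom] [GeometricallyIntegral A.hom]

/-- The number of rational points killed by `n`. -/
theorem natCard_pow_eq_one {g : ℕ} (hg : topologicalKrullDim A.left = g) (n : ℕ) (hn : (n : K) ≠ 0) :
    Finite {t : 𝟙_ (Over (Spec (CommRingCat.of K))) ⟶ A // t ^ n = 1} ∧
      Nat.card {t : 𝟙_ (Over (Spec (CommRingCat.of K))) ⟶ A // t ^ n = 1} = n ^ (2 * g) := by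
  have hn1 : 1 ≤ n := Nat.one_le_iff_ne_zero.2 fun h => hn (by simp [h])
  obtain ⟨hfin, hflat, hrk⟩ := npow_spec hg n hn1
  haveI := etale_npow hg n hn
  set u := 𝟙 A ^ n with hu
  haveI : IsFinite u.left := hfin
  haveI : Etale u.left := ‹_›
  have hsq := GrpQuotLib.isPullback_left (IsPullback.of_hasPullback u η[A])
  have e : (pullback u η[A]).hom = hsq.isoPullback.hom ≫ pullback.snd u.left η[A].left := by
    rw [hsq.isoPullback_hom_snd, ← Over.w (pullback.snd u η[A])]
    exact Category.comp_id _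
  haveI : IsFinite (pullback u η[A]).hom := by rw [e]; infer_instance
  haveI : Etale (pullback u η[A]).hom := by rw [e]; infer_instance
  obtain ⟨hF, hc⟩ := natCard_points (pullback u η[A]) (n := n ^ (2 * g)) fun x => by
    rw [e, Scheme.Hom.finrank_comp_left_of_isIso, Scheme.Hom.finrank_pullback_snd, hrk]
  have hpow : ∀ t : 𝟙_ (Over (Spec (CommRingCat.of K))) ⟶ A, t ≫ u = t ^ n := fun t => by
    rw [hu, MonObj.comp_pow, Category.comp_id]
  have hη : η[A] = (1 : 𝟙_ (Over (Spec (CommRingCat.of K))) ⟶ A) := by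
    rw [Hom.one_def, toUnit_unique (toUnit _) (𝟙 _), Category.id_comp]
  let E : (𝟙_ (Over (Spec (CommRingCat.of K))) ⟶ pullback u η[A]) ≃
      {t : 𝟙_ (Over (Spec (CommRingCat.of K))) ⟶ A // t ^ n = 1} :=
    { toFun := fun s => ⟨s ≫ pullback.fst u η[A], by
        rw [← hpow, Category.assoc, pullback.condition]
        exact (congrArg (fun t => s ≫ pullback.snd u η[A] ≫ t) hη).trans (by rw [MonObj.comp_one, MonObj.comp_one])⟩
      invFun := fun t => pullback.lift t.1 (𝟙 _) (by rw [hpow, t.2, Category.id_comp, hη])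
      left_inv := fun s => pullback.hom_ext (by simp) (toUnit_unique _ _)
      right_inv := fun t => Subtype.ext (by simp) }
  exact ⟨Finite.of_equiv _ E, (Nat.card_congr E).symm.trans hc⟩

omit [IsProper A.hom] [GeometricallyIntegral A.hom] in
/-- A surjective power map is surjective on rational points. -/
theorem exists_pow_eq [LocallyOfFiniteType A.hom] [IsSeparated A.hom] (n : ℕ) [IsFinite (𝟙 A ^ n).left]
    [Flat (𝟙 A ^ n).left] [Surjective (𝟙 A ^ n).left] (a : 𝟙_ (Over (Spec (CommRingCat.of K))) ⟶ A) :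
    ∃ b : 𝟙_ (Over (Spec (CommRingCat.of K))) ⟶ A, b ^ n = a := by
  haveI := LocallyOfFiniteType.jacobsonSpace A.hom
  let pt : ↥(Spec (CommRingCat.of K)) := IsLocalRing.closedPoint K
  have ha : IsClosed ({a.left pt} : Set A.left) := by
    haveI : IsClosedImmersion a.left := by
      haveI : IsClosedImmersion (a.left ≫ A.hom) := by
        rw [Over.w a]; exact inferInstanceAs (IsClosedImmersion (𝟙 (Spec (CommRingCat.of K))))
      exact IsClosedImmersion.of_comp a.left A.hom
    have : Set.range a.left = {a.left pt} := Set.eq_singleton_iff_unique_mem.2 ⟨⟨pt, rfl⟩, by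
      rintro _ ⟨z, rfl⟩; exact congrArg a.left (Subsingleton.elim (α := PrimeSpectrum K) z pt)⟩
    exact this ▸ a.left.isClosedEmbedding.isClosed_range
  obtain ⟨x, hx⟩ := (𝟙 A ^ n).left.surjective (a.left pt)
  have hxc : IsClosed ({x} : Set A.left) :=
    GrpSchLib.isClosed_singleton_of_isGenLift (GrpSchLib.isGenLift_of_integral (𝟙 A ^ n).left) (by rw [hx]; exact ha)
  let b : 𝟙_ (Over (Spec (CommRingCat.of K))) ⟶ A :=
    Over.homMk _ ((pointEquivClosedPoint A.hom).symm ⟨x, hxc⟩).2
  have hb : b.left pt = x := congrArg Subtype.val ((pointEquivClosedPoint A.hom).apply_symm_apply ⟨x, hxc⟩)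
  refine ⟨b, ?_⟩
  rw [show b ^ n = b ≫ 𝟙 A ^ n by rw [MonObj.comp_pow, Category.comp_id]]
  have h := (pointEquivClosedPoint A.hom).injective
    (a₁ := ⟨(b ≫ 𝟙 A ^ n).left, Over.w _⟩) (a₂ := ⟨a.left, Over.w _⟩) (Subtype.ext (by
      show (b ≫ 𝟙 A ^ n).left pt = a.left pt
      rw [Over.comp_left, Scheme.Hom.comp_apply, hb, hx]))
  ext1
  exact congrArg Subtype.val h

end Groth.Agent.AVLib
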