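import Groth.Agent.AVLib.Etale
import Groth.Agent.AVLib.InsepDeg
import Groth.Agent.FieldExtLib.Imperfection

/-!
# The points of the kernel of multiplication by the characteristic
-/

set_option autoImplicit false
set_option backward.isDefEq.respectTransparency false

universe u

open CategoryTheory CategoryTheory.Limits MonoidalCategory CartesianMonoidalCategory MonObj AlgebraicGeometry
open scoped DualNumber

noncomputable section

namespace Groth.Agent.AVLib

open GrpSchLib (spO spMap)

attribute [local instance] Curv2.stalkAlgebra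

variable (K : Type u) [Field K]

/-- The structure map at a stalk. -/
theorem spec_stalkMap (X : Scheme.{u}) [X.Over (Spec (CommRingCat.of K))] (x : X) :
    Spec.map (CommRingCat.ofHom (algebraMap K (X.presheaf.stalk x))) =
      X.fromSpecStalk x ≫ (X ↘ Spec (CommRingCat.of K)) := by
  have hf : (X ↘ Spec (CommRingCat.of K)) =
      X.toSpecΓ ≫ Spec.map ((Scheme.ΓSpecIso (CommRingCat.of K)).inv ≫ (X ↘ Spec (CommRingCat.of K)).appTop) := by
    rw [Spec.map_comp, ← Scheme.toSpecΓ_naturality_assoc, ← SpecMap_ΓSpecIso_hom, ← Spec.map_comp,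
      Iso.inv_hom_id, Spec.map_id, Category.comp_id]
  have h : CommRingCat.ofHom (algebraMap K (X.presheaf.stalk x)) = ((Scheme.ΓSpecIso (CommRingCat.of K)).inv ≫
      (X ↘ Spec (CommRingCat.of K)).appTop) ≫ X.presheaf.germ ⊤ x trivial := by rfl
  rw [hf, h, Spec.map_comp, Spec.map_comp, Scheme.fromSpecStalk_toSpecΓ_assoc]

theorem essFiniteType_functionField (X : Scheme.{u}) [IsIntegral X] [X.Over (Spec (CommRingCat.of K))]
    [LocallyOfFiniteType (X ↘ Spec (CommRingCat.of K))] : Algebra.EssFiniteType K X.functionField := by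
  obtain ⟨_, ⟨V, hV, rfl⟩, hη, -⟩ :=
    X.isBasis_affineOpens.exists_subset_of_mem_open (Set.mem_univ (genericPoint X)) isOpen_univ
  have hV : IsAffineOpen V := hV
  haveI : Nonempty V := ⟨⟨_, hη⟩⟩
  let ψ : K →+* Γ(X, V) :=
    ((X ↘ Spec (CommRingCat.of K)).appLE ⊤ V le_top).hom.comp (Scheme.ΓSpecIso (CommRingCat.of K)).inv.hom
  letI := ψ.toAlgebra
  haveI : Algebra.FiniteType K Γ(X, V) := by
    refine RingHom.finiteType_algebraMap.1 ?_
    refine RingHom.FiniteType.comp ?_ (RingHom.FiniteType.of_surjective _
      (Scheme.ΓSpecIso (CommRingCat.of K)).commRingCatIsoToRingEquiv.symm.surjective)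
    exact (X ↘ Spec (CommRingCat.of K)).finiteType_appLE (isAffineOpen_top _) hV le_top
  haveI := functionField_isFractionRing_of_isAffineOpen X V hV
  haveI : IsScalarTower K Γ(X, V) X.functionField := .of_algebraMap_eq fun c => by
    show X.presheaf.germ ⊤ (genericPoint X) trivial (Coh.toGlobal (X ↘ Spec (CommRingCat.of K)) c) =
      X.presheaf.germ V (genericPoint X) hη (ψ c)
    simp only [ψ, RingHom.comp_apply, Scheme.Hom.appLE]
    exact (TopCat.Presheaf.germ_res_apply _ _ _ _ _).symm
  haveI : Algebra.EssFiniteType Γ(X, V) X.functionField :=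
    Algebra.EssFiniteType.of_isLocalization X.functionField (nonZeroDivisors Γ(X, V))
  exact Algebra.EssFiniteType.comp K Γ(X, V) X.functionField

variable {K}

/-- The deformation of the identity along a derivation. -/
def derHom {L : Type u} [Field L] [Algebra K L] (D : Derivation K L L) : L →ₐ[K] L[ε] where
  toFun a := TrivSqZeroExt.inl a + TrivSqZeroExt.inr (D a)
  map_one' := by ext <;> simp
  map_zero' := by ext <;> simp
  map_add' a b := by ext <;> simp [map_add]
  map_mul' a b := by ext <;> simp [mul_comm]
  commutes' c := by ext <;> simp [TrivSqZeroExt.algebraMap_eq_inl']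

theorem fst_derHom {L : Type u} [Field L] [Algebra K L] (D : Derivation K L L) (a : L) :
    TrivSqZeroExt.fst (derHom D a) = a := by simp [derHom]

theorem snd_derHom {L : Type u} [Field L] [Algebra K L] (D : Derivation K L L) (a : L) :
    TrivSqZeroExt.snd (derHom D a) = D a := by simp [derHom]

variable {A : Over (Spec (CommRingCat.of K))}

/-- Two points with the same image of a rational point agree. -/
theorem eq_comp_toUnit {Ω : Type u} [Field Ω] [Algebra K Ω] [IsSeparated A.hom]
    (e : 𝟙_ (Over (Spec (CommRingCat.of K))) ⟶ A) (x : spO K Ω ⟶ A)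
    (h : ∀ p, x.left p ∈ Set.range e.left) : x = toUnit _ ≫ e := by
  haveI : IsClosedImmersion e.left := by
    haveI : IsClosedImmersion (e.left ≫ A.hom) := by
      rw [Over.w e]; exact inferInstanceAs (IsClosedImmersion (𝟙 (Spec (CommRingCat.of K))))
    exact IsClosedImmersion.of_comp e.left A.hom
  haveI : IsReduced (spO K Ω).left := inferInstanceAs (IsReduced (Spec (CommRingCat.of Ω)))
  obtain ⟨l, hl⟩ := GrpHomLib.exists_lift_of_range e.left x.left (by rintro _ ⟨p, rfl⟩; exact h p)
  let l' : spO K Ω ⟶ 𝟙_ (Over (Spec (CommRingCat.of K))) := Over.homMk l (by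
    rw [← Over.w x, ← hl, Category.assoc, Over.w e])
  rw [← toUnit_unique l' (toUnit _)]
  ext1
  exact hl.symm

/-- A closed point has a point with values in any algebraically closed extension. -/
theorem exists_point [LocallyOfFiniteType A.hom] (Ω : Type u) [Field Ω] [Algebra K Ω] [IsAlgClosed Ω]
    (a : A.left) (ha : IsClosed ({a} : Set A.left)) : ∃ x : spO K Ω ⟶ A, ∀ p, x.left p = a := by
  letI : A.left.Over (Spec (CommRingCat.of K)) := ⟨A.hom⟩
  haveI : LocallyOfFiniteType (A.left ↘ Spec (CommRingCat.of K)) := ‹LocallyOfFiniteType A.hom›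
  letI := Curv2.resAlgebra K A.left a
  haveI : IsClosedImmersion (A.left.fromSpecResidueField a) :=
    isClosed_singleton_iff_isClosedImmersion.mp ha
  haveI : LocallyOfFiniteType (Spec.map (CommRingCat.ofHom (algebraMap K (A.left.residueField a)))) := by
    rw [show CommRingCat.ofHom (algebraMap K (A.left.residueField a)) =
      CommRingCat.ofHom (Curv2.resMap K A.left a) from rfl, GeomIrred.spec_resMap]
    infer_instance
  haveI : Algebra.FiniteType K (A.left.residueField a) :=
    RingHom.finiteType_algebraMap.mp ((HasRingHomProperty.Spec_iff (P := @LocallyOfFiniteType)).mp ‹_›)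
  haveI : Module.Finite K (A.left.residueField a) := finite_of_finite_type_of_isJacobsonRing K _
  let σ : A.left.residueField a →ₐ[K] Ω := IsAlgClosed.lift
  refine ⟨Over.homMk (Spec.map (CommRingCat.ofHom σ.toRingHom) ≫ A.left.fromSpecResidueField a) ?_, fun p => ?_⟩
  · show (_ ≫ _) ≫ (A.left ↘ Spec (CommRingCat.of K)) = Spec.map _
    rw [Category.assoc, ← GeomIrred.spec_resMap, ← Spec.map_comp, ← CommRingCat.ofHom_comp]
    exact congrArg (fun φ => Spec.map (CommRingCat.ofHom φ)) σ.comp_algebraMap
  · show (Spec.map _ ≫ A.left.fromSpecResidueField a) p = a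
    rw [Scheme.Hom.comp_apply]
    exact Scheme.fromSpecResidueField_apply _ _

variable [IsIntegral A.left]

variable (A) in
/-- The generic point as a point with values in the function field. -/
def genPt [A.left.Over (Spec (CommRingCat.of K))] (h : (A.left ↘ Spec (CommRingCat.of K)) = A.hom) :
    spO K A.left.functionField ⟶ A :=
  Over.homMk (A.left.fromSpecStalk (genericPoint A.left)) (by
    rw [← h]; exact (spec_stalkMap K A.left _).symm)

/-- A point over the generic point comes from a map of function fields. -/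
theorem exists_eq_spMap_genPt [A.left.Over (Spec (CommRingCat.of K))]
    (h : (A.left ↘ Spec (CommRingCat.of K)) = A.hom) {Ω : Type u} [Field Ω] [Algebra K Ω]
    (x : spO K Ω ⟶ A) (hx : x.left (IsLocalRing.closedPoint Ω) = genericPoint A.left) :
    ∃ τ : A.left.functionField →ₐ[K] Ω, x = spMap τ ≫ genPt A h := by
  have key : ∀ z : A.left, z = genericPoint A.left → ∀ ψ : A.left.presheaf.stalk z ⟶ CommRingCat.of Ω,
      ∃ τ : A.left.functionField ⟶ CommRingCat.of Ω,
        Spec.map ψ ≫ A.left.fromSpecStalk z = Spec.map τ ≫ A.left.fromSpecStalk (genericPoint A.left) := by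
    rintro z rfl ψ; exact ⟨ψ, rfl⟩
  obtain ⟨τ, hτ⟩ := key _ hx (Scheme.stalkClosedPointTo x.left)
  replace hτ := (Scheme.Spec_stalkClosedPointTo_fromSpecStalk x.left).symm.trans hτ
  have hc : CommRingCat.ofHom (algebraMap K A.left.functionField) ≫ τ = CommRingCat.ofHom (algebraMap K Ω) := by
    apply Spec.map_injective
    rw [Spec.map_comp, spec_stalkMap K A.left, ← Category.assoc, ← hτ, h]
    exact Over.w x
  refine ⟨{ τ.hom with commutes' := fun c => RingHom.congr_fun (congrArg CommRingCat.Hom.hom hc) c }, ?_⟩
  ext1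
  exact hτ

/-- The generic point and an endomorphism. -/
theorem genPt_comp [A.left.Over (Spec (CommRingCat.of K))] (h : (A.left ↘ Spec (CommRingCat.of K)) = A.hom)
    (u : A ⟶ A) (hη : u.left (genericPoint A.left) = genericPoint A.left)
    (hf : u.left ≫ (A.left ↘ Spec (CommRingCat.of K)) = A.left ↘ Spec (CommRingCat.of K)) :
    genPt A h ≫ u = spMap (Deg.ffHom u.left hη hf) ≫ genPt A h := by
  ext1
  show A.left.fromSpecStalk (genericPoint A.left) ≫ u.left =
    Spec.map (CommRingCat.ofHom (Deg.ffMap u.left hη)) ≫ A.left.fromSpecStalk (genericPoint A.left)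
  rw [show CommRingCat.ofHom (Deg.ffMap u.left hη) =
      (A.left.presheaf.stalkCongr (Inseparable.of_eq hη)).inv ≫ u.left.stalkMap (genericPoint A.left) from rfl,
    Spec.map_comp, Category.assoc, TopCat.Presheaf.stalkCongr_inv,
    Scheme.SpecMap_stalkSpecializes_fromSpecStalk, Scheme.SpecMap_stalkMap_fromSpecStalk]

variable [GrpObj A] [IsProper A.hom] [GeometricallyIntegral A.hom]

/-- The kernel of multiplication by the characteristic has at most `p ^ g` points. -/
theorem encard_npow_char_le (p : ℕ) [Fact p.Prime] [CharP K p] {g : ℕ} (hg : topologicalKrullDim A.left = g) :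
    Set.encard {a : A.left | (𝟙 A ^ p).left a = η[A].left (IsLocalRing.closedPoint K)} ≤ (p ^ g : ℕ) := by
  letI : A.left.Over (Spec (CommRingCat.of K)) := ⟨A.hom⟩
  have hover : (A.left ↘ Spec (CommRingCat.of K)) = A.hom := rfl
  haveI : IsProper (A.left ↘ Spec (CommRingCat.of K)) := ‹IsProper A.hom›
  haveI : GeometricallyReduced A.hom := inferInstance
  haveI : LocallyOfFinitePresentation A.hom := inferInstance
  haveI : Flat A.hom := inferInstance
  haveI : Smooth (A.left ↘ Spec (CommRingCat.of K)) := S7795.result A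
  haveI : IsCommMonObj A := isCommMonObj_of_isProper_of_geometricallyIntegral A
  haveI := essFiniteType_functionField K A.left
  have hp0 : (p : K) = 0 := CharP.cast_eq_zero K p
  have hp1 : 1 ≤ p := (Fact.out : p.Prime).one_le
  obtain ⟨hfin, hflat, hrk⟩ := npow_spec hg p hp1
  haveI := surjective_npow (A := A) p hp1
  set u := 𝟙 A ^ p with hu
  haveI : IsMonHom u := GrpSchLib.isMonHom_pow (𝟙 A) p
  haveI : IsFinite u.left := hfin
  haveI : Flat u.left := hflat
  have hη := Deg.genericPoint_fixed u.left
  have hf : u.left ≫ (A.left ↘ Spec (CommRingCat.of K)) = A.left ↘ Spec (CommRingCat.of K) := Over.w u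
  let φ := Deg.ffHom u.left hη hf
  let gen := genPt A hover
  have hgen : gen ≫ u = spMap φ ≫ gen := genPt_comp hover u hη hf
  haveI : Mono gen := (Over.forget _).mono_of_mono_map
    (show Mono gen.left from inferInstanceAs (Mono (A.left.fromSpecStalk (genericPoint A.left))))
  haveI : CharP A.left.functionField p := charP_of_injective_algebraMap (algebraMap K A.left.functionField).injective p
  -- derivations vanish on the image
  let x₀ : A.left := (MonObj.one (X := A)).left (IsLocalRing.closedPoint K)
  obtain ⟨U, hU, hx, -⟩ := A.left.isBasis_affineOpens.exists_subset_of_mem_open (Set.mem_univ x₀) isOpen_univ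
  obtain ⟨U, hUaff, rfl⟩ := hU
  have hUaff : IsAffineOpen U := hUaff
  let R : Type u := Γ(A.left, U)
  letI : Algebra K R := (Spec.preimage (hUaff.fromSpec ≫ A.hom)).hom.toAlgebra
  have hw : hUaff.fromSpec ≫ A.hom = Spec.map (CommRingCat.ofHom (algebraMap K R)) := by
    rw [← Spec.map_preimage (hUaff.fromSpec ≫ A.hom)]
    rfl
  let jA : spO K R ⟶ A := Over.homMk hUaff.fromSpec hw
  haveI : IsOpenImmersion jA.left := inferInstanceAs (IsOpenImmersion hUaff.fromSpec)
  let u₁ : spO K K ⟶ A := 1
  have hru : Set.range u₁.left ⊆ Set.range jA.left := by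
    rintro _ ⟨q, rfl⟩
    show _ ∈ Set.range hUaff.fromSpec
    rw [hUaff.range_fromSpec, show u₁.left q = x₀ from congrArg (MonObj.one (X := A)).left
      (@Subsingleton.elim _ (inferInstanceAs (Subsingleton (PrimeSpectrum K))) _ _)]
    exact hx
  obtain ⟨e, he'⟩ := GrpSchLib.exists_spMap (Over.homMk (IsOpenImmersion.lift jA.left u₁.left hru) (by
    rw [show (spO K R).hom = jA.left ≫ A.hom from (Over.w jA).symm, IsOpenImmersion.lift_fac_assoc]
    exact Over.w u₁) : spO K K ⟶ spO K R)
  have he : spMap e ≫ jA = 1 := by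
    rw [he']; ext1; exact IsOpenImmersion.lift_fac _ _ _
  have hD : ∀ D : Derivation K A.left.functionField A.left.functionField, ∀ x ∈ φ.fieldRange, D x = 0 := by
    rintro D _ ⟨f, rfl⟩
    let ψ := derHom D
    let red : (A.left.functionField)[ε] →ₐ[K] A.left.functionField := TrivSqZeroExt.fstHom K A.left.functionField A.left.functionField
    let z := spMap ψ ≫ gen
    let c := spMap (TrivSqZeroExt.inlAlgHom K A.left.functionField A.left.functionField) ≫ gen
    have hz : spMap red ≫ z = gen := by
      rw [← Category.assoc, ← GrpSchLib.spMap_comp, show red.comp ψ = AlgHom.id K A.left.functionField from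
        AlgHom.ext fun a => fst_derHom D a, GrpSchLib.spMap_id, Category.id_comp]
    have hc : spMap red ≫ c = gen := by
      rw [← Category.assoc, ← GrpSchLib.spMap_comp, show red.comp (TrivSqZeroExt.inlAlgHom K A.left.functionField A.left.functionField) = AlgHom.id K A.left.functionField from
        AlgHom.ext fun a => by simp [red], GrpSchLib.spMap_id, Category.id_comp]
    letI : CommGroup (spO K (A.left.functionField)[ε] ⟶ A) := Hom.commGroup
    have hT : spMap red ≫ (c⁻¹ * z) = 1 := by rw [MonObj.comp_mul, GrpObj.comp_inv, hz, hc, inv_mul_cancel]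
    have hTp := pow_eq_one_of_natCast jA e he (c⁻¹ * z) hT p (CharP.cast_eq_zero A.left.functionField p)
    rw [mul_pow, inv_pow, inv_mul_eq_one] at hTp
    have hpow : ∀ t : spO K (A.left.functionField)[ε] ⟶ A, t ^ p = t ≫ u := fun t => by
      rw [hu, MonObj.comp_pow, Category.comp_id]
    rw [hpow, hpow, Category.assoc, Category.assoc, hgen, ← Category.assoc, ← Category.assoc,
      cancel_mono, ← GrpSchLib.spMap_comp, ← GrpSchLib.spMap_comp] at hTp
    have := congrArg TrivSqZeroExt.snd (AlgHom.congr_fun (GrpSchLib.spMap_injective hTp) f)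
    refine (snd_derHom D _).symm.trans ?_
    exact this.symm.trans (TrivSqZeroExt.snd_inl _ _)
  -- the degrees
  have htr : Algebra.trdeg K A.left.functionField = (g : Cardinal.{u}) := Deg.trdeg_functionField K hg
  obtain ⟨-, hrank⟩ := FieldExtLib.finrank_kaehler_eq K A.left.functionField
  rw [htr, Cardinal.toNat_natCast] at hrank
  have hdeg : Module.finrank φ.fieldRange A.left.functionField = p ^ (2 * g) := by
    rw [← Deg.finrank_eq_degree K u.left hf (η[A].left (IsLocalRing.closedPoint K)), hrk]
  haveI : FiniteDimensional φ.fieldRange A.left.functionField :=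
    Module.finite_of_finrank_pos (by rw [hdeg]; exact pow_pos (Fact.out : p.Prime).pos _)
  have hsep : Field.finSepDegree φ.fieldRange A.left.functionField ≤ p ^ g := by
    have h1 := finSepDegree_mul_pow_le p φ.fieldRange hD
    rw [hdeg] at h1
    refine Nat.le_of_mul_le_mul_right ((Nat.mul_le_mul_left _ ?_).trans h1 |>.trans_eq ?_)
      (pow_pos (Fact.out : p.Prime).pos g)
    · exact Nat.pow_le_pow_right (Fact.out : p.Prime).pos (by omega)
    · rw [two_mul, pow_add]
  -- the geometric generic point
  let Ω := AlgebraicClosure A.left.functionField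
  letI : Algebra K Ω := ((algebraMap A.left.functionField Ω).comp (algebraMap K A.left.functionField)).toAlgebra
  let ιΩ : A.left.functionField →ₐ[K] Ω := { algebraMap A.left.functionField Ω with commutes' := fun _ => rfl }
  let e' : A.left.functionField ≃ₐ[K] φ.fieldRange := AlgEquiv.ofBijective φ.rangeRestrict
    ⟨fun a b h => φ.toRingHom.injective (congrArg Subtype.val h), φ.rangeRestrict_surjective⟩
  letI : Algebra φ.fieldRange Ω := (ιΩ.comp e'.symm.toAlgHom).toRingHom.toAlgebra
  have hφF : ∀ f, algebraMap φ.fieldRange Ω (e' f) = ιΩ f := fun f => congrArg ιΩ (e'.symm_apply_apply f)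
  let τ₀ : A.left.functionField →ₐ[φ.fieldRange] Ω := IsAlgClosed.lift
  let τ₁ : A.left.functionField →ₐ[K] Ω :=
    { τ₀.toRingHom with
      commutes' := fun c => by
        show τ₀ (algebraMap K A.left.functionField c) = algebraMap K Ω c
        rw [show algebraMap K A.left.functionField c = algebraMap φ.fieldRange A.left.functionField (algebraMap K φ.fieldRange c) from rfl, τ₀.commutes,
          show algebraMap K φ.fieldRange c = e' (algebraMap K A.left.functionField c) from (e'.commutes c).symm, hφF]
        exact ιΩ.commutes c }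
  have hτ₁ : τ₁.comp φ = ιΩ := AlgHom.ext fun f => by
    show τ₀ (algebraMap φ.fieldRange A.left.functionField (e' f)) = ιΩ f
    rw [τ₀.commutes, hφF]
  let y₀ : spO K Ω ⟶ A := spMap τ₁ ≫ gen
  have hy₀ : y₀ ≫ u = spMap ιΩ ≫ gen := by
    rw [Category.assoc, hgen, ← Category.assoc, ← GrpSchLib.spMap_comp, hτ₁]
  -- the map from the points to the embeddings
  set S := {a : A.left | u.left a = η[A].left (IsLocalRing.closedPoint K)} with hS
  have hgl := GrpSchLib.isGenLift_of_integral u.left
  have hcl : ∀ a ∈ S, IsClosed ({a} : Set A.left) := fun a ha =>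
    GrpSchLib.isClosed_singleton_of_isGenLift hgl (by rw [ha]; exact GrpSchLib.isClosed_unitPt)
  have hx : ∀ a : S, ∃ x : spO K Ω ⟶ A, ∀ q, x.left q = a.1 := fun a => exists_point Ω a.1 (hcl _ a.2)
  choose x hx using hx
  have hxu : ∀ a : S, x a ≫ u = 1 := fun a => by
    rw [Hom.one_def]
    refine eq_comp_toUnit _ _ fun q => ⟨IsLocalRing.closedPoint K, ?_⟩
    rw [Over.comp_left, Scheme.Hom.comp_apply, hx]
    exact a.2.symm
  have hemb : ∀ a : S, ∃ τ : A.left.functionField →ₐ[φ.fieldRange] Ω, ∃ τ' : A.left.functionField →ₐ[K] Ω,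
      (⇑τ' = ⇑τ) ∧ y₀ * x a = spMap τ' ≫ gen := by
    intro a
    have hval : (y₀ * x a) ≫ u = spMap ιΩ ≫ gen := by rw [MonObj.mul_comp, hy₀, hxu, _root_.mul_one]
    have hpt : u.left ((y₀ * x a).left (IsLocalRing.closedPoint Ω)) = genericPoint A.left := by
      rw [← Scheme.Hom.comp_apply, ← Over.comp_left, hval, Over.comp_left, Scheme.Hom.comp_apply]
      show A.left.fromSpecStalk (genericPoint A.left) _ = _
      exact (congrArg (A.left.fromSpecStalk (genericPoint A.left))
        (Subsingleton.elim (α := PrimeSpectrum A.left.functionField) _ _)).trans Scheme.fromSpecStalk_closedPoint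
    have hgenpt : (y₀ * x a).left (IsLocalRing.closedPoint Ω) = genericPoint A.left :=
      (hgl.eq_of_specializes (hpt.trans hη.symm)
        ((genericPoint_spec A.left).specializes trivial))
    obtain ⟨τ', hτ'⟩ := exists_eq_spMap_genPt hover _ hgenpt
    have hc : τ'.comp φ = ιΩ := by
      apply GrpSchLib.spMap_injective
      rw [← cancel_mono gen, GrpSchLib.spMap_comp, Category.assoc, ← hgen, ← Category.assoc, ← hτ', hval]
    refine ⟨{ τ'.toRingHom with commutes' := fun f => ?_ }, τ', rfl, hτ'⟩
    obtain ⟨f, rfl⟩ := e'.surjective f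
    rw [hφF]
    exact AlgHom.congr_fun hc f
  choose τ τ' hττ' hτ using hemb
  have hinj : Function.Injective τ := fun a b hab => by
    have h1 : τ' a = τ' b := DFunLike.coe_injective (by rw [hττ', hττ', hab])
    have h2 : y₀ * x a = y₀ * x b := by rw [hτ, hτ, h1]
    have h3 := congrArg (fun t : spO K Ω ⟶ A => t.left (IsLocalRing.closedPoint Ω)) (mul_left_cancel h2)
    exact Subtype.ext ((hx a _).symm.trans (h3.trans (hx b _)))
  haveI : Finite (A.left.functionField →ₐ[φ.fieldRange] Ω) := inferInstance
  haveI : Finite S := Finite.of_injective _ hinj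
  rw [Set.encard, ENat.card_eq_coe_natCard]
  refine ENat.natCast_le_natCast.2 ((Nat.card_le_card_of_injective _ hinj).trans ?_)
  rw [← Field.finSepDegree_eq_of_isAlgClosed φ.fieldRange A.left.functionField Ω]
  exact hsep

end Groth.Agent.AVLib
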