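import Groth.Agent.AVLib.Points
import Groth.Agent.AVLib.SepDeg
import Groth.Agent.AVLib.TateFree
import Groth.Prelude.Def_AbDual

/-!
# The orders of the groups of torsion points
-/

set_option autoImplicit false
set_option backward.isDefEq.respectTransparency false

universe u

open CategoryTheory CategoryTheory.Limits MonoidalCategory CartesianMonoidalCategory MonObj AlgebraicGeometry

noncomputable section

namespace Groth.Agent.AVLib

variable {K : Type u} [Field K] {A : Over (Spec (CommRingCat.of K))} [GrpObj A] [IsProper A.hom]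
  [GeometricallyIntegral A.hom]

/-- The rational points killed by the characteristic are at most `p ^ g`. -/
theorem natCard_pow_char [IsAlgClosed K] (p : ℕ) [Fact p.Prime] [CharP K p] {g : ℕ} (hg : topologicalKrullDim A.left = g) :
    Finite {t : 𝟙_ (Over (Spec (CommRingCat.of K))) ⟶ A // t ^ p = 1} ∧
      Nat.card {t : 𝟙_ (Over (Spec (CommRingCat.of K))) ⟶ A // t ^ p = 1} ≤ p ^ g := by
  haveI : IsIntegral A.left := GeometricallyIntegral.isIntegral_of_subsingleton A.hom
  haveI := LocallyOfFiniteType.jacobsonSpace A.hom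
  have hle := encard_npow_char_le (A := A) p hg
  set S := {a : A.left | (𝟙 A ^ p).left a = η[A].left (IsLocalRing.closedPoint K)}
  have hfin : S.Finite := Set.finite_of_encard_le_coe hle
  haveI := hfin.to_subtype
  let F : {t : 𝟙_ (Over (Spec (CommRingCat.of K))) ⟶ A // t ^ p = 1} → S := fun t =>
    ⟨t.1.left (IsLocalRing.closedPoint K), by
      show (𝟙 A ^ p).left (t.1.left (IsLocalRing.closedPoint K)) = _
      rw [← Scheme.Hom.comp_apply, ← Over.comp_left, show t.1 ≫ 𝟙 A ^ p = t.1 ^ p by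
        rw [MonObj.comp_pow, Category.comp_id], t.2]
      exact GrpSchLib.one_apply _ _⟩
  have hF : Function.Injective F := fun s t h => by
    have h' : s.1.left (IsLocalRing.closedPoint K) = t.1.left (IsLocalRing.closedPoint K) := congrArg Subtype.val h
    have h2 := (pointEquivClosedPoint A.hom).injective
      (a₁ := ⟨s.1.left, Over.w _⟩) (a₂ := ⟨t.1.left, Over.w _⟩) (Subtype.ext h')
    exact Subtype.ext (by ext1; exact congrArg Subtype.val h2)
  refine ⟨Finite.of_injective F hF, (Nat.card_le_card_of_injective F hF).trans ?_⟩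
  rw [show Nat.card S = S.ncard from Nat.card_coe_set_eq _]
  exact_mod_cast (hfin.cast_ncard_eq.le.trans hle)

section Group

variable {M : Type u} [CommGroup M]

/-- The torsion orders of a divisible group are multiplicative. -/
theorem natCard_torsion_mul (a b : ℕ) (hdiv : ∀ x : M, ∃ y, y ^ a = x) :
    Nat.card {x : M // x ^ (a * b) = 1} = Nat.card {x : M // x ^ a = 1} * Nat.card {x : M // x ^ b = 1} := by
  have hc : ∀ n, Nat.card {x : M // x ^ n = 1} = Nat.card (powMonoidHom n : M →* M).ker := fun n => rfl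
  rw [hc, hc, hc]
  let f : (powMonoidHom (a * b) : M →* M).ker →* (powMonoidHom b : M →* M).ker :=
    ((powMonoidHom a).comp (powMonoidHom (a * b) : M →* M).ker.subtype).codRestrict _ fun x => by
      show ((x : M) ^ a) ^ b = 1
      rw [← pow_mul]; exact x.2
  have hs : Function.Surjective f := fun y => by
    obtain ⟨x, hx⟩ := hdiv y
    exact ⟨⟨x, by show x ^ (a * b) = 1; rw [pow_mul, hx]; exact y.2⟩, Subtype.ext hx⟩
  let e : f.ker ≃ (powMonoidHom a : M →* M).ker :=
    { toFun := fun x => ⟨x.1.1, congrArg Subtype.val x.2⟩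
      invFun := fun x => ⟨⟨x.1, by show x.1 ^ (a * b) = 1; rw [pow_mul, show x.1 ^ a = 1 from x.2, one_pow]⟩,
        Subtype.ext x.2⟩ }
  rw [Subgroup.card_eq_card_quotient_mul_card_subgroup f.ker,
    Nat.card_congr (QuotientGroup.quotientKerEquivOfSurjective f hs).toEquiv, Nat.card_congr e, mul_comm]

end Group

/-- Multiplication by a positive integer is surjective on rational points. -/
theorem exists_npow_eq [IsAlgClosed K] (n : ℕ) (hn : 1 ≤ n) (a : 𝟙_ (Over (Spec (CommRingCat.of K))) ⟶ A) :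
    ∃ b : 𝟙_ (Over (Spec (CommRingCat.of K))) ⟶ A, b ^ n = a := by
  obtain ⟨g, hg⟩ := exists_dim (A := A)
  obtain ⟨h1, h2, -⟩ := npow_spec hg n hn
  haveI := h1
  haveI := h2
  haveI := surjective_npow (A := A) n hn
  exact exists_pow_eq n a

/-- The orders of the groups of torsion points. -/
theorem natCard_torsion [IsAlgClosed K] [IsCommMonObj A] {g : ℕ} (hg : topologicalKrullDim A.left = g) :
    ∀ n : ℕ, 0 < n →
      Nat.card {t : 𝟙_ (Over (Spec (CommRingCat.of K))) ⟶ A // t ^ n = 1} ∣ n ^ (2 * g) ∧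
      (0 < g → (n : K) = 0 → Nat.card {t : 𝟙_ (Over (Spec (CommRingCat.of K))) ⟶ A // t ^ n = 1} < n ^ (2 * g)) := by
  intro n
  induction n using induction_on_primes with
  | zero => simp
  | one =>
    intro _
    haveI : Subsingleton {t : 𝟙_ (Over (Spec (CommRingCat.of K))) ⟶ A // t ^ 1 = 1} :=
      ⟨fun s t => Subtype.ext ((pow_one s.1).symm.trans (s.2.trans (t.2.symm.trans (pow_one t.1))))⟩
    haveI : Nonempty {t : 𝟙_ (Over (Spec (CommRingCat.of K))) ⟶ A // t ^ 1 = 1} := ⟨⟨1, one_pow _⟩⟩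
    rw [Nat.card_unique]
    exact ⟨one_dvd _, fun _ h => absurd h (by simp)⟩
  | prime_mul p a hp ih =>
    intro hpa
    have ha : 0 < a := Nat.pos_of_mul_pos_left hpa
    obtain ⟨ih1, ih2⟩ := ih ha
    rw [natCard_torsion_mul p a (exists_npow_eq p hp.one_le), mul_pow]
    haveI := Fact.mk hp
    by_cases h0 : (p : K) = 0
    · haveI : CharP K p := (CharP.charP_iff_prime_eq_zero hp).2 h0
      obtain ⟨hfin, hle⟩ := natCard_pow_char (A := A) p hg
      obtain ⟨m, hm⟩ : ∃ m, Nat.card {t : 𝟙_ (Over (Spec (CommRingCat.of K))) ⟶ A // t ^ p = 1} = p ^ m := by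
        haveI : Finite (powMonoidHom p : (𝟙_ (Over (Spec (CommRingCat.of K))) ⟶ A) →* _).ker := hfin
        have hP : IsPGroup p (powMonoidHom p : (𝟙_ (Over (Spec (CommRingCat.of K))) ⟶ A) →* _).ker := fun t => ⟨1, by rw [pow_one]; exact Subtype.ext t.2⟩
        obtain ⟨m, hm⟩ := IsPGroup.iff_card.1 hP
        exact ⟨m, hm⟩
      have hmg : m ≤ g := (Nat.pow_le_pow_iff_right hp.one_lt).1 (hm ▸ hle)
      have hd : Nat.card {t : 𝟙_ (Over (Spec (CommRingCat.of K))) ⟶ A // t ^ p = 1} ∣ p ^ (2 * g) :=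
        hm ▸ pow_dvd_pow p (by omega)
      refine ⟨mul_dvd_mul hd ih1, fun hg0 _ => ?_⟩
      refine Nat.mul_lt_mul_of_lt_of_le ?_ (Nat.le_of_dvd (pow_pos ha _) ih1) (pow_pos ha _)
      rw [hm]
      exact Nat.pow_lt_pow_right hp.one_lt (by omega)
    · rw [(natCard_pow_eq_one hg p h0).2]
      refine ⟨mul_dvd_mul_left _ ih1, fun hg0 hz => ?_⟩
      rw [Nat.cast_mul, mul_eq_zero] at hz
      exact Nat.mul_lt_mul_of_pos_left (ih2 hg0 (hz.resolve_left h0)) (pow_pos hp.pos _)

/-- Postcomposition with a power of the identity. -/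
theorem pow_eq_comp {B T : Over (Spec (CommRingCat.of K))} [GrpObj B] (f : T ⟶ B) (n : ℕ) : f ^ n = f ≫ 𝟙 B ^ n := by
  rw [MonObj.comp_pow, Category.comp_id]

/-- Homomorphisms out of an abelian variety have no torsion. -/
theorem eq_one_of_pow_eq_one {B : Over (Spec (CommRingCat.of K))} [GrpObj B] (f : A ⟶ B) [IsMonHom f]
    (n : ℕ) (hn : 1 ≤ n) (h : f ^ n = 1) : f = 1 := by
  obtain ⟨g, hg⟩ := exists_dim (A := A)
  obtain ⟨-, h2, -⟩ := npow_spec hg n hn
  haveI := h2
  haveI := surjective_npow (A := A) n hn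
  haveI : Epi (𝟙 A ^ n) := (Over.forget _).epi_of_epi_map (Flat.epi_of_flat_of_surjective (𝟙 A ^ n).left)
  rw [← cancel_epi (𝟙 A ^ n), MonObj.comp_one, MonObj.pow_comp, Category.id_comp, h]

end Groth.Agent.AVLib
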