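import Groth.Agent.AVLib.AmpleCrit
import Groth.Agent.AVLib.Torsion
import Groth.Agent.AVLib.Const
import Groth.Agent.PicProjLib.Pic
import Groth.Agent.CompleteCurve.ProjSpace

/-!
# Maps from projective spaces to abelian varieties are constant
-/

set_option autoImplicit false
set_option backward.isDefEq.respectTransparency false
set_option linter.style.haveILetI false

universe u

open CategoryTheory CategoryTheory.Limits MonoidalCategory CartesianMonoidalCategory MonObj AlgebraicGeometry
open TopologicalSpace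
open Groth.Agent.PicLib Groth.Agent.AmpleLib Groth.Agent.PicProjLib

noncomputable section

namespace Groth.Agent.AVLib

variable {K : Type u} [Field K]

theorem pic_proj_zero (c : Pic (CohB1.ProjSpace 0 K)) : c = 1 := by
  obtain ⟨L, hL, rfl⟩ := exists_cls c
  obtain ⟨d, g, h1, h2⟩ := exists_deg hL
  refine (cls_eq_one hL).2 (triv_of_hasDeg_zero ⟨g, h1, fun i => ?_⟩)
  obtain rfl : i = 0 := Subsingleton.elim (α := Fin 1) i 0
  obtain ⟨r, hr⟩ := h2 0
  exact ⟨r, by simpa [t_self] using hr⟩

/-- The degree of projective space, backwards. -/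
def twistHom (n : ℕ) (K : Type u) [Field K] : Multiplicative ℤ →* Pic (CohB1.ProjSpace n K) :=
  MonoidHom.mk' (fun d => cls (isInvertible_twist (n := n) (R := K) d.toAdd))
    (fun _ _ => (cls_twist_mul _ _).symm)

theorem twistHom_surjective (n : ℕ) : Function.Surjective (twistHom n K) := fun c => by
  obtain ⟨L, hL, rfl⟩ := exists_cls c
  obtain ⟨d, hd⟩ := exists_iso_twist hL
  exact ⟨Multiplicative.ofAdd d, ((cls_eq_cls hL _).2 hd).symm⟩

theorem twistHom_eq_one {n : ℕ} (hn : n ≠ 0) {d : Multiplicative ℤ} (h : twistHom n K d = 1) : d.toAdd = 0 := by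
  obtain ⟨e⟩ := (cls_eq_one _).1 h
  exact eq_zero_of_hasDeg_structureModule hn ((hasDeg_twist hn _).of_iso e)

theorem pic_proj_torsion_free {n : ℕ} {c : Pic (CohB1.ProjSpace n K)} {m : ℕ} (hm : 0 < m) (h : c ^ m = 1) :
    c = 1 := by
  rcases eq_or_ne n 0 with rfl | hn
  · exact pic_proj_zero c
  obtain ⟨d, rfl⟩ := twistHom_surjective n c
  rw [← map_pow] at h
  have h1 := twistHom_eq_one hn h
  rw [toAdd_pow, smul_eq_zero] at h1
  rcases h1 with h1 | h1
  · omega
  · rw [show d = 1 from Multiplicative.toAdd.injective h1, map_one]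

theorem pic_proj_no_divisible {n : ℕ} {c : Pic (CohB1.ProjSpace n K)} (h : ∀ m : ℕ, 0 < m → ∃ e, e ^ m = c) :
    c = 1 := by
  rcases eq_or_ne n 0 with rfl | hn
  · exact pic_proj_zero c
  obtain ⟨d, rfl⟩ := twistHom_surjective n c
  obtain ⟨e, he⟩ := h (d.toAdd.natAbs + 1) (Nat.succ_pos _)
  obtain ⟨e, rfl⟩ := twistHom_surjective n e
  have h1 : twistHom n K (e ^ (d.toAdd.natAbs + 1) / d) = 1 := by rw [map_div, map_pow, he, div_self']
  have h2 := twistHom_eq_one hn h1
  rw [toAdd_div, toAdd_pow, sub_eq_zero, nsmul_eq_mul] at h2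
  have h3 : e.toAdd = 0 := by
    by_contra h3
    have h4 := congrArg Int.natAbs h2
    rw [Int.natAbs_mul, Int.natAbs_natCast] at h4
    have h5 : 0 < e.toAdd.natAbs := Int.natAbs_pos.2 h3
    have h6 := Nat.le_mul_of_pos_right ((Multiplicative.toAdd d).natAbs + 1) h5
    omega
  rw [show d = 1 from Multiplicative.toAdd.injective (by simpa [h3] using h2.symm), map_one]

variable [IsAlgClosed K] {n : ℕ} {A : Over (Spec (CommRingCat.of K))} [GrpObj A] [IsProper A.hom]
  [GeometricallyIntegral A.hom]

/-- Projective space as an object over the field. -/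
abbrev projOver (n : ℕ) (K : Type u) [Field K] : Over (Spec (CommRingCat.of K)) := Over.mk (CohB1.ProjSpace.toSpec n K)

/-- Translations do not change classes on projective space. -/
theorem pull_comp_trR (ψ : projOver n K ⟶ A) (c : Pic A.left) (b : 𝟙_ (Over (Spec (CommRingCat.of K))) ⟶ A) :
    pull (ψ ≫ trR b).left c = pull ψ.left c := by
  let f : (𝟙_ (Over (Spec (CommRingCat.of K))) ⟶ A) →* Pic (projOver n K).left :=
    MonoidHom.mk' (fun a => pull (ψ ≫ trR a).left c / pull ψ.left c) (fun a a' => by
      have h := congrArg (pull ψ.left) (square c a a')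
      simp only [map_mul, pull_left_comp] at h
      rw [div_mul_div_comm, ← h, mul_div_mul_right_eq_div])
  refine div_eq_one.1 (pic_proj_no_divisible fun m hm => ?_ : f b = 1)
  obtain ⟨a, ha⟩ := exists_npow_eq (A := A) m hm b
  exact ⟨f a, (map_pow f a m).symm.trans (congrArg f ha)⟩

/-- The class of a class times its symmetric is trivial on projective space. -/
theorem pull_mul_inv_eq_one (φ : projOver n K ⟶ A) (c : Pic A.left) :
    pull φ.left (c * pull ((𝟙 A)⁻¹).left c) = 1 := by
  haveI := isCommMonObj (A := A)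
  haveI : IsProper (projOver n K).hom := inferInstanceAs (IsProper (CohB1.ProjSpace.toSpec n K))
  haveI : IsIntegral (projOver n K).left := isIntegral_projSpace (n := n) (R := K)
  haveI : GeometricallyIntegral (projOver n K).hom := geometricallyIntegral_of_isIntegral _
  haveI : JacobsonSpace (projOver n K).left := LocallyOfFiniteType.jacobsonSpace (projOver n K).hom
  obtain ⟨z, -, hz⟩ := nonempty_inter_closedPoints (Z := (Set.univ : Set (projOver n K).left)) Set.univ_nonempty
    isClosed_univ.isLocallyClosed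
  obtain ⟨v₀, -⟩ := exists_ratPt (mem_closedPoints_iff.1 hz)
  let h : (projOver n K) ⊗ (projOver n K) ⟶ A := (fst (projOver n K) (projOver n K) ≫ φ) * (snd (projOver n K) (projOver n K) ≫ φ)⁻¹
  have key : pull h.left c / (pull (fst (projOver n K) (projOver n K) ≫ φ).left c * pull (snd (projOver n K) (projOver n K) ≫ φ⁻¹).left c) = 1 := by
    refine eq_one_of_slices v₀ _ (fun w => ?_) ?_
    · have e : lift (𝟙 (projOver n K)) (toUnit (projOver n K) ≫ w) ≫ h = φ ≫ trR (w ≫ φ⁻¹) := by
        simp only [h, MonObj.comp_mul, GrpObj.comp_inv, lift_fst_assoc, lift_snd_assoc, Category.id_comp,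
          Category.assoc, comp_trR]
      rw [map_div, map_mul, pull_left_comp, pull_left_comp, pull_left_comp, e, pull_comp_trR, lift_fst_assoc,
        lift_snd_assoc, Category.id_comp, Category.assoc, pull_const, _root_.mul_one, div_self']
    · letI : CommGroup ((projOver n K) ⟶ A) := Hom.commGroup
      have e : lift (toUnit (projOver n K) ≫ v₀) (𝟙 (projOver n K)) ≫ h = φ⁻¹ ≫ trR (v₀ ≫ φ) := by
        simp only [h, MonObj.comp_mul, GrpObj.comp_inv, lift_fst_assoc, lift_snd_assoc, Category.id_comp,
          Category.assoc, comp_trR]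
        exact _root_.mul_comm _ _
      rw [map_div, map_mul, pull_left_comp, pull_left_comp, pull_left_comp, e, pull_comp_trR, lift_fst_assoc,
        lift_snd_assoc, Category.id_comp, Category.assoc, pull_const, _root_.one_mul, div_self']
  have hd := congrArg (pull (lift (𝟙 (projOver n K)) (𝟙 (projOver n K))).left) key
  have e0 : lift (𝟙 (projOver n K)) (𝟙 (projOver n K)) ≫ h = toUnit (projOver n K) ≫ η[A] := by
    rw [← Hom.one_def]
    simp only [h, MonObj.comp_mul, GrpObj.comp_inv, lift_fst_assoc, lift_snd_assoc, Category.id_comp, mul_inv_cancel]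
  rw [map_div, map_mul, map_one, pull_left_comp, pull_left_comp, pull_left_comp, e0, pull_const, lift_fst_assoc,
    lift_snd_assoc, Category.id_comp, Category.id_comp, one_div, inv_eq_one] at hd
  rw [map_mul, pull_left_comp, GrpObj.comp_inv, Category.comp_id]
  exact hd

/-- Morphisms from projective space to an abelian variety are constant. -/
theorem exists_eq_const (φ : projOver n K ⟶ A) :
    ∃ a : 𝟙_ (Over (Spec (CommRingCat.of K))) ⟶ A, φ = toUnit (projOver n K) ≫ a := by
  haveI : IsProper (projOver n K).hom := inferInstanceAs (IsProper (CohB1.ProjSpace.toSpec n K))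
  haveI : IsIntegral (projOver n K).left := isIntegral_projSpace (n := n) (R := K)
  haveI : GeometricallyIntegral (projOver n K).hom := geometricallyIntegral_of_isIntegral _
  haveI : JacobsonSpace (projOver n K).left := LocallyOfFiniteType.jacobsonSpace (projOver n K).hom
  obtain ⟨z, -, hz⟩ := nonempty_inter_closedPoints (Z := (Set.univ : Set (projOver n K).left)) Set.univ_nonempty
    isClosed_univ.isLocallyClosed
  obtain ⟨v₀, hv₀⟩ := exists_ratPt (mem_closedPoints_iff.1 hz)
  obtain ⟨L, hL⟩ := exists_isAmple K A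
  haveI : IsIso ((𝟙 A)⁻¹ : A ⟶ A).left := inferInstanceAs (IsIso ((Over.forget _).map ((𝟙 A)⁻¹ : A ⟶ A)))
  have hM : CohB1.IsAmple _ := AmpleLib.isAmple_tensor hL (isAmple_pullback ((𝟙 A)⁻¹ : A ⟶ A).left hL)
  have h1 : pull φ.left (cls hM.1) = 1 := by
    rw [show cls hM.1 = cls hL.1 * pull ((𝟙 A)⁻¹).left (cls hL.1) from rfl]
    exact pull_mul_inv_eq_one φ _
  obtain ⟨m, s, hs, hU⟩ := hM.2.2 (φ.left z)
  have hP := isInvertible_tensorPow hM.1 (m + 1)
  obtain ⟨e⟩ := (cls_eq_one (isInvertible_pullback φ.left hP)).1 (by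
    rw [← pull_cls φ.left hP, show cls hP = cls hM.1 ^ (m + 1) from cls_tensorPow hM.1 _, map_pow, h1, one_pow])
  have htop := genLocus_eq_top_of_iso (projOver n K).hom e.symm (pullS φ.left s)
    ⟨z, by rw [genLocus_pullS φ.left hP s]; exact hs⟩
  rw [genLocus_pullS φ.left hP s] at htop
  set U := CohB1.genLocus _ s
  haveI : IsAffine (U : Scheme.{u}) := hU
  have hr : Set.range φ.left ⊆ Set.range U.ι := by
    rintro _ ⟨x, rfl⟩
    rw [Scheme.Opens.range_ι]
    exact htop.ge (Set.mem_univ x)
  let f : (projOver n K).left ⟶ (U : Scheme.{u}) := IsOpenImmersion.lift U.ι φ.left hr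
  refine ⟨v₀ ≫ φ, Over.OverMorphism.ext ?_⟩
  show φ.left = (projOver n K).hom ≫ v₀.left ≫ φ.left
  rw [← IsOpenImmersion.lift_fac U.ι φ.left hr, ← Category.assoc v₀.left, ← Category.assoc (projOver n K).hom]
  refine congrArg (· ≫ U.ι) (ext_of_isAffine ?_)
  rw [Scheme.Hom.comp_appTop, Scheme.Hom.comp_appTop]
  have hb : Function.Bijective (projOver n K).hom.appTop.hom := by
    have h2 := bijective_appTop (projOver n K).hom
    rw [CommRingCat.hom_comp, RingHom.coe_comp] at h2
    exact (Function.Bijective.of_comp_iff _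
      (ConcreteCategory.bijective_of_isIso (Scheme.ΓSpecIso (CommRingCat.of K)).inv)).1 h2
  have hv : v₀.left ≫ (projOver n K).hom = 𝟙 _ := Over.w v₀
  refine CommRingCat.hom_ext (RingHom.ext fun r => ?_)
  obtain ⟨q, hq⟩ := hb.2 (f.appTop.hom r)
  show f.appTop.hom r = (projOver n K).hom.appTop.hom (v₀.left.appTop.hom (f.appTop.hom r))
  rw [← hq]
  congr 1
  have h3 := congrArg (fun g => g.appTop.hom q) hv
  simp only [Scheme.Hom.comp_appTop, CommRingCat.hom_comp, RingHom.comp_apply] at h3
  exact h3.symm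

end Groth.Agent.AVLib
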