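import Groth.Agent.AVLib.Isogeny
import Groth.Agent.CubeLib.Seesaw
import Groth.Agent.CubeLib.Artin

/-!
# The seesaw principle on products, tested on rational points
-/

set_option autoImplicit false
set_option backward.isDefEq.respectTransparency false

universe u

open CategoryTheory CategoryTheory.Limits MonoidalCategory CartesianMonoidalCategory MonObj AlgebraicGeometry
open Groth.Agent.PicLib

noncomputable section

namespace Groth.Agent.AVLib

variable {K : Type u} [Field K] [IsAlgClosed K]

/-- A class trivial on all slices over rational points and along a section is trivial. -/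
theorem eq_one_of_slices {V W : Over (Spec (CommRingCat.of K))} [IsProper V.hom] [GeometricallyIntegral V.hom]
    [LocallyOfFiniteType W.hom] [IsReduced W.left]
    (v₀ : 𝟙_ (Over (Spec (CommRingCat.of K))) ⟶ V) (c : Pic (V ⊗ W).left)
    (h1 : ∀ w : 𝟙_ (Over (Spec (CommRingCat.of K))) ⟶ W, pull (lift (𝟙 V) (toUnit V ≫ w)).left c = 1)
    (h2 : pull (lift (toUnit W ≫ v₀) (𝟙 W)).left c = 1) : c = 1 := by
  obtain ⟨L, hL, rfl⟩ := exists_cls c
  simp only [pull_cls, cls_eq_one, ← CubeLib.triv_iff] at h1 h2 ⊢
  let f := (snd V W).left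
  haveI : Subsingleton ↥(Spec (CommRingCat.of K)) := inferInstanceAs (Subsingleton (PrimeSpectrum K))
  haveI : IsProper f := MorphismProperty.pullback_snd (P := @IsProper) V.hom W.hom inferInstance
  haveI : Flat V.hom := inferInstance
  haveI : Flat f := MorphismProperty.pullback_snd (P := @Flat) V.hom W.hom inferInstance
  haveI : GeometricallyIntegral f :=
    MorphismProperty.pullback_snd (P := @GeometricallyIntegral) V.hom W.hom inferInstance
  haveI : IsLocallyNoetherian W.left := LocallyOfFiniteType.isLocallyNoetherian W.hom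
  haveI := LocallyOfFiniteType.jacobsonSpace W.hom
  refine CubeLib.triv_of_dense_fibres f (lift (toUnit W ≫ v₀) (𝟙 W)).left
    (congrArg CommaMorphism.left (lift_snd (toUnit W ≫ v₀) (𝟙 W))) hL
    (S := closedPoints W.left) (dense_iff_closure_eq.2 closure_closedPoints) (fun y hy => ?_) h2
  let w : 𝟙_ (Over (Spec (CommRingCat.of K))) ⟶ W :=
    Over.homMk (pointOfClosedPoint W.hom y hy) (pointOfClosedPoint_comp W.hom y hy)
  have hw : (W.left.fromSpecResidueField y ≫ W.hom) ≫ w.left = W.left.fromSpecResidueField y := by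
    show _ ≫ Spec.map _ ≫ _ = _
    rw [← SpecMap_residueFieldIsoBase_inv W.hom y hy, ← Spec.map_comp_assoc, Iso.hom_inv_id, Spec.map_id,
      Category.id_comp]
  let F : Over (Spec (CommRingCat.of K)) := Over.mk (f.fiberι y ≫ (V ⊗ W).hom)
  let j : F ⟶ V ⊗ W := Over.homMk (f.fiberι y) rfl
  have e : j = (j ≫ fst V W) ≫ lift (𝟙 V) (toUnit V ≫ w) := by
    refine CartesianMonoidalCategory.hom_ext _ _ ?_ ?_
    · rw [Category.assoc, lift_fst, Category.comp_id]
    · rw [Category.assoc, lift_snd, ← Category.assoc, toUnit_unique ((j ≫ fst V W) ≫ toUnit V) (toUnit F)]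
      ext1
      show f.fiberι y ≫ f = F.hom ≫ w.left
      have h : f.fiberι y ≫ f = f.fiberToSpecResidueField y ≫ W.left.fromSpecResidueField y := pullback.condition
      rw [h, show F.hom = f.fiberι y ≫ f ≫ W.hom from by rw [show f ≫ W.hom = _ from Over.w (snd V W)]; rfl,
        ← Category.assoc (f.fiberι y), h, Category.assoc, Category.assoc]
      rw [← Category.assoc (W.left.fromSpecResidueField y), hw]
  exact (CubeLib.triv_pullback_comp_iff (j ≫ fst V W).left (lift (𝟙 V) (toUnit V ≫ w)).left
    (congrArg CommaMorphism.left e).symm).1 ((h1 w).pullback _ (AmpleLib.isInvertible_pullback _ hL))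

end Groth.Agent.AVLib
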