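import Groth.Agent.AVLib.Torsion
import Groth.Agent.AVLib.IdSub

/-!
# The kernel of a homomorphism and the Tate module
-/

set_option autoImplicit false
set_option backward.isDefEq.respectTransparency false

universe u

open CategoryTheory CategoryTheory.Limits MonoidalCategory CartesianMonoidalCategory MonObj AlgebraicGeometry

noncomputable section

namespace Groth.Agent.AVLib

open GrpSchLib (unitPt idComp)

variable {K : Type u} [Field K]

theorem dim_eq_zero_of_idComp {N : Over (Spec (CommRingCat.of K))} [GrpObj N] [LocallyOfFiniteType N.hom]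
    (h : idComp N = {unitPt N}) : topologicalKrullDim N.left = 0 := by
  letI : PartialOrder N.left := specializationOrder _
  rw [← GrpSchLib.ringKrullDim_stalk_eq_topologicalKrullDim N _ GrpSchLib.isClosed_unitPt,
    ringKrullDim_stalk_eq_coheight]
  have hmax : IsMax (unitPt N) := fun b hb => by
    have hb' : b ∈ idComp N := GrpSchLib.mem_idComp_of_specializes hb
    rw [h, Set.mem_singleton_iff] at hb'
    exact hb'.le
  rw [Order.coheight_eq_zero.2 hmax]
  rfl

/-- A point killed by a power of a prime whose small multiple lies in a subgroup has a small prime power multiple there. -/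
theorem pow_prime_pow_mem {M : Type u} [CommGroup M] (H : Subgroup M) (x : M) {l : ℕ} (hl : l.Prime) {k m c : ℕ}
    (hm1 : 1 ≤ m) (hmc : m ≤ c) (hx : x ^ l ^ k = 1) (hm : x ^ m ∈ H) : x ^ l ^ c ∈ H := by
  have h1 : x ^ Nat.gcd (l ^ k) m ∈ H := by
    have := Nat.gcd_eq_gcd_ab (l ^ k) m
    rw [← zpow_natCast, this, zpow_add, zpow_mul, zpow_mul, zpow_natCast, zpow_natCast, hx, one_zpow, _root_.one_mul]
    exact H.zpow_mem hm _
  obtain ⟨j, hj, hje⟩ := (Nat.dvd_prime_pow hl).1 (Nat.gcd_dvd_left (l ^ k) m)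
  have hjm : l ^ j ≤ c := (Nat.le_of_dvd hm1 (hje ▸ Nat.gcd_dvd_right (l ^ k) m)).trans hmc
  have hjc : j ≤ c := (Nat.lt_pow_self hl.one_lt).le.trans hjm
  rw [show l ^ c = l ^ j * l ^ (c - j) by rw [← pow_add, Nat.add_sub_cancel' hjc], pow_mul, ← hje]
  exact H.pow_mem h1 _

section Comm

variable [IsAlgClosed K] (l : ℕ) [hl : Fact l.Prime]
  {A B : Over (Spec (CommRingCat.of K))} [GrpObj A] [IsProper A.hom] [GrpObj B] [IsProper B.hom]

/-- Data on the kernel of a homomorphism. -/
theorem exists_kernel (φ : A ⟶ B) [IsMonHom φ] :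
    ∃ (N : Over (Spec (CommRingCat.of K))) (_ : GrpObj N) (a : N ⟶ A), IsMonHom a ∧ IsClosedImmersion a.left ∧
      IsProper N.hom ∧ (∀ {T : Over (Spec (CommRingCat.of K))} (x : T ⟶ A), x ≫ φ = 1 → ∃ z : T ⟶ N, z ≫ a = x) ∧
      a ≫ φ = 1 ∧ Nonempty (N.left ≅ pullback φ.left η[B].left) := by
  obtain ⟨hN, ha⟩ := GrpQuotLib.exists_grpObj_kernel φ
  letI := hN
  let a := pullback.fst φ η[B]
  haveI : IsClosedImmersion η[B].left := GrpSchLib.isClosedImmersion_unit
  have hsq := GrpQuotLib.isPullback_left (IsPullback.of_hasPullback φ η[B])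
  haveI : IsClosedImmersion a.left := MorphismProperty.of_isPullback hsq.flip ‹IsClosedImmersion η[B].left›
  haveI : IsProper (pullback φ η[B]).hom := by rw [← Over.w a]; infer_instance
  refine ⟨_, hN, a, ha, inferInstance, inferInstance, fun {T} x hx => ⟨pullback.lift x (toUnit T)
    (by rw [hx, Hom.one_def]), pullback.lift_fst _ _ _⟩, ?_, ⟨hsq.isoPullback⟩⟩
  rw [pullback.condition, Hom.one_def, toUnit_unique (pullback.snd φ η[B]) (toUnit _)]

variable [GeometricallyIntegral A.hom] [GeometricallyIntegral B.hom] [IsCommMonObj A] [IsCommMonObj B]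

/-- Every torsion point extends to an element of the Tate module. -/
theorem exists_tate_lift (n : ℕ) (y : Additive (𝟙_ (Over (Spec (CommRingCat.of K))) ⟶ A)) (hy : l ^ n • y = 0) :
    ∃ x : AbDual.TateMod A l (𝟙_ (Over (Spec (CommRingCat.of K)))),
      AbDual.TateMod.component A l (𝟙_ (Over (Spec (CommRingCat.of K)))) n x = y := by
  choose dv hdv using fun z : Additive (𝟙_ (Over (Spec (CommRingCat.of K))) ⟶ A) =>
    (exists_npow_eq (A := A) l hl.out.one_le z.toMul)
  let z : ℕ → Additive (𝟙_ (Over (Spec (CommRingCat.of K))) ⟶ A) := fun k =>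
    Nat.rec y (fun _ w => Additive.ofMul (dv w)) k
  have hz : ∀ k, l • z (k + 1) = z k := fun k => hdv (z k)
  have hzk : ∀ k, l ^ k • z k = y := fun k => by
    induction k with
    | zero => simp [z]
    | succ k ih => rw [pow_succ, mul_nsmul', hz, ih]
  refine ⟨⟨fun k => l ^ n • z k, ⟨fun k => ?_, fun k => ?_⟩⟩, hzk n⟩
  · rw [smul_comm, hzk, hy]
  · rw [smul_comm, hz]

/-- A homomorphism zero on the Tate module is trivial. -/
theorem eq_one_of_tateMap_eq_zero (hl0 : (l : K) ≠ 0) (φ : A ⟶ B) [IsMonHom φ]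
    (h : AbDual.tateMapₗ (l := l) (T := 𝟙_ (Over (Spec (CommRingCat.of K)))) φ = 0) : φ = 1 := by
  obtain ⟨N, hN, a, ha, haci, hNp, hlift, haφ, -⟩ := exists_kernel φ
  letI := hN
  haveI := ha
  haveI := haci
  haveI := hNp
  obtain ⟨N₀, hN₀, i, hi, hici, hN₀p, hN₀g, hr⟩ := exists_idSubgroup (G := N)
  letI := hN₀
  haveI := hi
  haveI := hici
  haveI := hN₀p
  haveI := hN₀g
  haveI : IsCommMonObj N₀ := isCommMonObj_of_isProper_of_geometricallyIntegral N₀
  let j : N₀ ⟶ A := i ≫ a
  haveI : IsClosedImmersion j.left := inferInstanceAs (IsClosedImmersion (i.left ≫ a.left))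
  haveI : Mono j := (Over.forget _).mono_of_mono_map (show Mono j.left from inferInstance)
  haveI : IsMonHom j := inferInstanceAs (IsMonHom (i ≫ a))
  obtain ⟨g, hg⟩ := exists_dim (A := A)
  obtain ⟨d, hd⟩ := exists_dim (A := N₀)
  obtain ⟨c, -, hc⟩ := exists_pow_mem_idComp (G := N)
  letI : CommGroup (𝟙_ (Over (Spec (CommRingCat.of K))) ⟶ A) := Hom.commGroup
  letI : CommGroup (𝟙_ (Over (Spec (CommRingCat.of K))) ⟶ N₀) := Hom.commGroup
  let jh : (𝟙_ (Over (Spec (CommRingCat.of K))) ⟶ N₀) →* (𝟙_ (Over (Spec (CommRingCat.of K))) ⟶ A) :=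
    { toFun := fun t => t ≫ j
      map_one' := MonObj.one_comp j
      map_mul' := fun s t => MonObj.mul_comp s t j }
  have hmem : ∀ (n : ℕ) (y : 𝟙_ (Over (Spec (CommRingCat.of K))) ⟶ A), y ^ l ^ n = 1 → y ∈ jh.range := by
    intro n y hy
    obtain ⟨y', hy'⟩ := exists_npow_eq (A := A) (l ^ c) (Nat.one_le_pow _ _ hl.out.pos) y
    have hy'k : y' ^ l ^ (c + n) = 1 := by rw [pow_add, pow_mul, hy', hy]
    obtain ⟨x, hx⟩ := exists_tate_lift l (c + n) (Additive.ofMul y') hy'k
    have hφ : y' ≫ φ = 1 := by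
      have h1 := congrArg (fun f => (AbDual.TateMod.component B l _ (c + n) (f x)).toMul) h
      rw [show y' = (AbDual.TateMod.component A l _ (c + n) x).toMul by rw [hx]; rfl]
      exact h1
    obtain ⟨p, hp⟩ := hlift y' hφ
    obtain ⟨m, hm1, hmc, hm⟩ := hc p
    have hm' : y' ^ m ∈ jh.range := by
      haveI : AlgebraicGeometry.IsReduced (𝟙_ (Over (Spec (CommRingCat.of K)))).left :=
        inferInstanceAs (AlgebraicGeometry.IsReduced (Spec (CommRingCat.of K)))
      obtain ⟨q, hq⟩ := GrpHomLib.exists_lift_of_range i.left (p ^ m).left (by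
        rintro _ ⟨t, rfl⟩
        rw [hr, Subsingleton.elim (α := PrimeSpectrum K) t (IsLocalRing.closedPoint K)]
        exact hm)
      refine ⟨Over.homMk q (by rw [← Over.w i, ← Category.assoc, hq, Over.w]), ?_⟩
      have e : (Over.homMk q (by rw [← Over.w i, ← Category.assoc, hq, Over.w]) :
          𝟙_ (Over (Spec (CommRingCat.of K))) ⟶ N₀) ≫ i = p ^ m := by ext1; exact hq
      show _ ≫ i ≫ a = _
      rw [← Category.assoc, e, MonObj.pow_comp, hp]
    have := pow_prime_pow_mem jh.range y' hl.out hm1 hmc hy'k hm'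
    rwa [hy'] at this
  have hcard : ∀ n : ℕ, (l ^ n) ^ (2 * g) ≤ (l ^ n) ^ (2 * d) := fun n => by
    have hn0 : ((l ^ n : ℕ) : K) ≠ 0 := by rw [Nat.cast_pow]; exact pow_ne_zero _ hl0
    obtain ⟨hf₀, hc₀⟩ := natCard_pow_eq_one hd (l ^ n) hn0
    obtain ⟨hf, hcA⟩ := natCard_pow_eq_one hg (l ^ n) hn0
    rw [← hc₀, ← hcA]
    haveI := hf₀
    choose f hf' using fun y : {t : 𝟙_ (Over (Spec (CommRingCat.of K))) ⟶ A // t ^ l ^ n = 1} => hmem n y.1 y.2
    refine Nat.card_le_card_of_injective (fun y => (⟨f y, (cancel_mono j).1 ?_⟩ :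
      {t : 𝟙_ (Over (Spec (CommRingCat.of K))) ⟶ N₀ // t ^ l ^ n = 1})) fun y y' e => Subtype.ext ?_
    · have e1 : (f y) ≫ j = y.1 := hf' y
      rw [MonObj.pow_comp, MonObj.one_comp, e1, y.2]
    · exact (hf' y).symm.trans ((congrArg (fun t => jh t.1) e).trans (hf' y'))
  have hgd : g ≤ d := by
    have h1 := hcard 1
    rw [pow_one, Nat.pow_le_pow_iff_right hl.out.one_lt] at h1
    omega
  haveI : IsIntegral A.left := GeometricallyIntegral.isIntegral_of_subsingleton A.hom
  have hdg : d ≤ g := by
    have hle := j.left.isClosedEmbedding.isInducing.topologicalKrullDim_le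
    rw [hd, hg] at hle
    exact_mod_cast hle
  have hdim : topologicalKrullDim N₀.left = topologicalKrullDim A.left := by rw [hd, hg, le_antisymm hdg hgd]
  haveI := surjective_of_isFinite j hdim
  haveI := isIso_of_isClosedImmersion_of_surjective j.left
  haveI : IsIso j := by
    haveI : IsIso ((Over.forget _).map j) := ‹IsIso j.left›
    exact isIso_of_reflects_iso j (Over.forget _)
  rw [← cancel_epi j, MonObj.comp_one, Category.assoc, haφ, MonObj.comp_one]

omit [IsProper A.hom] [IsProper B.hom] [GeometricallyIntegral A.hom] [GeometricallyIntegral B.hom] [IsAlgClosed K] in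
theorem subsingleton_tateMod {C T : Over (Spec (CommRingCat.of K))} [GrpObj C] [IsCommMonObj C] (j : C ⟶ A) [Mono j]
    [IsMonHom j] (φ : A ⟶ B) [IsMonHom φ] (hjφ : j ≫ φ = 1)
    (hinj : Function.Injective (AbDual.tateMapₗ (l := l) (T := T) φ)) : Subsingleton (AbDual.TateMod C l T) := by
  suffices h : ∀ z : AbDual.TateMod C l T, z = 0 from ⟨fun x y => (h x).trans (h y).symm⟩
  intro z
  have h0 : AbDual.tateMapₗ (l := l) φ (AbDual.tateMapₗ (l := l) j z) = 0 := by
    refine AbDual.TateMod.ext fun m => ?_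
    apply Additive.toMul.injective
    show (((z : ℕ → Additive (T ⟶ C)) m).toMul ≫ j) ≫ φ = 1
    rw [Category.assoc, hjφ, MonObj.comp_one]
  have h1 := hinj (h0.trans (map_zero _).symm)
  refine AbDual.TateMod.ext fun n => ?_
  apply Additive.toMul.injective
  rw [← cancel_mono j]
  have h2 : ((z : ℕ → Additive (T ⟶ C)) n).toMul ≫ j = 1 :=
    congrArg (fun w => (AbDual.TateMod.component A l T n w).toMul) h1
  rw [h2]
  exact (MonObj.one_comp j).symm

/-- Finiteness is injectivity on the Tate module. -/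
theorem isFinite_iff_injective_tateMap (hl0 : (l : K) ≠ 0) (φ : A ⟶ B) [IsMonHom φ] :
    IsFinite φ.left ↔ Function.Injective (AbDual.tateMapₗ (l := l) (T := 𝟙_ (Over (Spec (CommRingCat.of K)))) φ) := by
  obtain ⟨N, hN, a, ha, haci, hNp, hlift, haφ, ⟨eN⟩⟩ := exists_kernel φ
  letI := hN
  haveI := ha
  haveI := haci
  haveI := hNp
  haveI := isProper_hom φ
  haveI : IsClosedImmersion η[B].left := GrpSchLib.isClosedImmersion_unit
  haveI : CompactSpace ↥(𝟙_ (Over (Spec (CommRingCat.of K)))).left :=
    inferInstanceAs (CompactSpace ↥(Spec (CommRingCat.of K)))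
  haveI : IsLocallyNoetherian N.left := LocallyOfFiniteType.isLocallyNoetherian N.hom
  haveI : CompactSpace N.left := QuasiCompact.compactSpace_of_compactSpace N.hom
  haveI := LocallyOfFiniteType.jacobsonSpace N.hom
  constructor
  · intro hfin
    rw [← LinearMap.ker_eq_bot, Submodule.eq_bot_iff]
    intro x hx
    haveI : Finite N.left := by
      haveI : Subsingleton ↥(Spec (CommRingCat.of K)) := inferInstanceAs (Subsingleton (PrimeSpectrum K))
      haveI : Finite ↥(pullback φ.left η[B].left) := by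
        refine Set.finite_univ_iff.1 ?_
        have h1 := (pullback.snd φ.left η[B].left).finite_preimage_singleton (IsLocalRing.closedPoint K)
        convert h1
        ext w
        simpa using Subsingleton.elim (α := PrimeSpectrum K) _ _
      exact Finite.of_equiv _ (Scheme.homeoOfIso eN).symm.toEquiv
    haveI : Finite (𝟙_ (Over (Spec (CommRingCat.of K))) ⟶ N) :=
      Finite.of_injective (fun t => t.left (IsLocalRing.closedPoint K)) fun s t h => by
        have h2 := (pointEquivClosedPoint N.hom).injective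
          (a₁ := ⟨s.left, Over.w _⟩) (a₂ := ⟨t.left, Over.w _⟩) (Subtype.ext h)
        ext1
        exact congrArg Subtype.val h2
    set c := Nat.card (𝟙_ (Over (Spec (CommRingCat.of K))) ⟶ N)
    letI : CommGroup (𝟙_ (Over (Spec (CommRingCat.of K))) ⟶ A) := Hom.commGroup
    refine AbDual.TateMod.ext fun n => ?_
    let y := (AbDual.TateMod.component A l _ (n + c) x).toMul
    have hy : y ≫ φ = 1 :=
      congrArg (fun f => (AbDual.TateMod.component B l _ (n + c) f).toMul) (LinearMap.mem_ker.1 hx)
    obtain ⟨p, hp⟩ := hlift y hy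
    have hyc : y ^ c = 1 := by rw [← hp, ← MonObj.pow_comp, pow_card_eq_one', MonObj.one_comp]
    have hord : y ^ l ^ (n + c) = 1 := AbDual.TateMod.component_mem x (n + c)
    have h1 : y ^ l ^ c ∈ (⊥ : Subgroup (𝟙_ (Over (Spec (CommRingCat.of K))) ⟶ A)) :=
      pow_prime_pow_mem ⊥ y hl.out Nat.card_pos le_rfl hord (Subgroup.mem_bot.2 hyc)
    have h2 : ∀ e : ℕ, l ^ e • AbDual.TateMod.component A l _ (n + e) x = AbDual.TateMod.component A l _ n x := by
      intro e
      induction e with
      | zero => simp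
      | succ e ih => rw [pow_succ, mul_nsmul', show n + (e + 1) = (n + e) + 1 from rfl,
          show l • AbDual.TateMod.component A l _ (n + e + 1) x = AbDual.TateMod.component A l _ (n + e) x from x.compat _, ih]
    show AbDual.TateMod.component A l _ n x = 0
    rw [← h2 c]
    exact Subgroup.mem_bot.1 h1
  · intro hinj
    obtain ⟨N₀, hN₀, i, hi, hici, hN₀p, hN₀g, hr⟩ := exists_idSubgroup (G := N)
    letI := hN₀
    haveI := hi
    haveI := hici
    haveI := hN₀p
    haveI := hN₀g
    haveI : IsCommMonObj N₀ := isCommMonObj_of_isProper_of_geometricallyIntegral N₀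
    let j : N₀ ⟶ A := i ≫ a
    haveI : IsClosedImmersion j.left := inferInstanceAs (IsClosedImmersion (i.left ≫ a.left))
    haveI : Mono j := (Over.forget _).mono_of_mono_map (show Mono j.left from inferInstance)
    haveI : IsMonHom j := inferInstanceAs (IsMonHom (i ≫ a))
    obtain ⟨d, hd⟩ := exists_dim (A := N₀)
    have hd0 : d = 0 := by
      obtain ⟨hfree, hfinite, hrank⟩ := free_tateMod (A := N₀) (T := 𝟙_ (Over (Spec (CommRingCat.of K)))) (l := l) (r := 2 * d)
        (fun x => by
          obtain ⟨b, hb⟩ := exists_npow_eq (A := N₀) l hl.out.one_le x.toMul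
          exact ⟨Additive.ofMul b, hb⟩)
        (fun n => (Nat.card_congr (Equiv.subtypeEquiv Additive.toMul fun _ => Iff.rfl)).trans
          ((natCard_pow_eq_one (A := N₀) hd (l ^ n) (by rw [Nat.cast_pow]; exact pow_ne_zero _ hl0)).2))
      haveI : Subsingleton (AbDual.TateMod N₀ l (𝟙_ (Over (Spec (CommRingCat.of K))))) :=
        subsingleton_tateMod l j φ (by rw [Category.assoc, haφ, MonObj.comp_one]) hinj
      rw [Module.finrank_zero_of_subsingleton] at hrank
      omega
    have hNdim : topologicalKrullDim N.left = 0 := by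
      refine dim_eq_zero_of_idComp ?_
      rw [← hr]
      haveI : Finite N₀.left := by
        haveI : IsLocallyNoetherian N₀.left := LocallyOfFiniteType.isLocallyNoetherian N₀.hom
        haveI : CompactSpace N₀.left := QuasiCompact.compactSpace_of_compactSpace N₀.hom
        exact finite_of_dim_zero _ (by rw [hd, hd0]; exact le_rfl)
      haveI : T1Space N₀.left := ASp.t1Space_of_topologicalKrullDim_le_zero _ (by rw [hd, hd0]; exact le_rfl)
      haveI : DiscreteTopology N₀.left := DiscreteTopology.of_finite_of_isClosed_singleton fun x => isClosed_singleton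
      haveI : IsIntegral N₀.left := GeometricallyIntegral.isIntegral_of_subsingleton N₀.hom
      haveI : Subsingleton N₀.left := PreconnectedSpace.trivial_of_discrete
      refine Set.eq_singleton_iff_unique_mem.2 ⟨hr.ge mem_irreducibleComponent, ?_⟩
      rintro _ ⟨z, rfl⟩
      have h1 : (η[N₀] ≫ i).left (IsLocalRing.closedPoint K) = unitPt N := by rw [IsMonHom.one_hom]
      rw [← h1, Over.comp_left, Scheme.Hom.comp_apply]
      exact congrArg i.left (Subsingleton.elim _ _)
    haveI : Finite ↥(pullback φ.left η[B].left) := by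
      haveI : Finite N.left := finite_of_dim_zero _ hNdim.le
      exact Finite.of_equiv _ (Scheme.homeoOfIso eN).toEquiv
    haveI hk : LocallyQuasiFinite (pullback.snd φ.left η[B].left) :=
      LocallyQuasiFinite.of_finite_preimage_singleton _ fun _ => Set.toFinite _
    haveI : LocallyQuasiFinite φ.left :=
      GrpHomLib.of_kernel φ @LocallyQuasiFinite (fun j hj => inferInstance) hk
    exact IsFinite.of_isProper_of_locallyQuasiFinite φ.left

end Comm

end Groth.Agent.AVLib
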