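import Groth.Agent.AVLib.Defect
import Groth.Agent.AVLib.Invariant
import Groth.Agent.AVLib.Const
import Groth.Agent.AVLib.IdSub
import Groth.Agent.AVLib.TateKer

/-!
# The stabiliser of an ample class is finite
-/

set_option autoImplicit false
set_option backward.isDefEq.respectTransparency false

universe u

open CategoryTheory CategoryTheory.Limits MonoidalCategory CartesianMonoidalCategory MonObj AlgebraicGeometry
open Groth.Agent.PicLib

noncomputable section

namespace Groth.Agent.AVLib

open GrpSchLib (unitPt idComp)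

variable {K : Type u} [Field K] [IsAlgClosed K]

/-- A class is trivial on a fibre over a rational point iff it is trivial on the slice. -/
theorem triv_fiber_iff_slice {V W : Over (Spec (CommRingCat.of K))} [LocallyOfFiniteType W.hom]
    {P : (V ⊗ W).left.Modules} (hP : PicF.IsInvertible P) (w : 𝟙_ (Over (Spec (CommRingCat.of K))) ⟶ W) :
    CubeLib.Triv ((Scheme.Modules.pullback ((snd V W).left.fiberι (w.left (IsLocalRing.closedPoint K)))).obj P) ↔
      pull (lift (𝟙 V) (toUnit V ≫ w)).left (cls hP) = 1 := by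
  rw [pull_cls, cls_eq_one, ← CubeLib.triv_iff]
  let f := (snd V W).left
  let y := w.left (IsLocalRing.closedPoint K)
  have hy : IsClosed ({y} : Set W.left) :=
    ((pointEquivClosedPoint W.hom) ⟨w.left, Over.w w⟩).2
  have hw0 : w.left = pointOfClosedPoint W.hom y hy :=
    congrArg Subtype.val ((pointEquivClosedPoint W.hom).symm_apply_apply ⟨w.left, Over.w w⟩).symm
  let s := lift (𝟙 V) (toUnit V ≫ w)
  constructor
  · intro h
    let r : V.left ⟶ f.fiber y := pullback.lift s.left
      ((toUnit V).left ≫ Spec.map (residueFieldIsoBase W.hom y hy).hom) (by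
        show (s ≫ snd V W).left = _
        rw [lift_snd, Over.comp_left, Category.assoc, hw0]
        rfl)
    exact (CubeLib.triv_pullback_comp_iff r (f.fiberι y) (pullback.lift_fst _ _ _)).1
      (h.pullback r (AmpleLib.isInvertible_pullback _ hP))
  · intro h
    have hw : (W.left.fromSpecResidueField y ≫ W.hom) ≫ w.left = W.left.fromSpecResidueField y := by
      rw [hw0]
      show _ ≫ Spec.map _ ≫ _ = _
      rw [← SpecMap_residueFieldIsoBase_inv W.hom y hy, ← Spec.map_comp_assoc, Iso.hom_inv_id, Spec.map_id,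
        Category.id_comp]
    let F : Over (Spec (CommRingCat.of K)) := Over.mk (f.fiberι y ≫ (V ⊗ W).hom)
    let j : F ⟶ V ⊗ W := Over.homMk (f.fiberι y) rfl
    have e : j = (j ≫ fst V W) ≫ s := by
      refine CartesianMonoidalCategory.hom_ext _ _ ?_ ?_
      · rw [Category.assoc, lift_fst, Category.comp_id]
      · rw [Category.assoc, lift_snd, ← Category.assoc, toUnit_unique ((j ≫ fst V W) ≫ toUnit V) (toUnit F)]
        ext1
        show f.fiberι y ≫ f = F.hom ≫ w.left
        have h : f.fiberι y ≫ f = f.fiberToSpecResidueField y ≫ W.left.fromSpecResidueField y := pullback.condition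
        rw [h, show F.hom = f.fiberι y ≫ f ≫ W.hom from by rw [show f ≫ W.hom = _ from Over.w (snd V W)]; rfl,
          ← Category.assoc (f.fiberι y), h, Category.assoc, Category.assoc]
        rw [← Category.assoc (W.left.fromSpecResidueField y), hw]
    exact (CubeLib.triv_pullback_comp_iff (j ≫ fst V W).left s.left
      (congrArg CommaMorphism.left e).symm).1 (h.pullback _ (AmpleLib.isInvertible_pullback _ hP))

variable {A : Over (Spec (CommRingCat.of K))} [GrpObj A] [IsProper A.hom] [GeometricallyIntegral A.hom]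

theorem slice_defect (c : Pic A.left) (a : 𝟙_ (Over (Spec (CommRingCat.of K))) ⟶ A) :
    pull (lift (𝟙 A) (toUnit A ≫ a)).left (defect c (fst A A) (snd A A)) = 1 ↔ pull (trR a).left c = c := by
  rw [pull_defect, lift_fst, lift_snd, defect_eq_one_iff, pull_const, _root_.mul_one, Over.id_left, pull_id]
  rfl

/-- The points fixing a class are the rational points of a closed set. -/
theorem exists_closed_stab (c : Pic A.left) : ∃ C : Set A.left, IsClosed C ∧
    ∀ a : 𝟙_ (Over (Spec (CommRingCat.of K))) ⟶ A,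
      a.left (IsLocalRing.closedPoint K) ∈ C ↔ pull (trR a).left c = c := by
  obtain ⟨P, hP, hPc⟩ := exists_cls (defect c (fst A A) (snd A A))
  obtain ⟨N, hN, ⟨e⟩⟩ := AmpleEmb.exists_isInverseOf hP
  let f := (snd A A).left
  haveI : Subsingleton ↥(Spec (CommRingCat.of K)) := inferInstanceAs (Subsingleton (PrimeSpectrum K))
  haveI : IsLocallyNoetherian A.left := LocallyOfFiniteType.isLocallyNoetherian A.hom
  haveI : IsProper f := MorphismProperty.pullback_snd (P := @IsProper) A.hom A.hom inferInstance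
  haveI : Flat A.hom := inferInstance
  haveI : Flat f := MorphismProperty.pullback_snd (P := @Flat) A.hom A.hom inferInstance
  haveI : GeometricallyIntegral f :=
    MorphismProperty.pullback_snd (P := @GeometricallyIntegral) A.hom A.hom inferInstance
  have hk := CubeLib.bijective_fiber_of_section f (lift (toUnit A ≫ η[A]) (𝟙 A)).left
    (congrArg CommaMorphism.left (lift_snd (toUnit A ≫ η[A]) (𝟙 A)))
  refine ⟨{y | 0 < CohIII.fiberRank f P 0 y} ∩ {y | 0 < CohIII.fiberRank f N 0 y},
    (CubeLib.isClosed_fiberRank_pos f hP).inter (CubeLib.isClosed_fiberRank_pos f hN), fun a => ?_⟩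
  rw [← slice_defect c a, ← hPc, ← triv_fiber_iff_slice hP a]
  constructor
  · rintro ⟨h1, h2⟩
    exact CubeLib.triv_fiber_of_fiberRank_pos f hP hN e _ h1 h2
  · intro h
    obtain ⟨i⟩ := CubeLib.triv_iff.1 h
    let y := a.left (IsLocalRing.closedPoint K)
    have hN' : CubeLib.Triv ((Scheme.Modules.pullback (f.fiberι y)).obj N) := CubeLib.triv_iff.2
      ⟨(AmpleLib.unitL _).symm ≪≫ AmpleLib.tIso i.symm (Iso.refl _) ≪≫ (AmpleLib.pullTensor _ P N).symm ≪≫
        (Scheme.Modules.pullback _).mapIso e ≪≫ AmpleLib.pullO _⟩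
    exact ⟨Nat.one_pos.trans_eq (CubeLib.fiberRank_eq_one_of_triv f y (hk y) h).symm,
      Nat.one_pos.trans_eq (CubeLib.fiberRank_eq_one_of_triv f y (hk y) hN').symm⟩

/-- The points fixing a class form a subgroup. -/
theorem stab_mul {c : Pic A.left} {a b : 𝟙_ (Over (Spec (CommRingCat.of K))) ⟶ A}
    (ha : pull (trR a).left c = c) (hb : pull (trR b).left c = c) : pull (trR (a * b)).left c = c := by
  have h := square c a b
  rw [ha, hb] at h
  exact mul_right_cancel h

theorem stab_inv {c : Pic A.left} {a : 𝟙_ (Over (Spec (CommRingCat.of K))) ⟶ A}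
    (ha : pull (trR a).left c = c) : pull (trR a⁻¹).left c = c := by
  have h := square c a a⁻¹
  rw [mul_inv_cancel, ha, show trR (1 : 𝟙_ _ ⟶ A) = 𝟙 A by rw [trR, MonObj.comp_one, _root_.mul_one],
    Over.id_left, pull_id] at h
  exact (mul_left_cancel h).symm

/-- An abelian variety with a translation invariant ample class is a point. -/
theorem finite_of_invariant_ample {L : A.left.Modules} (hL : CohB1.IsAmple L)
    (hinv : ∀ a : 𝟙_ (Over (Spec (CommRingCat.of K))) ⟶ A, pull (trR a).left (cls hL.1) = cls hL.1) :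
    IsFinite A.hom := by
  haveI : IsIso ((𝟙 A)⁻¹ : A ⟶ A).left := inferInstanceAs (IsIso ((Over.forget _).map ((𝟙 A)⁻¹ : A ⟶ A)))
  have h := AmpleLib.isAmple_tensor hL (AmpleLib.isAmple_pullback ((𝟙 A)⁻¹ : A ⟶ A).left hL)
  refine isFinite_of_isAmple_unit A.hom ?_
  have h1 : cls h.1 = 1 := by
    show cls hL.1 * pull ((𝟙 A)⁻¹).left (cls hL.1) = 1
    have h2 := pull_mul_of_invariant hinv (𝟙 A) (𝟙 A)⁻¹
    rw [mul_inv_cancel, pull_one, Over.id_left, pull_id] at h2
    exact h2.symm
  obtain ⟨e⟩ := (cls_eq_one _).1 h1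
  exact AmpleLib.isAmple_of_iso e h

/-- The stabiliser of an ample class is finite. -/
theorem finite_stab {L : A.left.Modules} (hL : CohB1.IsAmple L) :
    {a : 𝟙_ (Over (Spec (CommRingCat.of K))) ⟶ A | pull (trR a).left (cls hL.1) = cls hL.1}.Finite := by
  let pt : ↥(Spec (CommRingCat.of K)) := IsLocalRing.closedPoint K
  obtain ⟨C₀, hC₀, hmem⟩ := exists_closed_stab (cls hL.1)
  haveI := LocallyOfFiniteType.jacobsonSpace A.hom
  haveI : LocallyOfFiniteType (A ⊗ A).hom := by
    rw [← Over.w (snd A A)]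
    haveI : LocallyOfFiniteType (snd A A).left :=
      MorphismProperty.pullback_snd (P := @LocallyOfFiniteType) A.hom A.hom inferInstance
    infer_instance
  haveI := LocallyOfFiniteType.jacobsonSpace (A ⊗ A).hom
  have hpt : ∀ {Z : Over (Spec (CommRingCat.of K))} [LocallyOfFiniteType Z.hom] {z : Z.left},
      IsClosed ({z} : Set Z.left) → ∃ q : 𝟙_ (Over (Spec (CommRingCat.of K))) ⟶ Z, q.left pt = z := by
    intro Z _ z hz
    obtain ⟨⟨q, hq⟩, hqz⟩ := (pointEquivClosedPoint Z.hom).surjective ⟨z, hz⟩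
    exact ⟨Over.homMk q hq, congrArg Subtype.val hqz⟩
  have hsub : ∀ {Z : Over (Spec (CommRingCat.of K))} [LocallyOfFiniteType Z.hom] [JacobsonSpace Z.left]
      (S S' : Set Z.left), IsClosed S → IsClosed S' →
      (∀ q : 𝟙_ (Over (Spec (CommRingCat.of K))) ⟶ Z, q.left pt ∈ S → q.left pt ∈ S') → S ⊆ S' := by
    intro Z _ _ S S' hS hS' h
    rw [← JacobsonSpace.closure_inter_closedPoints_eq_closure hS.isLocallyClosed |>.trans hS.closure_eq]
    refine hS'.closure_subset_iff.2 fun z hz => ?_
    obtain ⟨q, rfl⟩ := hpt hz.2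
    exact h q hz.1
  have hmul2 : (fst A A).left ⁻¹' C₀ ∩ (snd A A).left ⁻¹' C₀ ⊆ (fst A A * snd A A).left ⁻¹' C₀ := by
    refine hsub _ _ ((hC₀.preimage (fst A A).left.continuous).inter (hC₀.preimage (snd A A).left.continuous))
      (hC₀.preimage (fst A A * snd A A).left.continuous) fun q hq => ?_
    have h1 : (q ≫ fst A A).left pt ∈ C₀ := hq.1
    have h2 : (q ≫ snd A A).left pt ∈ C₀ := hq.2
    rw [hmem] at h1 h2
    show (q ≫ (fst A A * snd A A)).left pt ∈ C₀
    rw [hmem, MonObj.comp_mul]
    exact stab_mul h1 h2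
  have hinv2 : C₀ ⊆ ((𝟙 A)⁻¹).left ⁻¹' C₀ := by
    refine hsub _ _ hC₀ (hC₀.preimage ((𝟙 A)⁻¹).left.continuous) fun q hq => ?_
    rw [hmem] at hq
    show (q ≫ (𝟙 A)⁻¹).left pt ∈ C₀
    rw [hmem, GrpObj.comp_inv, Category.comp_id]
    exact stab_inv hq
  have h1 : unitPt A ∈ C₀ := by
    have := (hmem 1).2 (by rw [trR, MonObj.comp_one, _root_.mul_one, Over.id_left, pull_id])
    rw [← MonObj.one_eq_one] at this
    exact this
  obtain ⟨G, hG, i, hi, hici, hred, hr⟩ := MonoFibre.exists_redSubgroup C₀ hC₀ h1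
    (fun {T} a b t ha hb => by
      have hq : (lift a b).left t ∈ (fst A A).left ⁻¹' C₀ ∩ (snd A A).left ⁻¹' C₀ := by
        refine ⟨?_, ?_⟩
        · show (lift a b ≫ fst A A).left t ∈ C₀
          rw [lift_fst]; exact ha
        · show (lift a b ≫ snd A A).left t ∈ C₀
          rw [lift_snd]; exact hb
      have := hmul2 hq
      change (lift a b ≫ (fst A A * snd A A)).left t ∈ C₀ at this
      rwa [MonObj.comp_mul, lift_fst, lift_snd] at this)
    (fun {T} a t ha => by
      have := hinv2 (show a.left t ∈ C₀ from ha)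
      change (a ≫ (𝟙 A)⁻¹).left t ∈ C₀ at this
      rwa [GrpObj.comp_inv, Category.comp_id] at this)
  letI := hG
  haveI := hici
  haveI := hi
  haveI : IsProper G.hom := by rw [← Over.w i]; infer_instance
  obtain ⟨N, hN, j, hj, hjci, hNp, hNg, hNr⟩ := exists_idSubgroup (G := G)
  letI := hN
  haveI := hjci
  haveI := hj
  haveI := hNp
  haveI := hNg
  let φ : N ⟶ A := j ≫ i
  haveI : IsMonHom φ := inferInstanceAs (IsMonHom (j ≫ i))
  haveI : IsClosedImmersion φ.left := inferInstanceAs (IsClosedImmersion (j.left ≫ i.left))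
  have hA := AmpleLib.isAmple_pullback φ.left hL
  haveI : IsFinite N.hom := finite_of_invariant_ample hA fun b => by
    show pull (trR b).left (pull φ.left (cls hL.1)) = pull φ.left (cls hL.1)
    have e : trR b ≫ φ = φ ≫ trR (b ≫ φ) := by
      rw [comp_trR, trR, MonObj.mul_comp, Category.id_comp, Category.assoc]
    have hb : (b ≫ φ).left pt ∈ C₀ := by
      rw [← hr]; exact ⟨_, rfl⟩
    rw [pull_left_comp, e, ← pull_left_comp, (hmem _).1 hb]
  haveI : IsIntegral N.left := GeometricallyIntegral.isIntegral_of_subsingleton N.hom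
  haveI : Subsingleton ↥(Spec (CommRingCat.of K)) := inferInstanceAs (Subsingleton (PrimeSpectrum K))
  have hsingle : Subsingleton N.left := by
    have huniv : N.hom ⁻¹' {pt} = Set.univ := Set.eq_univ_of_forall fun w => Subsingleton.elim _ _
    have hd := N.hom.isDiscrete_preimage_singleton pt
    rw [huniv] at hd
    haveI : DiscreteTopology N.left := isDiscrete_univ_iff.1 hd
    exact PreconnectedSpace.trivial_of_discrete
  have hid : idComp G = {unitPt G} := by
    refine Set.Subset.antisymm (fun x hx => ?_) (Set.singleton_subset_iff.2 mem_irreducibleComponent)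
    have hu : unitPt G ∈ Set.range j.left := hNr ▸ mem_irreducibleComponent
    rw [← hNr] at hx
    obtain ⟨w, rfl⟩ := hx
    obtain ⟨w', hw'⟩ := hu
    exact (congrArg j.left (Subsingleton.elim w w')).trans hw'
  haveI : IsLocallyNoetherian G.left := LocallyOfFiniteType.isLocallyNoetherian G.hom
  haveI : CompactSpace G.left := QuasiCompact.compactSpace_of_compactSpace G.hom
  haveI := finite_of_dim_zero G.left (dim_eq_zero_of_idComp hid).le
  refine Set.Finite.of_finite_image (f := fun x => x.left pt) ((Set.finite_range i.left).subset ?_)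
    fun x _ y _ hxy => ?_
  · rintro _ ⟨x, hx, rfl⟩
    rw [hr]
    exact (hmem x).2 hx
  · ext1
    exact congrArg Subtype.val ((pointEquivClosedPoint A.hom).injective
      (a₁ := ⟨x.left, Over.w x⟩) (a₂ := ⟨y.left, Over.w y⟩) (Subtype.ext hxy))

end Groth.Agent.AVLib
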